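import Cfsg.Agent.Classical.HermForm

/-!
Elementary facts on a finite field with an automorphism of order two: the norm one elements, sums of four
multiples of them, and generation by norm one elements.
-/

set_option autoImplicit false

namespace Cfsg.Agent.UnitDec

open Cfsg.Agent.Classical

variable {F : Type*} [Field F] {σ : F →+* F}

theorem nrm_ne_zero {a : F} (ha : a * σ a = 1) : a ≠ 0 := fun h => by simp [h] at ha

theorem nrm_mul {a b : F} (ha : a * σ a = 1) (hb : b * σ b = 1) : a * b * σ (a * b) = 1 := by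
  rw [map_mul]; linear_combination (b * σ b) * ha + hb

theorem nrm_inv {a : F} (ha : a * σ a = 1) : a⁻¹ * σ a⁻¹ = 1 := by
  rw [map_inv₀, ← mul_inv, ha, inv_one]

theorem nrm_pow {a : F} (ha : a * σ a = 1) (n : ℕ) : a ^ n * σ (a ^ n) = 1 := by
  rw [map_pow, ← mul_pow, ha, one_pow]

theorem nrm_conj {a : F} (hσ : Herm.IsInvol σ) (ha : a * σ a = 1) : σ a * σ (σ a) = 1 := by
  rw [hσ.invol, mul_comm, ha]

theorem nrm_prod {ι : Type*} (s : Finset ι) {θ : ι → F} (h : ∀ i ∈ s, θ i * σ (θ i) = 1) :
    (∏ i ∈ s, θ i) * σ (∏ i ∈ s, θ i) = 1 := by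
  classical
  induction s using Finset.induction_on with
  | empty => simp
  | insert i s hi ih =>
    rw [Finset.prod_insert hi]
    exact nrm_mul (h i (Finset.mem_insert_self i s)) (ih fun j hj => h j (Finset.mem_insert_of_mem hj))

theorem nrm_fix (hσ : Herm.IsInvol σ) (a : F) : σ (a * σ a) = a * σ a := by
  rw [map_mul, hσ.invol, mul_comm]

theorem eq_sigma_inv {a : F} (ha : a * σ a = 1) : σ a = a⁻¹ := eq_inv_of_mul_eq_one_right ha

/-- a quadratic equation with leading coefficient non-zero has at most two solutions -/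
theorem quad_le_two {s : Finset F} {a b c : F} (ha : a ≠ 0) (h : ∀ x ∈ s, a * x ^ 2 + b * x + c = 0) :
    s.card ≤ 2 := by
  classical
  by_contra! hc
  obtain ⟨x, y, z, hx, hy, hz, hxy, hxz, hyz⟩ := Finset.two_lt_card_iff.1 hc
  have h1 : (x - y) * (a * (x + y) + b) = 0 := by linear_combination h x hx - h y hy
  have h2 : (x - z) * (a * (x + z) + b) = 0 := by linear_combination h x hx - h z hz
  have h1' := (mul_eq_zero.1 h1).resolve_left (sub_ne_zero.2 hxy)
  have h2' := (mul_eq_zero.1 h2).resolve_left (sub_ne_zero.2 hxz)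
  exact hyz (sub_eq_zero.1 ((mul_eq_zero.1 (show a * (y - z) = 0 by linear_combination h1' - h2')).resolve_left ha))

/-- the number of fixed field elements -/
noncomputable abbrev qq (σ : F →+* F) : ℕ := Nat.card (Herm.fixField σ)

variable [Fintype F] [DecidableEq F]

/-- the norm one elements -/
def U (σ : F →+* F) : Finset F := Finset.univ.filter fun a => a * σ a = 1

theorem mem_U {a : F} : a ∈ U σ ↔ a * σ a = 1 := by simp [U]

theorem one_mem_U : (1 : F) ∈ U σ := by simp [mem_U]

variable (hσ : Herm.IsInvol σ)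
include hσ

omit hσ [DecidableEq F] in
theorem two_le_qq : 2 ≤ qq σ := Finite.one_lt_card

theorem card_U : (U σ).card = qq σ + 1 := by
  show _ = Nat.card (Herm.fixField σ) + 1
  rw [← Herm.card_ker_normHom hσ, ← Nat.card_eq_finsetCard]
  exact Nat.card_congr
    { toFun := fun a => ⟨Units.mk0 a.1 (nrm_ne_zero (mem_U.1 a.2)), Units.ext (mem_U.1 a.2)⟩
      invFun := fun k => ⟨((k.1 : Fˣ) : F), mem_U.2 (congrArg Units.val k.2)⟩
      left_inv := fun a => rfl
      right_inv := fun k => Subtype.ext (Units.ext rfl) }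

omit [DecidableEq F] in
theorem card_F : Fintype.card F = qq σ ^ 2 := by
  rw [← Nat.card_eq_fintype_card, Herm.card_eq_fix_sq hσ]

theorem exists_zeta : ∃ ζ : F, ζ * σ ζ = 1 ∧ ζ ≠ 1 ∧ ζ * ζ ≠ 1 := by
  by_contra! h
  have hle : U σ ⊆ Finset.univ.filter fun a : F => a * a = 1 := fun a ha => by
    rw [Finset.mem_filter]; refine ⟨Finset.mem_univ _, ?_⟩
    by_cases h1 : a = 1
    · rw [h1, one_mul]
    · exact h a (mem_U.1 ha) h1
  have h2 : (Finset.univ.filter fun a : F => a * a = 1).card ≤ 2 :=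
    quad_le_two (a := 1) (b := 0) (c := -1) one_ne_zero fun x hx => by
      rw [Finset.mem_filter] at hx; linear_combination hx.2
  have h3 := (card_U hσ).symm.le.trans ((Finset.card_le_card hle).trans h2)
  have := two_le_qq (σ := σ)
  omega

omit [DecidableEq F] [Fintype F] hσ in
/-- at most two norm one solutions of a trace equation -/
theorem trace_le_two {k r : F} (hk : k ≠ 0) {s : Finset F} (hs : ∀ x ∈ s, x * σ x = 1 ∧ k * x + σ (k * x) = r) :
    s.card ≤ 2 :=
  quad_le_two (a := k) (b := -r) (c := σ k) hk fun x hx => by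
    obtain ⟨h1, h2⟩ := hs x hx
    rw [map_mul] at h2
    linear_combination x * h2 - σ k * h1

/-- the values of two circles -/
def pairVals (σ : F →+* F) (c d : F) : Finset F := (U σ ×ˢ U σ).image fun p => c * p.1 + d * p.2

theorem card_pairVals {c d : F} (hc : c ≠ 0) (hd : d ≠ 0) :
    qq σ * qq σ + qq σ + 2 ≤ 2 * (pairVals σ c d).card := by
  set A := pairVals σ c d
  set f : F × F → F := fun p => c * p.1 + d * p.2
  have h := Finset.card_eq_sum_card_image f (U σ ×ˢ U σ)
  rw [Finset.card_product, card_U hσ] at h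
  have h2 : ∀ T ∈ A, T ≠ 0 → ((U σ ×ˢ U σ).filter fun p => f p = T).card ≤ 2 := by
    intro T _ hT
    have hinj : Set.InjOn Prod.fst (((U σ ×ˢ U σ).filter fun p => f p = T) : Set (F × F)) := by
      intro p hp p' hp' e
      simp only [Finset.coe_filter, Set.mem_ofPred_eq] at hp hp'
      refine Prod.ext e (mul_left_cancel₀ hd ?_)
      have e1 := hp.2.trans hp'.2.symm
      simp only [f, e] at e1
      linear_combination e1
    rw [← Finset.card_image_of_injOn hinj]
    refine trace_le_two (σ := σ) (k := σ T * c) (r := T * σ T + c * σ c - d * σ d)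
      (mul_ne_zero ((map_ne_zero σ).2 hT) hc) fun x hx => ?_
    obtain ⟨⟨u, w⟩, hp, rfl⟩ := Finset.mem_image.1 hx
    rw [Finset.mem_filter, Finset.mem_product, mem_U, mem_U] at hp
    obtain ⟨⟨hu, hw⟩, hT'⟩ := hp
    refine ⟨hu, ?_⟩
    simp only [f] at hT'
    show σ T * c * u + σ (σ T * c * u) = _
    rw [← hT']
    simp only [map_add, map_mul, hσ.invol]
    linear_combination (c * σ c) * hu - (d * σ d) * hw
  have h0 : ((U σ ×ˢ U σ).filter fun p => f p = 0).card ≤ qq σ + 1 := by
    rw [← card_U hσ]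
    refine Finset.card_le_card_of_injOn Prod.fst (fun p hp => ?_) fun p hp p' hp' e => ?_
    · simp only [Finset.coe_filter, Set.mem_ofPred_eq, Finset.mem_product] at hp
      exact hp.1.1
    · simp only [Finset.coe_filter, Set.mem_ofPred_eq] at hp hp'
      refine Prod.ext e (mul_left_cancel₀ hd ?_)
      have e1 := hp.2.trans hp'.2.symm
      simp only [f, e] at e1
      linear_combination e1
  have hb : ∀ T ∈ A, ((U σ ×ˢ U σ).filter fun p => f p = T).card ≤ 2 + if T = 0 then qq σ - 1 else 0 := by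
    intro T hT
    split_ifs with e
    · subst e; have := two_le_qq (σ := σ); omega
    · exact (h2 T hT e).trans le_self_add
  have h3 := h.trans_le (Finset.sum_le_sum hb)
  rw [Finset.sum_add_distrib, Finset.sum_const, smul_eq_mul, Finset.sum_ite_eq'] at h3
  have h4 : (if (0 : F) ∈ A then qq σ - 1 else 0) ≤ qq σ - 1 := by split_ifs <;> omega
  have := two_le_qq (σ := σ)
  have h5 : (qq σ + 1) * (qq σ + 1) ≤ A.card * 2 + (qq σ - 1) := h3.trans (Nat.add_le_add_left h4 _)
  have e : (qq σ + 1) * (qq σ + 1) = qq σ * qq σ + 2 * qq σ + 1 := by ring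
  rw [e] at h5
  generalize qq σ * qq σ = N at h5 ⊢
  omega

/-- sums on four circles cover everything at least twice -/
theorem exists_four {c1 c2 c3 c4 : F} (h1 : c1 ≠ 0) (h2 : c2 ≠ 0) (h3 : c3 ≠ 0) (h4 : c4 ≠ 0) (T X : F) :
    ∃ a b c d : F, a * σ a = 1 ∧ b * σ b = 1 ∧ c * σ c = 1 ∧ d * σ d = 1 ∧
      c1 * a + c2 * b + c3 * c + c4 * d = T ∧ c1 * a + c2 * b ≠ X := by
  set A := pairVals σ c1 c2
  set A' := (pairVals σ c3 c4).image fun y => T - y
  have hA' : A'.card = (pairVals σ c3 c4).card := Finset.card_image_of_injective _ sub_right_injective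
  have h := Finset.card_inter_add_card_union A A'
  have hu := (Finset.card_le_univ (A ∪ A')).trans_eq (card_F hσ)
  rw [sq] at hu
  have e1 := card_pairVals hσ h1 h2
  have e2 := card_pairVals hσ h3 h4
  have := two_le_qq (σ := σ)
  have : 1 < (A ∩ A').card := by
    show 1 < (A ∩ A').card
    have e1' : qq σ * qq σ + qq σ + 2 ≤ 2 * A.card := e1
    omega
  obtain ⟨Y, hY, hYX⟩ := Finset.exists_mem_ne this X
  rw [Finset.mem_inter, Finset.mem_image] at hY
  obtain ⟨hYA, W, hW, rfl⟩ := hY
  obtain ⟨⟨a, b⟩, hab, e⟩ := Finset.mem_image.1 hYA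
  obtain ⟨⟨c, d⟩, hcd, e'⟩ := Finset.mem_image.1 hW
  rw [Finset.mem_product, mem_U, mem_U] at hab hcd
  refine ⟨a, b, c, d, hab.1, hab.2, hcd.1, hcd.2, ?_, ?_⟩
  · linear_combination e + e'
  · rw [show c1 * a + c2 * b = T - W from e]; exact hYX

/-- a non-trivial weighting by norm one scalars on four prescribed indices reaching a given sum -/
theorem exists_weights {ι : Type*} {s : Finset ι} (hs : s.card = 4) (c : ι → F) (hc : ∀ i ∈ s, c i ≠ 0) (T : F) :
    ∃ θ : ι → F, (∀ i, θ i * σ (θ i) = 1) ∧ (∀ i, i ∉ s → θ i = 1) ∧ (∑ i ∈ s, θ i * c i) = T ∧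
      ∃ i ∈ s, θ i ≠ 1 := by
  classical
  obtain ⟨i1, i2, i3, i4, h12, h13, h14, h23, h24, h34, rfl⟩ := Finset.card_eq_four.1 hs
  obtain ⟨a, b, c', d, ha, hb, hc', hd, hT, hX⟩ := exists_four hσ (hc i1 (by simp)) (hc i2 (by simp))
    (hc i3 (by simp)) (hc i4 (by simp)) T (c i1 + c i2)
  refine ⟨fun i => if i = i1 then a else if i = i2 then b else if i = i3 then c' else if i = i4 then d else 1,
    fun i => ?_, fun i hi => ?_, ?_, ?_⟩
  · dsimp only; split_ifs <;> simp [*]
  · simp only [Finset.mem_insert, Finset.mem_singleton, not_or] at hi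
    simp [hi]
  · rw [Finset.sum_insert (by simp [h12, h13, h14]), Finset.sum_insert (by simp [h23, h24]),
      Finset.sum_insert (by simp [h34]), Finset.sum_singleton]
    simp only [h12.symm, h13.symm, h14.symm, h23.symm, h24.symm, h34.symm, if_false, if_true]
    linear_combination hT
  · by_cases e : a = 1
    · refine ⟨i2, by simp, ?_⟩
      simp only [h12.symm, if_false, if_true]
      exact fun e' => hX (by rw [e, e', mul_one, mul_one])
    · exact ⟨i1, by simp, by simpa using e⟩

omit hσ in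
/-- a large multiplicatively closed set generates the field additively -/
theorem closure_eq {L : Subfield F} {G : Submonoid F} (hGL : ∀ x ∈ G, x ∈ L) {s : Finset F} (hs : ∀ x ∈ s, x ∈ G)
    (hcard : Nat.card L < s.card ^ 2) : ∀ z ∈ L, z ∈ AddSubmonoid.closure (G : Set F) := by
  obtain ⟨p, hp⟩ := CharP.exists F
  have hpp : p.Prime := CharP.char_is_prime F p
  set K := AddSubmonoid.closure (G : Set F)
  have hK1 : (1 : F) ∈ K := AddSubmonoid.subset_closure G.one_mem
  have hmul : ∀ x ∈ K, ∀ y ∈ K, x * y ∈ K := fun x hx y hy => by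
    have : x * y ∈ (Submonoid.subsemiringClosure G).toAddSubmonoid := by
      refine (Submonoid.subsemiringClosure G).mul_mem ?_ ?_
      · rw [← Subsemiring.mem_toAddSubmonoid, Submonoid.subsemiringClosure_toAddSubmonoid]; exact hx
      · rw [← Subsemiring.mem_toAddSubmonoid, Submonoid.subsemiringClosure_toAddSubmonoid]; exact hy
    rwa [Submonoid.subsemiringClosure_toAddSubmonoid] at this
  have hneg : ∀ x ∈ K, -x ∈ K := fun x hx => by
    have e : (p - 1) • x = -x := by
      rw [nsmul_eq_mul, Nat.cast_sub hpp.one_le, CharP.cast_eq_zero, zero_sub, Nat.cast_one, neg_one_mul]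
    exact e ▸ K.nsmul_mem hx _
  have hpow : ∀ x ∈ K, ∀ n : ℕ, x ^ n ∈ K := fun x hx n => by
    induction n with
    | zero => rw [pow_zero]; exact hK1
    | succ n ih => rw [pow_succ]; exact hmul _ ih _ hx
  have hinv : ∀ x ∈ K, x⁻¹ ∈ K := fun x hx => by
    rcases eq_or_ne x 0 with rfl | h0
    · rw [inv_zero]; exact K.zero_mem
    have h2 : 2 ≤ Fintype.card F := Fintype.one_lt_card
    have e : x ^ (Fintype.card F - 2) = x⁻¹ := by
      refine eq_inv_of_mul_eq_one_left ?_
      rw [← pow_succ, show Fintype.card F - 2 + 1 = Fintype.card F - 1 by omega]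
      exact FiniteField.pow_card_sub_one_eq_one x h0
    exact e ▸ hpow x hx _
  have hKL : ∀ x ∈ K, x ∈ L := fun x hx =>
    (AddSubmonoid.closure_le (S := L.toSubring.toAddSubgroup.toAddSubmonoid)).2 hGL hx
  intro z hz
  by_contra hzK
  have hinj : Function.Injective fun p : {x // x ∈ s} × {x // x ∈ s} =>
      (⟨p.1.1 + p.2.1 * z, L.add_mem (hGL _ (hs _ p.1.2)) (L.mul_mem (hGL _ (hs _ p.2.2)) hz)⟩ : L) := by
    rintro ⟨⟨u, hu⟩, ⟨v, hv⟩⟩ ⟨⟨u', hu'⟩, ⟨v', hv'⟩⟩ e
    have e' : u + v * z = u' + v' * z := congrArg Subtype.val e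
    have memK : ∀ x ∈ s, x ∈ K := fun x hx => AddSubmonoid.subset_closure (hs x hx)
    have hvv : v = v' := by
      by_contra hne
      refine hzK ?_
      have : z = (u' + -u) * (v + -v')⁻¹ := by
        rw [← sub_eq_add_neg, ← sub_eq_add_neg, eq_mul_inv_iff_mul_eq₀ (sub_ne_zero.2 hne)]
        linear_combination e'
      rw [this]
      exact hmul _ (K.add_mem (memK _ hu') (hneg _ (memK _ hu))) _
        (hinv _ (K.add_mem (memK _ hv) (hneg _ (memK _ hv'))))
    subst hvv
    have : u = u' := by linear_combination e'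
    subst this
    rfl
  have := Nat.card_le_card_of_injective _ hinj
  rw [Nat.card_prod, Nat.card_eq_finsetCard] at this
  rw [sq] at hcard
  omega

/-- the norm one elements generate the field additively -/
theorem closure_U (S : AddSubmonoid F) (h : ∀ a : F, a * σ a = 1 → a ∈ S) (z : F) : z ∈ S := by
  let G : Submonoid F :=
    { carrier := {a | a * σ a = 1}
      mul_mem' := fun ha hb => nrm_mul ha hb
      one_mem' := by simp }
  refine (AddSubmonoid.closure_le (S := S)).2 (show ((G : Set F)) ⊆ S from fun a ha => h a ha) ?_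
  refine closure_eq (L := ⊤) (G := G) (s := U σ) (fun _ _ => Subfield.mem_top _) (fun x hx => mem_U.1 hx) ?_ z
    (Subfield.mem_top z)
  rw [card_U hσ, Nat.card_congr (Subfield.topEquiv (K := F)).toEquiv, Nat.card_eq_fintype_card, card_F hσ]
  exact Nat.pow_lt_pow_left (Nat.lt_succ_self _) two_ne_zero

end Cfsg.Agent.UnitDec
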