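import Cfsg.Agent.ClassicalMax.Unitary
import Cfsg.Agent.UnitDec.Field

/-!
An orthonormal basis of a Hermitian space: coordinates, monomial isometries, isometries permuting a colouring
of the basis, and isotropic centres in the span of two centres.
-/

set_option autoImplicit false

namespace Cfsg.Agent.UnitDec

open Cfsg.Agent.Classical Cfsg.Agent.ClassicalMax Cfsg.Agent.ClassicalMax.Unitary Module

variable {F V ι κ : Type*} [Field F] [AddCommGroup V] [Module F V] {σ : F →+* F}

/-- preservation of the form -/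
def Iso (B : V →ₛₗ[σ] V →ₗ[F] F) (g : V ≃ₗ[F] V) : Prop := ∀ x y, B (g x) (g y) = B x y

/-- an orthonormal basis -/
abbrev IsONB [DecidableEq ι] (B : V →ₛₗ[σ] V →ₗ[F] F) (e : Basis ι F V) : Prop :=
  ∀ i j, B (e i) (e j) = if i = j then 1 else 0

/-- the classes of the colouring `β` of the basis are permuted -/
def Blk (B : V →ₛₗ[σ] V →ₗ[F] F) (e : Basis ι F V) (β : ι → κ) (g : V ≃ₗ[F] V) : Prop :=
  ∃ π : Equiv.Perm κ, ∀ i j, β j ≠ π (β i) → B (e j) (g (e i)) = 0

/-- monomial maps -/
abbrev Mono (B : V →ₛₗ[σ] V →ₗ[F] F) (e : Basis ι F V) (g : V ≃ₗ[F] V) : Prop := Blk B e (id : ι → ι) g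

variable {B : V →ₛₗ[σ] V →ₗ[F] F}

theorem apply_inv (g : V ≃ₗ[F] V) (x : V) : g (g⁻¹ x) = x := g.apply_symm_apply x

theorem inv_apply (g : V ≃ₗ[F] V) (x : V) : g⁻¹ (g x) = x := g.symm_apply_apply x

theorem Iso.one : Iso B 1 := fun _ _ => rfl

theorem Iso.mul {g h : V ≃ₗ[F] V} (hg : Iso B g) (hh : Iso B h) : Iso B (g * h) := fun x y => by
  rw [LinearEquiv.mul_apply, LinearEquiv.mul_apply, hg, hh]

theorem Iso.inv {g : V ≃ₗ[F] V} (hg : Iso B g) : Iso B g⁻¹ := fun x y => by
  rw [← hg (g⁻¹ x), apply_inv, apply_inv]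

theorem Iso.adj {g : V ≃ₗ[F] V} (hg : Iso B g) (x y : V) : B x (g y) = B (g⁻¹ x) y := by
  rw [← hg (g⁻¹ x) y, apply_inv]

theorem det_mul (g h : V ≃ₗ[F] V) :
    LinearMap.det (g * h).toLinearMap = LinearMap.det g.toLinearMap * LinearMap.det h.toLinearMap :=
  LinearMap.det_comp _ _

theorem det_conj (g h : V ≃ₗ[F] V) :
    LinearMap.det (g * h * g⁻¹).toLinearMap = LinearMap.det h.toLinearMap := by
  rw [← LinearEquiv.coe_det, ← LinearEquiv.coe_det, map_mul, map_mul, map_inv, mul_inv_cancel_comm]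

theorem det_conj' (g h : V ≃ₗ[F] V) :
    LinearMap.det (g⁻¹ * h * g).toLinearMap = LinearMap.det h.toLinearMap := by
  simpa using det_conj g⁻¹ h

variable [Fintype ι] [DecidableEq ι] {e : Basis ι F V} (hon : IsONB B e)
include hon

theorem expand (v : V) : ∑ i, B (e i) v • e i = v := by
  conv_rhs => rw [← e.sum_repr v]
  refine Finset.sum_congr rfl fun i _ => ?_
  have h : B (e i) (∑ j, e.repr v j • e j) = e.repr v i := by
    rw [map_sum]
    simp [hon i]
  rw [e.sum_repr] at h
  rw [h]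

theorem ext_co {v w : V} (h : ∀ i, B (e i) v = B (e i) w) : v = w := by
  rw [← expand hon v, ← expand hon w]
  simp only [h]

theorem co_sum (f : ι → F) (j : ι) : B (e j) (∑ i, f i • e i) = f j := by
  simp [map_sum, hon j]

theorem co_single (j i : ι) (a : F) : B (e j) (a • e i) = if j = i then a else 0 := by
  rw [map_smul, hon, smul_eq_mul, mul_ite, mul_one, mul_zero]

theorem form (v w : V) : B v w = ∑ i, σ (B (e i) v) * B (e i) w := by
  conv_lhs => rw [← expand hon v]
  simp [map_sum, LinearMap.sum_apply]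

theorem eq_single {v : V} {j : ι} (h : ∀ k, k ≠ j → B (e k) v = 0) : v = B (e j) v • e j :=
  ext_co hon fun k => by
    rw [co_single hon]
    split_ifs with hk
    · rw [hk]
    · exact h k hk

omit hon in
theorem exists_diag_equiv (θ : ι → F) (h : ∀ i, θ i ≠ 0) :
    ∃ g : V ≃ₗ[F] V, (∀ i, g (e i) = θ i • e i) ∧ LinearMap.det g.toLinearMap = ∏ i, θ i := by
  let g := e.equiv (e.unitsSMul fun i => Units.mk0 (θ i) (h i)) (Equiv.refl ι)
  have hg : ∀ i, g (e i) = θ i • e i := fun i => by
    simp [g, Basis.unitsSMul_apply, Units.smul_def]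
  refine ⟨g, hg, ?_⟩
  have hm : LinearMap.toMatrix e e (g : V →ₗ[F] V) = Matrix.diagonal θ := by
    ext i j
    rw [LinearMap.toMatrix_apply, LinearEquiv.coe_coe, hg, map_smul, Basis.repr_self]
    by_cases hij : i = j
    · subst hij; simp
    · simp [hij, Ne.symm hij]
  rw [← LinearMap.det_toMatrix e, hm, Matrix.det_diagonal]

theorem iso_of_basis {g : V ≃ₗ[F] V} (h : ∀ i j, B (g (e i)) (g (e j)) = if i = j then 1 else 0) : Iso B g :=
    fun x y => by
  have he : (B.compl₂ (g : V →ₗ[F] V)).comp (g : V →ₗ[F] V) = B :=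
    e.ext fun i => e.ext fun j => by simp [hon i j, h]
  exact LinearMap.congr_fun (LinearMap.congr_fun he x) y

theorem exists_diag (θ : ι → F) (h : ∀ i, θ i * σ (θ i) = 1) :
    ∃ g : V ≃ₗ[F] V, Iso B g ∧ (∀ i, g (e i) = θ i • e i) ∧ LinearMap.det g.toLinearMap = ∏ i, θ i := by
  obtain ⟨g, hg, hd⟩ := exists_diag_equiv (e := e) θ fun i => nrm_ne_zero (h i)
  refine ⟨g, iso_of_basis hon fun i j => ?_, hg, hd⟩
  rw [hg, hg]
  simp only [map_smulₛₗ, LinearMap.smul_apply, smul_eq_mul, RingHom.id_apply, hon i j]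
  split_ifs with hij
  · subst hij; linear_combination h i
  · simp

/-- a diagonal map, in coordinates -/
theorem co_diag {g : V ≃ₗ[F] V} {θ : ι → F} (hg : ∀ i, g (e i) = θ i • e i) (i : ι) (v : V) :
    B (e i) (g v) = θ i * B (e i) v := by
  conv_lhs => rw [← expand hon v, map_sum]
  simp [map_sum, hg, smul_smul, hon i, mul_comm]

/-- conjugate of a diagonal map -/
theorem conj_diag {g t : V ≃ₗ[F] V} (hg : Iso B g) {θ : ι → F} (ht : ∀ i, t (e i) = θ i • e i) (x : V) :
    (g * t * g⁻¹) x = ∑ i, (θ i * B (g (e i)) x) • g (e i) := by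
  rw [LinearEquiv.mul_apply, LinearEquiv.mul_apply]
  conv_lhs => rw [← expand hon (t (g⁻¹ x)), map_sum]
  refine Finset.sum_congr rfl fun i _ => ?_
  rw [map_smul, co_diag hon ht, ← hg (e i) (g⁻¹ x), apply_inv]

theorem conj_diag' {g t : V ≃ₗ[F] V} (hg : Iso B g) {θ : ι → F} (ht : ∀ i, t (e i) = θ i • e i) (x : V) :
    (g * t * g⁻¹) x - x = ∑ i, ((θ i - 1) * B (g (e i)) x) • g (e i) := by
  have hx : x = ∑ i, B (g (e i)) x • g (e i) := by
    conv_lhs => rw [← apply_inv g x, ← expand hon (g⁻¹ x), map_sum]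
    refine Finset.sum_congr rfl fun i _ => ?_
    rw [map_smul, ← hg (e i) (g⁻¹ x), apply_inv]
  rw [conj_diag hon hg ht]
  conv_lhs => arg 2; rw [hx]
  rw [← Finset.sum_sub_distrib]
  exact Finset.sum_congr rfl fun i _ => by rw [sub_mul, one_mul, sub_smul]

theorem blk_apply_mono {g : V ≃ₗ[F] V} {π : Equiv.Perm ι}
    (h : ∀ i j, id j ≠ π (id i) → B (e j) (g (e i)) = 0) (i : ι) :
    g (e i) = B (e (π i)) (g (e i)) • e (π i) :=
  eq_single hon fun k hk => h i k hk

theorem mono_coef {g : V ≃ₗ[F] V} (hg : Iso B g) {π : Equiv.Perm ι} {φ : ι → F}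
    (h : ∀ i, g (e i) = φ i • e (π i)) (i : ι) : φ i * σ (φ i) = 1 := by
  have := hg (e i) (e i)
  simp only [h, map_smulₛₗ, LinearMap.smul_apply, smul_eq_mul, RingHom.id_apply, hon, if_true, mul_one] at this
  linear_combination this

theorem mono_of_apply {g : V ≃ₗ[F] V} {π : Equiv.Perm ι} {φ : ι → F}
    (h : ∀ i, g (e i) = φ i • e (π i)) : Mono B e g :=
  ⟨π, fun i j hj => by rw [h, co_single hon]; exact if_neg hj⟩

/-- a monomial map, in coordinates -/
theorem co_mono {g : V ≃ₗ[F] V} {π : Equiv.Perm ι} {φ : ι → F} (hg : ∀ i, g (e i) = φ i • e (π i)) (i : ι) (v : V) :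
    B (e (π i)) (g v) = φ i * B (e i) v := by
  conv_lhs => rw [← expand hon v, map_sum]
  simp only [map_smul, hg, map_sum, smul_smul, hon _ _, smul_eq_mul, mul_ite, mul_one, mul_zero, π.injective.eq_iff,
    Finset.sum_ite_eq, Finset.mem_univ, if_true]
  ring

/-- an isometry is monomial when each image of a basis vector has one-element support -/
theorem mono_of_single {g : V ≃ₗ[F] V} (hg : Iso B g) (h : ∀ i, ∃ j, ∀ k, k ≠ j → B (e k) (g (e i)) = 0) :
    Mono B e g := by
  choose f hf using h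
  have hinj : Function.Injective f := fun i i' hii => by
    by_contra hne
    have h1 := hg (e i) (e i')
    rw [hon, if_neg hne, eq_single hon (hf i), eq_single hon (hf i'), ← hii] at h1
    have hn : ∀ l, f l = f i → B (e (f i)) (g (e l)) ≠ 0 := fun l hl h0 => by
      have := eq_single hon (hf l)
      rw [hl, h0, zero_smul, g.map_eq_zero_iff] at this
      exact e.ne_zero l this
    simp only [map_smulₛₗ, LinearMap.smul_apply, smul_eq_mul, RingHom.id_apply, hon, if_true, mul_one] at h1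
    rcases mul_eq_zero.1 h1 with h2 | h2
    · exact hn i' hii.symm h2
    · exact hn i rfl ((map_eq_zero σ).1 h2)
  exact ⟨Equiv.ofBijective f hinj.bijective_of_finite, fun i j hj => hf i j hj⟩

variable [Finite F] [FiniteDimensional F V] (hB : Herm.IsHerm B)
include hB

/-- a monomial isometry of determinant one with prescribed permutation, prescribed scalars away from one place -/
theorem exists_mon (π : Equiv.Perm ι) (φ : ι → F) (hφ : ∀ i, φ i * σ (φ i) = 1) (l : ι) :
    ∃ (g : V ≃ₗ[F] V) (δ : F), δ * σ δ = 1 ∧ Iso B g ∧ LinearMap.det g.toLinearMap = 1 ∧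
      ∀ i, g (e i) = (if i = l then δ * φ i else φ i) • e (π i) := by
  let b := e.reindex π.symm
  let g₀ := e.equiv (b.unitsSMul fun i => Units.mk0 (φ i) (nrm_ne_zero (hφ i))) (Equiv.refl ι)
  have h0 : ∀ i, g₀ (e i) = φ i • e (π i) := fun i => by
    simp [g₀, b, Basis.unitsSMul_apply, Units.smul_def]
  have hi0 : Iso B g₀ := iso_of_basis hon fun i j => by
    simp only [h0, map_smulₛₗ, LinearMap.smul_apply, smul_eq_mul, RingHom.id_apply, hon _ _, π.injective.eq_iff]
    split_ifs with hij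
    · subst hij; linear_combination hφ i
    · simp
  have hd : LinearMap.det g₀.toLinearMap * σ (LinearMap.det g₀.toLinearMap) = 1 := det_norm hB hi0
  set δ := σ (LinearMap.det g₀.toLinearMap)
  have hδ : δ * σ δ = 1 := nrm_conj hB.toIsInvol hd
  obtain ⟨t, hti, ht, htd⟩ := exists_diag hon (fun i => if i = l then δ else 1)
    (fun i => by split_ifs <;> simp [hδ])
  refine ⟨g₀ * t, δ, hδ, hi0.mul hti, ?_, fun i => ?_⟩
  · rw [det_mul, htd, Finset.prod_ite_eq', if_pos (Finset.mem_univ l)]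
    exact hd
  · rw [LinearEquiv.mul_apply, ht, map_smul, h0, smul_smul]
    split_ifs <;> simp

omit hon in
/-- the isotropic vectors in the span of two non-orthogonal centres are centres -/
theorem span_centres {M : Subgroup (V ≃ₗ[F] V)} {v w : V} (hv : v ∈ centres B M) (hw : w ∈ centres B M)
    (hvw : B v w ≠ 0) (a b : F) (hu : B (a • v + b • w) (a • v + b • w) = 0) : a • v + b • w ∈ centres B M := by
  rcases eq_or_ne a 0 with rfl | ha
  · rw [zero_smul, zero_add]; exact smul_mem_centres hB hw b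
  have hwv : B w v ≠ 0 := fun h => hvw ((Herm.eq_zero_comm hB).1 h)
  have key : σ a * b * B v w + a * σ b * B w v = 0 := by
    simp only [map_add, map_smulₛₗ, LinearMap.add_apply, LinearMap.smul_apply, smul_eq_mul, RingHom.id_apply, hv.1,
      hw.1, mul_zero, zero_add, add_zero] at hu
    linear_combination hu
  have hσa : σ a ≠ 0 := (map_ne_zero σ).2 ha
  have hc : b / a / B w v + σ (b / a / B w v) = 0 := by
    rw [map_div₀, map_div₀, hB.symm]
    field_simp
    linear_combination key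
  have h := smul_mem_centres hB (move_mem_centres hB hv hw hc) a
  rw [div_mul_cancel₀ _ hwv, smul_add, smul_smul, mul_div_cancel₀ _ ha] at h
  exact h

end Cfsg.Agent.UnitDec
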