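import Cfsg.Agent.UnitDec.Basic

/-!
From centres supported on two places of an orthonormal basis (and one on four places over the field with four
elements) to all isotropic vectors.
-/

set_option autoImplicit false

namespace Cfsg.Agent.UnitDec

open Cfsg.Agent.Classical Cfsg.Agent.ClassicalMax.Unitary Module

variable {F V ι : Type*} [Field F] [Fintype F] [DecidableEq F] [AddCommGroup V] [Module F V] [FiniteDimensional F V]
  {σ : F →+* F} [Fintype ι] [DecidableEq ι]

/-- the support of a vector -/
noncomputable def supp (B : V →ₛₗ[σ] V →ₗ[F] F) (e : Basis ι F V) (v : V) : Finset ι :=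
  Finset.univ.filter fun i => B (e i) v ≠ 0

variable {B : V →ₛₗ[σ] V →ₗ[F] F} {e : Basis ι F V} {M : Subgroup (V ≃ₗ[F] V)}

omit [Fintype F] [FiniteDimensional F V] [DecidableEq ι] in
theorem mem_supp {v : V} {i : ι} : i ∈ supp B e v ↔ B (e i) v ≠ 0 := by simp [supp]

omit [Fintype F] [FiniteDimensional F V] [DecidableEq ι] in
theorem notMem_supp {v : V} {i : ι} : i ∉ supp B e v ↔ B (e i) v = 0 := by simp [supp]

variable (hon : IsONB B e) (hB : Herm.IsHerm B)
include hon

omit [Fintype F] [FiniteDimensional F V] in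
theorem norm_supp (v : V) : B v v = ∑ i ∈ supp B e v, B (e i) v * σ (B (e i) v) := by
  rw [form hon v v, Finset.sum_subset (Finset.subset_univ (supp B e v)) fun i _ hi => by
    rw [notMem_supp.1 hi, zero_mul]]
  exact Finset.sum_congr rfl fun i _ => mul_comm _ _

include hB

theorem two_elts (hq : qq σ = 2) :
    (2 : F) = 0 ∧ (∀ a : F, a ≠ 0 → a * σ a = 1) := by
  have hσ := hB.toIsInvol
  have h01 : ∀ r : F, σ r = r → r = 0 ∨ r = 1 := by
    intro r hr
    by_contra! h
    have hsub : ({0, 1, r} : Finset F) ⊆ Finset.univ.filter fun x => σ x = x := by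
      intro x hx
      simp only [Finset.mem_insert, Finset.mem_singleton] at hx
      rcases hx with rfl | rfl | rfl <;> simp [hr]
    have h3 := Finset.card_le_card hsub
    rw [show (Finset.univ.filter fun x : F => σ x = x).card = qq σ from
      (Nat.card_eq_finsetCard _).symm.trans (Nat.card_congr (Equiv.subtypeEquivRight fun r => by simp [Herm.mem_fixField])),
      hq, Finset.card_insert_of_notMem (by simp [Ne.symm h.1]), Finset.card_pair (Ne.symm h.2)] at h3
    omega
  refine ⟨?_, fun a ha => (h01 _ (nrm_fix hσ a)).resolve_left (mul_ne_zero ha ((map_ne_zero σ).2 ha))⟩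
  rcases h01 (2 : F) (map_ofNat σ 2) with h | h
  · exact h
  · exact absurd (show (1 : F) = 0 by linear_combination h) one_ne_zero

variable (h2 : ∀ i j, ∀ v : V, B v v = 0 → (∀ l, l ≠ i → l ≠ j → B (e l) v = 0) → v ∈ centres B M)
include h2

theorem small (v : V) (hv : B v v = 0) (h : (supp B e v).card ≤ 2) [Nonempty ι] : v ∈ centres B M := by
  rcases (supp B e v).eq_empty_or_nonempty with h0 | ⟨i, hi⟩
  · exact h2 (_root_.Classical.arbitrary ι) (_root_.Classical.arbitrary ι) v hv fun l _ _ => notMem_supp.1 (by simp [h0])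
  by_cases h1 : ∀ j ∈ supp B e v, j = i
  · exact h2 i i v hv fun l hl _ => notMem_supp.1 fun hm => hl (h1 l hm)
  push Not at h1
  obtain ⟨j, hj, hji⟩ := h1
  refine h2 i j v hv fun l hli hlj => notMem_supp.1 fun hm => ?_
  have hsub : ({i, j, l} : Finset ι) ⊆ supp B e v := by
    intro x hx
    simp only [Finset.mem_insert, Finset.mem_singleton] at hx
    rcases hx with rfl | rfl | rfl <;> assumption
  have := Finset.card_le_card hsub
  rw [Finset.card_insert_of_notMem (by simp [hji.symm, hli.symm]), Finset.card_pair hlj.symm] at this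
  omega

/-- clearing one of two places whose norms have non-zero sum -/
theorem reduce_pair {v : V} (hv : B v v = 0) {i j : ι} (hij : i ≠ j) (hj : B (e j) v ≠ 0)
    (hs : B (e i) v * σ (B (e i) v) + B (e j) v * σ (B (e j) v) ≠ 0) (hi : B (e i) v ≠ 0)
    (ih : ∀ w : V, B w w = 0 → (supp B e w).card < (supp B e v).card → w ∈ centres B M) : v ∈ centres B M := by
  have hσ := hB.toIsInvol
  set a := B (e i) v
  set b := B (e j) v
  obtain ⟨ρ, hρ⟩ := Herm.exists_norm hσ (a := a * σ a + b * σ b) (by rw [map_add, nrm_fix hσ, nrm_fix hσ])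
  have hρ0 : ρ ≠ 0 := fun h => hs (by rw [← hρ, h, zero_mul])
  let P := Submodule.span F ({e i, e j} : Set V)
  have hei : e i ∈ P := Submodule.subset_span (by simp)
  have hej : e j ∈ P := Submodule.subset_span (by simp)
  obtain ⟨t, ht, htu⟩ := Herm.plane_trans hB hei hej (α := a / ρ) (β := b / ρ) (by rw [hon, if_pos rfl]) (by rw [hon, if_pos rfl])
    (by rw [hon, if_neg hij]) (by
      have hσρ : σ ρ ≠ 0 := (map_ne_zero σ).2 hρ0
      rw [map_div₀, map_div₀]; field_simp; linear_combination -hρ)
  have hPc : ∀ w ∈ P, ∀ l, l ≠ i → l ≠ j → B (e l) w = 0 := fun w hw l hli hlj => by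
    obtain ⟨x, y, rfl⟩ := Submodule.mem_span_pair.1 hw
    simp [hon l i, hon l j, hli, hlj]
  have htM : t ∈ M := by
    refine (show Herm.TUon B P ≤ M from (Subgroup.closure_le M).2 ?_) ht
    rintro g ⟨w, hw, c, hw0, hc, hg⟩
    have : g = Herm.tvU hw0 c := LinearEquiv.ext fun x => hg x
    rw [this]
    exact (h2 i j w hw0 fun l hli hlj => hPc w hw l hli hlj).2 hw0 c hc
  have hti : Iso B t := (Herm.TUon_le_suG hB P ht).1
  set z := v - ρ • ((a / ρ) • e i + (b / ρ) • e j) with hz
  have hzc : ∀ l, B (e l) z = if l = i ∨ l = j then 0 else B (e l) v := fun l => by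
    simp only [hz, smul_add, smul_smul, mul_div_cancel₀ _ hρ0, map_sub, map_add, co_single hon]
    by_cases h1 : l = i
    · subst h1; simp [hij, a]
    by_cases h1' : l = j
    · subst h1'; simp [hij.symm, b]
    simp [h1, h1']
  have htz : t z = z := Herm.TUon_fix ht fun w hw => by
    rw [form hon w z]
    refine Finset.sum_eq_zero fun l _ => ?_
    by_cases h1 : l = i ∨ l = j
    · rw [hzc, if_pos h1, mul_zero]
    · rw [not_or] at h1; rw [hPc w hw l h1.1 h1.2, map_zero, zero_mul]
  set v' := ρ • e i + z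
  have htv : t v' = v := by
    simp only [v']; rw [map_add, map_smul, htu, htz, hz]; abel
  rw [← htv]
  refine map_mem_centres hB (ih v' ?_ ?_) htM hti
  · rw [← hti v' v', htv, hv]
  · refine Finset.card_lt_card ((Finset.ssubset_iff_of_subset fun l hl => ?_).2 ⟨j, mem_supp.2 hj, ?_⟩)
    · rw [mem_supp] at hl ⊢
      by_cases h1 : l = i
      · subst h1; exact hi
      by_cases h1' : l = j
      · subst h1'; exact hj
      simpa [v', co_single hon, hzc, h1, h1'] using hl
    · rw [notMem_supp]
      simp [v', co_single hon, hzc, hij.symm]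

/-- more than four elements -/
theorem all_big (hq : 3 ≤ qq σ) [Nonempty ι] : ∀ v : V, B v v = 0 → v ∈ centres B M := by
  have hσ := hB.toIsInvol
  suffices ∀ n, ∀ v : V, B v v = 0 → (supp B e v).card = n → v ∈ centres B M from fun v hv => this _ v hv rfl
  intro n
  induction n using Nat.strong_induction_on with
  | _ n IH => ?_
  intro v hv hcard
  have ih : ∀ w : V, B w w = 0 → (supp B e w).card < n → w ∈ centres B M := fun w hw h => IH _ h w hw rfl
  rcases Nat.lt_or_ge n 3 with h | h
  · exact small hon hB h2 v hv (by omega)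
  obtain ⟨i, j, k, hi, hj, hk, hij, hik, hjk⟩ := Finset.two_lt_card_iff.1 (show 2 < (supp B e v).card by omega)
  rw [mem_supp] at hi hj hk
  set a := B (e i) v
  set b := B (e j) v
  set c := B (e k) v
  by_cases hsij : a * σ a + b * σ b ≠ 0
  · exact reduce_pair hon hB h2 hv hij hj hsij hi (hcard ▸ ih)
  by_cases hsik : a * σ a + c * σ c ≠ 0
  · exact reduce_pair hon hB h2 hv hik hk hsik hi (hcard ▸ ih)
  push Not at hsij hsik
  -- a centre on the places i, j moves the norm at i
  obtain ⟨β, hβ, hW⟩ : ∃ β : F, β * σ β = -1 ∧ a + σ β * b ≠ 0 := by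
    obtain ⟨β, hβ⟩ := Herm.exists_norm hσ (a := (-1 : F)) (by simp)
    obtain ⟨ζ, hζ, hζ1, -⟩ := exists_zeta (σ := σ) hσ
    by_cases hW : a + σ β * b = 0
    · refine ⟨β * ζ, by rw [map_mul]; linear_combination (ζ * σ ζ) * hβ - hζ, fun h' => ?_⟩
      rw [map_mul] at h'
      have hσβ : σ β ≠ 0 := fun h0 => by rw [h0, mul_zero] at hβ; simp at hβ
      have : σ ζ = 1 := mul_right_cancel₀ (mul_ne_zero hσβ hj) (by linear_combination h' - hW)
      exact hζ1 (by rw [← hσ.invol ζ, this, map_one])
    · exact ⟨β, hβ, hW⟩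
  set W := a + σ β * b
  set w := e i + β • e j
  have hwc : ∀ l, B (e l) w = (if l = i then 1 else 0) + if l = j then β else 0 := fun l => by
    simp [w, co_single hon, hon l i]
  have hww : B w w = 0 := by
    simp [w, hon i i, hon i j, hon j i, hon j j, hij, hij.symm]; linear_combination hβ
  have hwC : w ∈ centres B M := h2 i j w hww fun l hli hlj => by simp [hwc, hli, hlj]
  have hBw : B w v = W := by simp [w, W, a, b]
  obtain ⟨k0, hk0, hk0s⟩ := Herm.exists_skew hσ
  obtain ⟨r, hr, hr0, hr1⟩ : ∃ r : F, σ r = r ∧ r ≠ 0 ∧ r * k0 * (W * σ W) ≠ W * σ a - σ W * a := by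
    obtain ⟨r, hr, hne⟩ := Finset.exists_mem_notMem_of_card_lt_card
      (s := ({0, (W * σ a - σ W * a) / (k0 * (W * σ W))} : Finset F)) (t := Finset.univ.filter fun x : F => σ x = x) (by
        rw [show (Finset.univ.filter fun x : F => σ x = x).card = qq σ from
          (Nat.card_eq_finsetCard _).symm.trans (Nat.card_congr (Equiv.subtypeEquivRight fun r => by simp [Herm.mem_fixField]))]
        exact lt_of_le_of_lt Finset.card_le_two hq)
    simp only [Finset.mem_insert, Finset.mem_singleton, not_or] at hne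
    refine ⟨r, (Finset.mem_filter.1 hr).2, hne.1, fun h1 => hne.2 ?_⟩
    rw [eq_div_iff (mul_ne_zero hk0 (mul_ne_zero hW ((map_ne_zero σ).2 hW)))]
    linear_combination h1
  set d := r * k0
  have hd : d + σ d = 0 := by rw [map_mul, hr, hk0s]; ring
  set v' := v + (d * B w v) • w with hv'
  have hv'c : ∀ l, B (e l) v' = B (e l) v + d * W * ((if l = i then 1 else 0) + if l = j then β else 0) := fun l => by
    simp only [hv', map_add, map_smul, smul_eq_mul, hBw, hwc]
  have hv'v : B v' v' = 0 := by
    have := Herm.tvU_isometry hB hww hd v v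
    rw [Herm.tvU_apply, hv] at this; exact this
  have hsub : supp B e v' ⊆ supp B e v := fun l hl => by
    rw [mem_supp] at hl ⊢
    by_cases h1 : l = i
    · subst h1; exact hi
    by_cases h1' : l = j
    · subst h1'; exact hj
    simpa [hv'c, h1, h1'] using hl
  have hv'C : v' ∈ centres B M := by
    by_cases h0 : B (e i) v' = 0
    · exact ih v' hv'v (hcard ▸ Finset.card_lt_card ((Finset.ssubset_iff_of_subset hsub).2
        ⟨i, mem_supp.2 hi, notMem_supp.2 h0⟩))
    have hk' : B (e k) v' = c := by rw [hv'c, if_neg hik.symm, if_neg hjk.symm]; simp [c]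
    refine reduce_pair hon hB h2 hv'v hik (hk'.symm ▸ hk) ?_ h0 fun u hu hlt =>
      ih u hu (lt_of_lt_of_le hlt (hcard ▸ Finset.card_le_card hsub))
    intro h1
    rw [hk', hv'c, if_pos rfl, if_neg hij, add_zero, mul_one, map_add, map_mul, eq_neg_of_add_eq_zero_right hd] at h1
    have h3 : d * (W * σ a - σ W * a - d * (W * σ W)) = 0 := by linear_combination h1 - hsik
    exact hr1 (sub_eq_zero.1 ((mul_eq_zero.1 h3).resolve_left (mul_ne_zero hr0 hk0))).symm
  have := move_mem_centres hB hv'C hwC (c := -d) (by rw [map_neg]; linear_combination -hd)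
  have e1 : B w v' = B w v := by simp [hv', hww]
  rw [e1, hv', neg_mul, neg_smul, add_neg_cancel_right] at this
  exact this

/-- over four elements a place can be exchanged -/
theorem shift (hq : qq σ = 2) {v : V} (hv : v ∈ centres B M) {i j : ι} (hij : i ≠ j) (hj : B (e j) v = 0) {φ : F}
    (hφ : φ ≠ 0) : ∃ v' ∈ centres B M, B (e i) v' = 0 ∧ B (e j) v' = φ * B (e i) v ∧
      ∀ l, l ≠ i → l ≠ j → B (e l) v' = B (e l) v := by
  obtain ⟨h20, hnrm⟩ := two_elts hon hB hq
  set w := e i + φ • e j
  have hww : B w w = 0 := by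
    simp [w, hon i i, hon i j, hon j i, hon j j, hij, hij.symm]; linear_combination hnrm φ hφ + h20
  have hwC : w ∈ centres B M := h2 i j w hww fun l hli hlj => by simp [w, co_single hon, hon l i, hli, hlj]
  have h1 := move_mem_centres hB hv hwC (c := 1) (by rw [map_one]; linear_combination h20)
  have hBw : B w v = B (e i) v := by simp [w, hj]
  rw [hBw, one_mul] at h1
  refine ⟨_, h1, ?_, ?_, fun l hli hlj => ?_⟩
  · simp [w, co_single hon, hon i i, hij]; linear_combination (B (e i) v) * h20
  · simp [w, co_single hon, hon j i, hij.symm, hj, mul_comm]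
  · simp [w, co_single hon, hon l i, hli, hlj]

/-- the field with four elements -/
theorem all_small (hn : 5 ≤ Fintype.card ι) (hq : qq σ = 2) {v4 : V} (hv4 : v4 ∈ centres B M)
    (h4 : (supp B e v4).card = 4) : ∀ v : V, B v v = 0 → v ∈ centres B M := by
  have : Nonempty ι := Fintype.card_pos_iff.1 (by omega)
  obtain ⟨h20, hnrm⟩ := two_elts hon hB hq
  have hσ := hB.toIsInvol
  -- all vectors with support of four places
  have four : ∀ v : V, (supp B e v).card = 4 → v ∈ centres B M := by
    intro v hv
    suffices ∀ m, ∀ u : V, u ∈ centres B M → (supp B e u).card = 4 →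
        (Finset.univ.filter fun l => B (e l) u ≠ B (e l) v).card = m → v ∈ centres B M from this _ v4 hv4 h4 rfl
    intro m
    induction m using Nat.strong_induction_on with
    | _ m IH => ?_
    intro u hu hu4 hm
    by_cases hm0 : ∀ l, B (e l) u = B (e l) v
    · rwa [ext_co hon hm0] at hu
    push Not at hm0
    by_cases hsub : supp B e u ⊆ supp B e v
    · have hsupp : supp B e u = supp B e v := Finset.eq_of_subset_of_card_le hsub (by omega)
      obtain ⟨i, hi⟩ := hm0
      have hiu : B (e i) u ≠ 0 := fun h0 => hi (by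
        rw [h0]; exact (notMem_supp.1 (hsupp ▸ notMem_supp.2 h0)).symm)
      obtain ⟨j, hj⟩ := Finset.card_pos.1 (show 0 < (Finset.univ \ supp B e u).card by
        rw [Finset.card_sdiff_of_subset (Finset.subset_univ _), Finset.card_univ]; omega)
      have hj' : B (e j) u = 0 := notMem_supp.1 (Finset.mem_sdiff.1 hj).2
      have hji : j ≠ i := fun h => hiu (h ▸ hj')
      obtain ⟨u1, hu1, a1, b1, c1⟩ := shift hon hB h2 hq hu (Ne.symm hji) hj' (one_ne_zero)
      have hiv : B (e i) v ≠ 0 := mem_supp.1 (hsupp ▸ mem_supp.2 hiu)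
      obtain ⟨u2, hu2, a2, b2, c2⟩ := shift hon hB h2 hq hu1 hji a1
        (φ := B (e i) v / B (e i) u) (div_ne_zero hiv hiu)
      rw [b1, one_mul, div_mul_cancel₀ _ hiu] at b2
      have hother : ∀ l, l ≠ i → B (e l) u2 = B (e l) u := fun l hl => by
        by_cases hlj : l = j
        · rw [hlj, a2, hj']
        · rw [c2 l hlj hl, c1 l hl hlj]
      refine IH _ (hm ▸ Finset.card_lt_card ((Finset.ssubset_iff_of_subset fun l hl => ?_).2
        ⟨i, Finset.mem_filter.2 ⟨Finset.mem_univ _, hi⟩, ?_⟩)) u2 hu2 ?_ rfl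
      · rw [← hu4]
        congr 1
        ext l
        rw [mem_supp, mem_supp]
        by_cases hli : l = i
        · subst hli; rw [b2]; exact iff_of_true hiv hiu
        · rw [hother l hli]
      · rw [Finset.mem_filter] at hl ⊢
        refine ⟨hl.1, ?_⟩
        by_cases hli : l = i
        · subst hli; exact hi
        · rw [← hother l hli]; exact hl.2
      · simp [b2]
    · obtain ⟨i, hiu, hiv⟩ := Finset.not_subset.1 hsub
      have hsub' : ¬ supp B e v ⊆ supp B e u := fun h =>
        hiv ((Finset.eq_of_subset_of_card_le h (by omega)).symm ▸ hiu)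
      obtain ⟨j, hjv, hju⟩ := Finset.not_subset.1 hsub'
      rw [mem_supp] at hiu hjv
      rw [notMem_supp] at hiv hju
      have hij : i ≠ j := fun h => hiu (h ▸ hju)
      obtain ⟨u1, hu1, a1, b1, c1⟩ := shift hon hB h2 hq hu hij hju (φ := B (e j) v / B (e i) u) (div_ne_zero hjv hiu)
      rw [div_mul_cancel₀ _ hiu] at b1
      refine IH _ (hm ▸ Finset.card_lt_card ((Finset.ssubset_iff_of_subset fun l hl => ?_).2
        ⟨i, Finset.mem_filter.2 ⟨Finset.mem_univ _, hiv.symm ▸ hiu⟩, ?_⟩)) u1 hu1 ?_ rfl
      · have : supp B e u1 = insert j ((supp B e u).erase i) := by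
          ext l
          rw [Finset.mem_insert, Finset.mem_erase, mem_supp, mem_supp]
          by_cases hli : l = i
          · subst hli; simp [a1, hij]
          by_cases hlj : l = j
          · subst hlj; simp [b1, hjv]
          simp [c1 l hli hlj, hli, hlj]
        rw [this, Finset.card_insert_of_notMem (fun h => (mem_supp.1 (Finset.mem_of_mem_erase h)) hju),
          Finset.card_erase_of_mem (mem_supp.2 hiu), hu4]
      · rw [Finset.mem_filter] at hl ⊢
        refine ⟨hl.1, ?_⟩
        by_cases hli : l = i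
        · rw [hli, hiv]; exact hiu
        by_cases hlj : l = j
        · rw [hlj, b1] at hl; exact absurd rfl hl.2
        rw [← c1 l hli hlj]; exact hl.2
      · simp [a1, hiv]
  obtain ⟨ω, hω, hω1, hω2⟩ := exists_zeta (σ := σ) hσ
  have hω0 := nrm_ne_zero hω
  have htr : ω + σ ω = 1 := by
    have hne : ω + σ ω ≠ 0 := fun h => hω2 (by linear_combination ω * h - hω - h20)
    have := hnrm (ω + σ ω) hne
    rw [map_add, hσ.invol] at this
    have h3 : (ω + σ ω - 1) * (ω + σ ω - 1) = 0 := by linear_combination this - (ω + σ ω - 1) * h20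
    exact sub_eq_zero.1 (mul_self_eq_zero.1 h3)
  have hsq : ω * ω = ω + 1 := by linear_combination ω * htr - hω - h20
  suffices ∀ n, ∀ v : V, B v v = 0 → (supp B e v).card = n → v ∈ centres B M from fun v hv => this _ v hv rfl
  intro n
  induction n using Nat.strong_induction_on with
  | _ n IH => ?_
  intro v hv hcard
  rcases Nat.lt_or_ge n 3 with h | h
  · exact small hon hB h2 v hv (by omega)
  have hsum : (n : F) = 0 := by
    rw [norm_supp hon v, Finset.sum_congr rfl fun i hi => hnrm _ (mem_supp.1 hi)] at hv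
    simpa [hcard] using hv
  have hn4 : 4 ≤ n := by
    by_contra h4'
    have : n = 3 := by omega
    rw [this] at hsum
    exact one_ne_zero (show (1 : F) = 0 by push_cast at hsum; linear_combination hsum - h20)
  rcases hn4.eq_or_lt with h4' | h5
  · exact four v (hcard.trans h4'.symm)
  obtain ⟨S, hS, hS4⟩ := Finset.exists_subset_card_eq (show 4 ≤ (supp B e v).card by omega)
  obtain ⟨i1, i2, i3, i4, h12, h13, h14, h23, h24, h34, rfl⟩ := Finset.card_eq_four.1 hS4
  have hm : ∀ l ∈ ({i1, i2, i3, i4} : Finset ι), B (e l) v ≠ 0 := fun l hl => mem_supp.1 (hS hl)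
  set a1 := B (e i1) v
  set a2 := B (e i2) v
  set a3 := B (e i3) v
  set a4 := B (e i4) v
  have n1 : a1 ≠ 0 := hm i1 (by simp)
  have n2 : a2 ≠ 0 := hm i2 (by simp)
  have n3 : a3 ≠ 0 := hm i3 (by simp)
  have n4 : a4 ≠ 0 := hm i4 (by simp)
  let φ : ι → F := fun l => if l = i1 then 1 else if l = i2 then ω else if l = i3 then σ ω else if l = i4 then 1 else 0
  let w : V := ∑ l, (φ l * B (e l) v) • e l
  have hwc : ∀ l, B (e l) w = φ l * B (e l) v := fun l => co_sum hon _ l
  have hsw : supp B e w = {i1, i2, i3, i4} := by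
    ext l
    rw [mem_supp, hwc, mul_ne_zero_iff]
    simp only [φ, Finset.mem_insert, Finset.mem_singleton]
    by_cases g1 : l = i1
    · subst g1; simpa using n1
    by_cases g2 : l = i2
    · subst g2; simp [g1, hω0]; exact n2
    by_cases g3 : l = i3
    · subst g3; simp [g1, g2, hω0]; exact n3
    by_cases g4 : l = i4
    · subst g4; simp [g1, g2, g3]; exact n4
    simp [g1, g2, g3, g4]
  have hwC : w ∈ centres B M := four w (by rw [hsw, hS4])
  have hBw : B w v = 1 := by
    rw [form hon w v, ← Finset.sum_subset (Finset.subset_univ ({i1, i2, i3, i4} : Finset ι)) fun l _ hl => by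
      rw [← hsw, notMem_supp] at hl; rw [hl, map_zero, zero_mul],
      Finset.sum_insert (by simp [h12, h13, h14]), Finset.sum_insert (by simp [h23, h24]),
      Finset.sum_insert (by simp [h34]), Finset.sum_singleton]
    simp only [hwc, φ, h12.symm, h13.symm, h14.symm, h23.symm, h24.symm, h34.symm, if_false, if_true, map_mul, one_mul,
      hσ.invol]
    linear_combination hnrm a1 n1 + hnrm a4 n4 + σ ω * hnrm a2 n2 + ω * hnrm a3 n3 + htr + h20
  set v' := v + w with hv'
  have hv'C0 : B v' v' = 0 := by
    have := Herm.tvU_isometry hB hwC.1 (c := 1) (by rw [map_one]; linear_combination h20) v v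
    rw [Herm.tvU_apply, hBw, mul_one, one_smul, hv] at this
    exact this
  have hz : ∀ l, l = i1 ∨ l = i4 → B (e l) v' = 0 := by
    rintro l (rfl | rfl) <;> rw [hv', map_add, hwc] <;> simp only [φ, h14.symm, h24.symm, h34.symm, if_false, if_true]
    · linear_combination a1 * h20
    · linear_combination a4 * h20
  have hlt : (supp B e v').card < n := hcard ▸ Finset.card_lt_card ((Finset.ssubset_iff_of_subset fun l hl => by
      rw [mem_supp, hv', map_add, hwc] at hl
      rw [mem_supp]
      intro h0; rw [h0] at hl; simp at hl).2 ⟨i1, hS (by simp), notMem_supp.2 (hz i1 (Or.inl rfl))⟩)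
  have hfin := move_mem_centres hB (IH _ hlt v' hv'C0 rfl) hwC (c := 1) (by rw [map_one]; linear_combination h20)
  rw [show B w v' = 1 by rw [hv', map_add, hBw, hwC.1, add_zero], mul_one, one_smul] at hfin
  convert hfin using 1
  rw [hv', add_assoc, ← two_smul F w, h20, zero_smul, add_zero]

end Cfsg.Agent.UnitDec
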