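import Cfsg.Agent.UnitDec.MonoMul
import Cfsg.Agent.UnitDec.Fill

/-!
Blocks of dimension at least two: a group properly containing the stabiliser of an orthogonal decomposition
contains all transvections.
-/

set_option autoImplicit false

namespace Cfsg.Agent.UnitDec

open Cfsg.Agent.Classical Cfsg.Agent.ClassicalMax.Unitary Module

variable {F V : Type*} [Field F] [Fintype F] [DecidableEq F] [AddCommGroup V] [Module F V] [FiniteDimensional F V]
  {σ : F →+* F} {t k : ℕ}

/-- the standing hypotheses for blocks -/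
structure BlkHyp (B : V →ₛₗ[σ] V →ₗ[F] F) (e : Basis (Fin t × Fin k) F V) (M : Subgroup (V ≃ₗ[F] V)) : Prop where
  herm : Herm.IsHerm B
  onb : IsONB B e
  k2 : 2 ≤ k
  t2 : 2 ≤ t
  big : 5 ≤ t * k
  hex : ¬ (k = 2 ∧ qq σ = 2)
  blk_mem : ∀ g, Iso B g → LinearMap.det g.toLinearMap = 1 → Blk B e Prod.fst g → g ∈ M

/-- the i-th block -/
def blockSub (B : V →ₛₗ[σ] V →ₗ[F] F) (e : Basis (Fin t × Fin k) F V) (i : Fin t) : Submodule F V where
  carrier := {w | ∀ l, l.1 ≠ i → B (e l) w = 0}
  add_mem' {a b} ha hb := fun l hl => by rw [map_add, ha l hl, hb l hl, add_zero]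
  zero_mem' := fun l _ => map_zero _
  smul_mem' c a ha := fun l hl => by rw [map_smul, ha l hl, smul_zero]

variable {B : V →ₛₗ[σ] V →ₗ[F] F} {e : Basis (Fin t × Fin k) F V} {M : Subgroup (V ≃ₗ[F] V)} (H : BlkHyp B e M)
include H

theorem mem_block_basis (l : Fin t × Fin k) : e l ∈ blockSub B e l.1 := fun m hm => by
  rw [H.onb, if_neg fun h => hm (congrArg Prod.fst h)]

theorem block_perp {i : Fin t} {w : V} (hw : w ∈ blockSub B e i) {x : V} (hx : ∀ r, B (e (i, r)) x = 0) : B w x = 0 := by
  rw [form H.onb w x]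
  refine Finset.sum_eq_zero fun l _ => ?_
  by_cases hl : l.1 = i
  · obtain ⟨l1, l2⟩ := l; simp only at hl; subst hl; rw [hx, mul_zero]
  · rw [hw l hl, map_zero, zero_mul]

theorem block_orth {i j : Fin t} (hij : i ≠ j) {x y : V} (hx : x ∈ blockSub B e i) (hy : y ∈ blockSub B e j) : B x y = 0 :=
  block_perp H hx fun r => hy (i, r) hij

theorem block_centre {i : Fin t} {v : V} (hv : B v v = 0) (hvi : v ∈ blockSub B e i) : v ∈ centres B M := by
  refine ⟨hv, fun hv' c hc => H.blk_mem _ (Herm.tvU_isometry H.herm hv' hc) ?_ ⟨1, fun m l hl => ?_⟩⟩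
  · simpa [Units.ext_iff] using (Herm.tvU_mem H.herm hv' hc).2
  rw [Herm.tvU_apply, map_add, map_smul, H.onb, if_neg fun h => hl (congrArg Prod.fst h), zero_add, smul_eq_mul]
  by_cases hm : m.1 = i
  · rw [hvi l (by simpa [hm] using hl), mul_zero]
  · rw [(Herm.eq_zero_comm H.herm).1 (hvi m hm)]; ring

/-- an anisotropic vector of the block orthogonal to a given anisotropic one -/
theorem exists_perp_aniso {i : Fin t} {p : V} (hp : p ∈ blockSub B e i) (hpp : B p p ≠ 0) :
    ∃ z ∈ blockSub B e i, B p z = 0 ∧ B z z ≠ 0 := by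
  let r0 : Fin k := ⟨0, by have := H.k2; omega⟩
  let r1 : Fin k := ⟨1, by have := H.k2; omega⟩
  let zz : Fin k → V := fun r => e (i, r) - (B p (e (i, r)) / B p p) • p
  have hzz : ∀ r, zz r ∈ blockSub B e i ∧ B p (zz r) = 0 := fun r =>
    ⟨Submodule.sub_mem _ (mem_block_basis H (i, r)) (Submodule.smul_mem _ _ hp), by
      simp only [zz, map_sub, map_smul, smul_eq_mul, div_mul_cancel₀ _ hpp, sub_self]⟩
  obtain ⟨r, hr⟩ : ∃ r, zz r ≠ 0 := by
    by_contra! h
    have h0 := sub_eq_zero.1 (h r0)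
    have h1 := sub_eq_zero.1 (h r1)
    have hne : (i, r0) ≠ (i, r1) := by simp [r0, r1, Fin.ext_iff]
    have e1 := H.onb (i, r0) (i, r1)
    rw [if_neg hne, h0, h1] at e1
    simp only [map_smulₛₗ, LinearMap.smul_apply, smul_eq_mul, RingHom.id_apply] at e1
    rcases mul_eq_zero.1 e1 with h2 | h2
    · first
        | (rw [h2, zero_smul] at h1; exact e.ne_zero _ h1)
        | (rw [(map_eq_zero σ).1 h2, zero_smul] at h0; exact e.ne_zero _ h0)
    · rcases mul_eq_zero.1 h2 with h3 | h3
      · first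
          | (rw [h3, zero_smul] at h1; exact e.ne_zero _ h1)
          | (rw [(map_eq_zero σ).1 h3, zero_smul] at h0; exact e.ne_zero _ h0)
      · exact hpp h3
  obtain ⟨s, hs⟩ : ∃ s, B (zz r) (e (i, s)) ≠ 0 := by
    by_contra! h
    refine hr (ext_co H.onb fun l => ?_)
    rw [map_zero]
    by_cases hl : l.1 = i
    · obtain ⟨l1, l2⟩ := l; simp only at hl; subst hl
      exact (Herm.eq_zero_comm H.herm).1 (h l2)
    · exact (hzz r).1 l hl
  obtain ⟨v, hv, hvv⟩ := Herm.exists_anisotropic H.herm (blockSub B e i ⊓ LinearMap.ker (B p))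
    ⟨zz r, hzz r, zz s, hzz s, by
      simp only [zz, map_sub (B (zz r)), map_smul, smul_eq_mul]
      rw [(Herm.eq_zero_comm H.herm).1 (hzz r).2, mul_zero, sub_zero]; exact hs⟩
  exact ⟨v, hv.1, hv.2, hvv⟩

/-- a vector pairing to one with a given vector and having prescribed norm -/
theorem exists_dual_norm {i : Fin t} {p : V} (hp : p ∈ blockSub B e i) (hp0 : p ≠ 0) {r : F} (hr : σ r = r) :
    ∃ a ∈ blockSub B e i, B a p = 1 ∧ B a a = r := by
  have hσ := H.herm.toIsInvol
  by_cases hpp : B p p = 0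
  · obtain ⟨l, hl⟩ : ∃ l, B (e l) p ≠ 0 := by
      by_contra! h; exact hp0 (ext_co H.onb fun l => by rw [h l, map_zero])
    have hli : l.1 = i := by_contra fun h => hl (hp l h)
    set f := (σ (B (e l) p))⁻¹ • e l
    have hfp : B f p = 1 := by
      rw [map_smulₛₗ, LinearMap.smul_apply, smul_eq_mul, map_inv₀, hσ.invol, inv_mul_cancel₀ hl]
    have hpf : B p f = 1 := by rw [← H.herm.symm, hfp, map_one]
    obtain ⟨s, hs⟩ := Herm.exists_trace hσ (a := r - B f f) (by rw [map_sub, hr, Herm.fix_self H.herm])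
    refine ⟨f + s • p, Submodule.add_mem _ (Submodule.smul_mem _ _ (hli ▸ mem_block_basis H l)) (Submodule.smul_mem _ _ hp),
      by simp [hfp, hpp], ?_⟩
    simp [hfp, hpf, hpp]
    linear_combination hs
  obtain ⟨z, hz, hpz, hzz⟩ := exists_perp_aniso H hp hpp
  obtain ⟨s, hs⟩ := Herm.exists_norm hσ (a := (r - (B p p)⁻¹) / B z z) (by
    rw [map_div₀, map_sub, hr, map_inv₀, Herm.fix_self H.herm, Herm.fix_self H.herm])
  rw [eq_div_iff hzz] at hs
  have hzp := (Herm.eq_zero_comm H.herm).1 hpz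
  refine ⟨(B p p)⁻¹ • p + s • z, Submodule.add_mem _ (Submodule.smul_mem _ _ hp) (Submodule.smul_mem _ _ hz),
    by simp [hzp, Herm.fix_self H.herm, inv_mul_cancel₀ hpp], ?_⟩
  simp only [map_add, map_smulₛₗ, LinearMap.add_apply, LinearMap.smul_apply, smul_eq_mul, RingHom.id_apply, hzp, hpz,
    map_inv₀, Herm.fix_self H.herm, mul_zero, add_zero, zero_add]
  field_simp
  field_simp at hs
  linear_combination hs

/-- moving one component inside its block -/
theorem local_move {i : Fin t} {p p' : V} (hp : p ∈ blockSub B e i) (hp' : p' ∈ blockSub B e i) (hn : B p' p' = B p p)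
    (hn0 : B p p ≠ 0) : ∃ g ∈ M, Iso B g ∧ g p = p' ∧ ∀ l, l.1 ≠ i → g (e l) = e l := by
  classical
  have hB := H.herm
  set n := B p p
  let W : Submodule F V := Submodule.span F (e '' {l | l.1 ≠ i})
  have hpW : ∀ q ∈ blockSub B e i, ∀ w ∈ W, B q w = 0 := fun q hq w hw => by
    refine (show W ≤ LinearMap.ker (B q) from Submodule.span_le.2 ?_) hw
    rintro _ ⟨l, hl, rfl⟩
    exact (Herm.eq_zero_comm hB).1 (hq l hl)
  let X := Submodule.span F {p} ⊔ W
  let Φ : V →ₗ[F] V := LinearMap.id + (n⁻¹ • B p).smulRight (p' - p)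
  have hΦ : ∀ x, Φ x = x + (n⁻¹ * B p x) • (p' - p) := fun x => by simp [Φ, smul_sub, mul_smul]
  have hdec : ∀ x : X, ∃ c : F, ∃ w ∈ W, (x : V) = c • p + w ∧ Φ x = c • p' + w := fun x => by
    obtain ⟨a, ha, w, hw, hx⟩ := Submodule.mem_sup.1 x.2
    obtain ⟨c, rfl⟩ := Submodule.mem_span_singleton.1 ha
    refine ⟨c, w, hw, hx.symm, ?_⟩
    rw [hΦ, ← hx, map_add, map_smul, hpW p hp w hw, add_zero, smul_eq_mul]
    change _ + (n⁻¹ * (c * n)) • _ = _
    rw [mul_comm c, inv_mul_cancel_left₀ hn0]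
    module
  obtain ⟨g, hg, hgX⟩ := Herm.witt hB (Φ.comp X.subtype) (fun x x' hxx => by
      rw [← sub_eq_zero]
      obtain ⟨c, w, hw, e1, e2⟩ := hdec (x - x')
      have h0 : c • p' + w = 0 := by
        rw [← e2, Submodule.coe_sub, map_sub]; exact sub_eq_zero.2 hxx
      have hc : c = 0 := by
        have := congrArg (B p') h0
        rw [map_add, map_smul, hn, hpW p' hp' w hw, add_zero, map_zero, smul_eq_mul] at this
        exact (mul_eq_zero.1 this).resolve_right hn0
      rw [hc, zero_smul, zero_add] at h0 e1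
      exact Subtype.ext (e1.trans h0)) (fun x x' => by
      obtain ⟨c, w, hw, e1, e2⟩ := hdec x
      obtain ⟨c', w', hw', e1', e2'⟩ := hdec x'
      show B (Φ x) (Φ x') = _
      rw [e2, e2', e1, e1']
      simp only [map_add, map_smulₛₗ, LinearMap.add_apply, LinearMap.smul_apply, smul_eq_mul, RingHom.id_apply, hn,
        hpW p hp w' hw', hpW p' hp' w' hw', (Herm.eq_zero_comm hB).1 (hpW p hp w hw),
        (Herm.eq_zero_comm hB).1 (hpW p' hp' w hw), n])
  have hgp : g p = p' := by
    have h := hgX ⟨p, Submodule.mem_sup_left (Submodule.mem_span_singleton_self p)⟩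
    rw [LinearMap.comp_apply, Submodule.subtype_apply, hΦ] at h
    change g p = p + (n⁻¹ * n) • (p' - p) at h
    rwa [inv_mul_cancel₀ hn0, one_smul, add_sub_cancel] at h
  have hgl : ∀ l, l.1 ≠ i → g (e l) = e l := fun l hl => by
    have h := hgX ⟨e l, Submodule.mem_sup_right (Submodule.subset_span ⟨l, hl, rfl⟩)⟩
    rw [LinearMap.comp_apply, Submodule.subtype_apply, hΦ] at h
    change g (e l) = e l + (n⁻¹ * B p (e l)) • (p' - p) at h
    rwa [(Herm.eq_zero_comm hB).1 (hp l hl), mul_zero, zero_smul, add_zero] at h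
  obtain ⟨z, hz, hpz, hzz⟩ := exists_perp_aniso H hp' (hn ▸ hn0)
  have hd := det_norm hB hg
  obtain ⟨r, hri, hrd, hr⟩ := exists_preflection hB hzz (δ := σ (LinearMap.det g.toLinearMap))
    (nrm_conj hB.toIsInvol hd)
  have hrl : ∀ l, l.1 ≠ i → r (e l) = e l := fun l hl => by
    rw [hr, (Herm.eq_zero_comm hB).1 (hz l hl)]; simp
  have hfix : ∀ l, l.1 ≠ i → (r * g) (e l) = e l := fun l hl => by rw [LinearEquiv.mul_apply, hgl l hl, hrl l hl]
  refine ⟨r * g, H.blk_mem _ (Iso.mul hri hg) (by rw [det_mul, hrd, mul_comm]; exact hd) ⟨1, fun m l hl => ?_⟩,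
    Iso.mul hri hg, ?_, hfix⟩
  · simp only [Equiv.Perm.one_apply] at hl
    by_cases hm : m.1 = i
    · have hli : l.1 ≠ i := by rwa [hm] at hl
      rw [← hfix l hli, Iso.mul hri hg, H.onb, if_neg fun h => hl (congrArg Prod.fst h)]
    · rw [hfix m hm, H.onb, if_neg fun h => hl (congrArg Prod.fst h)]
  · rw [LinearEquiv.mul_apply, hgp, hr, (Herm.eq_zero_comm hB).1 hpz]; simp

theorem local_fix {i j : Fin t} (hij : j ≠ i) {g : V ≃ₗ[F] V} (hg : ∀ l : Fin t × Fin k, l.1 ≠ i → g (e l) = e l)
    {x : V} (hx : x ∈ blockSub B e j) : g x = x := by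
  conv_lhs => rw [← expand H.onb x, map_sum]
  conv_rhs => rw [← expand H.onb x]
  refine Finset.sum_congr rfl fun l _ => ?_
  rw [map_smul]
  by_cases hl : l.1 = i
  · rw [hx l fun h => hij (h.symm.trans hl)]; simp
  · rw [hg l hl]

/-- a centre on two blocks with anisotropic components -/
theorem exists_cross {g : V ≃ₗ[F] V} (hgM : g ∈ M) (hg : Iso B g) (hgb : ¬ Blk B e Prod.fst g) :
    ∃ (j l : Fin t) (A C : V), j ≠ l ∧ A ∈ blockSub B e j ∧ C ∈ blockSub B e l ∧ A + C ∈ centres B M ∧
      B A A ≠ 0 ∧ B C C = -B A A := by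
  classical
  have hB := H.herm
  have hσ := hB.toIsInvol
  have hon := H.onb
  -- a centre meeting two blocks
  obtain ⟨v, hv, lj, ll, hne, hvj, hvl⟩ : ∃ v ∈ centres B M, ∃ lj ll : Fin t × Fin k, lj.1 ≠ ll.1 ∧
      B (e lj) v ≠ 0 ∧ B (e ll) v ≠ 0 := by
    by_contra hc
    push Not at hc
    let r0 : Fin k := ⟨0, by have := H.k2; omega⟩
    let r1 : Fin k := ⟨1, by have := H.k2; omega⟩
    obtain ⟨γ, hγ⟩ := Herm.exists_norm hσ (a := (-1 : F)) (by simp)
    let z : Fin t → V := fun i => e (i, r0) + γ • e (i, r1)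
    have hne : ∀ i : Fin t, (i, r0) ≠ (i, r1) := fun i => by simp [r0, r1, Fin.ext_iff]
    have hz : ∀ i, z i ∈ blockSub B e i ∧ B (z i) (z i) = 0 ∧ B (z i) (e (i, r0)) = 1 := fun i => by
      refine ⟨Submodule.add_mem _ (mem_block_basis H (i, r0)) (Submodule.smul_mem _ _ (mem_block_basis H (i, r1))), ?_, ?_⟩
      · simp [z, hon _ _, hne i, (hne i).symm]; linear_combination hγ
      · simp [z, hon _ _, (hne i).symm]
    have himg : ∀ i, ∀ x ∈ blockSub B e i, B x x = 0 → ∀ l, B (e l) (g x) ≠ 0 → g x ∈ blockSub B e l.1 :=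
      fun i x hx hxx l hl m hm => hc (g x) (map_mem_centres hB (block_centre H hxx hx) hgM hg) l m (Ne.symm hm) hl
    have hnz : ∀ i, ∃ l, B (e l) (g (z i)) ≠ 0 := fun i => by
      by_contra! h
      have : z i = 0 := g.map_eq_zero_iff.1 (ext_co hon fun l => by rw [h l, map_zero])
      have h1 := (hz i).2.2
      rw [this, map_zero, LinearMap.zero_apply] at h1
      exact zero_ne_one h1
    choose c hc' using hnz
    have hto : ∀ i, blockSub B e i ≤ (blockSub B e (c i).1).comap g.toLinearMap := fun i => by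
      refine isotropic_span hB _ (hz i).1 (hz i).2.1 (mem_block_basis H (i, r0)) (by rw [(hz i).2.2]; exact one_ne_zero)
        _ fun x hx hxx => ?_
      show g x ∈ blockSub B e (c i).1
      intro m hm
      by_contra hmx
      have hgx := himg i x hx hxx m hmx
      have hgz := himg i (z i) (hz i).1 (hz i).2.1 (c i) (hc' i)
      have horth : B x (z i) = 0 := by rw [← hg]; exact block_orth H hm hgx hgz
      have hsum := himg i (x + z i) (Submodule.add_mem _ hx (hz i).1) (by
        simp [hxx, (hz i).2.1, horth, (Herm.eq_zero_comm hB).1 horth]) m (by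
        rw [map_add, map_add, hgz m hm, add_zero]; exact hmx)
      have h0 := hsum (c i) (Ne.symm hm)
      rw [map_add, map_add, hgx (c i) (Ne.symm hm), zero_add] at h0
      exact hc' i h0
    have hinj : Function.Injective fun i => (c i).1 := by
      intro i i' hii
      by_contra hne'
      simp only at hii
      let S : Finset (Fin t × Fin k) := Finset.univ.filter fun l => l.1 = i ∨ l.1 = i'
      let T : Finset (Fin t × Fin k) := Finset.univ.filter fun l => l.1 = (c i).1
      have hle : Submodule.span F ((fun l => g (e l)) '' (S : Set (Fin t × Fin k))) ≤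
          Submodule.span F ((fun l => (1 : V ≃ₗ[F] V) (e l)) '' (T : Set (Fin t × Fin k))) := by
        refine Submodule.span_le.2 ?_
        rintro _ ⟨l, hl, rfl⟩
        have hmem : g (e l) ∈ blockSub B e (c i).1 := by
          simp only [S, Finset.coe_filter, Finset.mem_univ, true_and, Set.mem_ofPred_eq] at hl
          rcases hl with h | h
          · exact h ▸ hto l.1 (mem_block_basis H l)
          · exact hii ▸ (h ▸ hto l.1 (mem_block_basis H l))
        show g (e l) ∈ _
        rw [← expand hon (g (e l))]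
        refine Submodule.sum_mem _ fun m _ => ?_
        by_cases hm : m.1 = (c i).1
        · exact Submodule.smul_mem _ _ (Submodule.subset_span ⟨m, by simp [T, hm], rfl⟩)
        · rw [hmem m hm, zero_smul]; exact Submodule.zero_mem _
      have h1 := Submodule.finrank_mono hle
      rw [card_span_image, card_span_image] at h1
      have hT : T.card = k := by
        rw [show T = ({(c i).1} : Finset (Fin t)) ×ˢ (Finset.univ : Finset (Fin k)) by ext ⟨a, b⟩; simp [T, eq_comm],
          Finset.card_product, Finset.card_singleton, Finset.card_univ, Fintype.card_fin, one_mul]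
      have hS : S.card = 2 * k := by
        rw [show S = ({i, i'} : Finset (Fin t)) ×ˢ (Finset.univ : Finset (Fin k)) by ext ⟨a, b⟩; simp [S],
          Finset.card_product, Finset.card_pair hne', Finset.card_univ, Fintype.card_fin]
      have := H.k2
      omega
    exact hgb ⟨Equiv.ofBijective _ hinj.bijective_of_finite, fun m l hl => hto m.1 (mem_block_basis H m) l hl⟩
  -- projection
  let part : Fin t → V := fun i => ∑ l, (if l.1 = i then B (e l) v else 0) • e l
  have hpc : ∀ i l, B (e l) (part i) = if l.1 = i then B (e l) v else 0 := fun i l => co_sum hon _ l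
  have hpm : ∀ i, part i ∈ blockSub B e i := fun i l hl => by rw [hpc, if_neg hl]
  have hpne : ∀ l, B (e l) v ≠ 0 → part l.1 ≠ 0 := fun l hl h => by
    have := hpc l.1 l
    rw [h, map_zero, if_pos rfl] at this
    exact hl this.symm
  have hpB : ∀ i a, a ∈ blockSub B e i → B a v = B a (part i) := fun i a ha => by
    rw [form hon a v, form hon a (part i)]
    refine Finset.sum_congr rfl fun l _ => ?_
    rw [hpc]
    by_cases hl : l.1 = i
    · rw [if_pos hl]
    · rw [ha l hl, map_zero, zero_mul, zero_mul]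
  obtain ⟨a, ha, hap, haa⟩ := exists_dual_norm H (hpm lj.1) (hpne lj hvj) (r := 1) (map_one σ)
  obtain ⟨b, hb, hbp, hbb⟩ := exists_dual_norm H (hpm ll.1) (hpne ll hvl) (r := -1) (by simp)
  rw [← hpB _ a ha] at hap
  rw [← hpB _ b hb] at hbp
  obtain ⟨δ, hδ, hδ1, hδ2⟩ := exists_zeta (σ := σ) hσ
  obtain ⟨ra, hrai, hrad, hra⟩ := exists_preflection hB (a := a) (by rw [haa]; exact one_ne_zero) hδ
  obtain ⟨rb, hrbi, hrbd, hrb⟩ := exists_preflection hB (a := b) (by rw [hbb]; simp) (nrm_conj hσ hδ)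
  have hab : B a b = 0 := block_orth H hne ha hb
  have happ : ∀ x, (ra * rb) x = x + ((δ - 1) * B a x) • a + (-(σ δ - 1) * B b x) • b := fun x => by
    rw [LinearEquiv.mul_apply, hrb, hra, haa, hbb]
    simp only [map_add, map_smul, hab, smul_eq_mul, mul_zero, add_zero]
    match_scalars <;> ring
  have hblk : Blk B e Prod.fst (ra * rb) := ⟨1, fun m l hl => by
    simp only [Equiv.Perm.one_apply] at hl
    rw [happ, map_add, map_add, map_smul, map_smul, hon, if_neg fun h => hl (congrArg Prod.fst h), zero_add]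
    have e1 : B (e l) a * B a (e m) = 0 := by
      by_cases h1 : m.1 = lj.1
      · rw [ha l (h1 ▸ hl), zero_mul]
      · rw [(Herm.eq_zero_comm hB).1 (ha m h1), mul_zero]
    have e2 : B (e l) b * B b (e m) = 0 := by
      by_cases h1 : m.1 = ll.1
      · rw [hb l (h1 ▸ hl), zero_mul]
      · rw [(Herm.eq_zero_comm hB).1 (hb m h1), mul_zero]
    simp only [smul_eq_mul]
    linear_combination (δ - 1) * e1 - (σ δ - 1) * e2⟩
  have hhi : Iso B (ra * rb) := Iso.mul hrai hrbi
  have hhM : ra * rb ∈ M := H.blk_mem _ hhi (by rw [det_mul, hrad, hrbd, hδ]) hblk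
  have hv' := map_mem_centres hB hv hhM hhi
  set v' := (ra * rb) v
  have hv'e : v' = v + (δ - 1) • a + (-(σ δ - 1)) • b := by
    show (ra * rb) v = _
    rw [happ, hap, hbp, mul_one, mul_one]
  set d := (δ - 1) • a + (-(σ δ - 1)) • b
  have hdd : B d d = 0 := by
    simp only [d, map_add, map_smulₛₗ, LinearMap.add_apply, LinearMap.smul_apply, smul_eq_mul, RingHom.id_apply, hab,
      (Herm.eq_zero_comm hB).1 hab, haa, hbb, map_neg, map_sub, map_one, hσ.invol]
    ring
  have hd : d = (1 : F) • v' + (-1 : F) • v := by rw [hv'e]; simp only [d]; module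
  refine ⟨lj.1, ll.1, (δ - 1) • a, (-(σ δ - 1)) • b, hne, Submodule.smul_mem _ _ ha, Submodule.smul_mem _ _ hb, ?_, ?_, ?_⟩
  · show d ∈ centres B M
    rw [hd]
    refine span_centres hB hv' hv ?_ 1 (-1) (hd ▸ hdd)
    rw [← hB.symm, hv'e]
    refine (map_ne_zero σ).2 ?_
    simp only [map_add, map_smul, smul_eq_mul, hv.1, ← hB.symm a v, ← hB.symm b v, hap, hbp, map_one, mul_one, zero_add]
    exact fun h => hδ2 (by linear_combination δ * h + hδ)
  · rw [Herm.smul_self hB, haa, mul_one]
    exact mul_ne_zero (sub_ne_zero.2 hδ1) ((map_ne_zero σ).2 (sub_ne_zero.2 hδ1))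
  · rw [Herm.smul_self hB, Herm.smul_self hB, haa, hbb, map_neg, map_sub, map_one, hσ.invol, map_sub, map_one]
    ring

/-- the block case -/
theorem block_centres {g : V ≃ₗ[F] V} (hgM : g ∈ M) (hg : Iso B g) (hgb : ¬ Blk B e Prod.fst g) :
    ∀ v, B v v = 0 → v ∈ centres B M := by
  classical
  have hB := H.herm
  have hσ := hB.toIsInvol
  have hon := H.onb
  obtain ⟨j, l, A, C, hjl, hA, hC, hAC, hA0, hCA⟩ := exists_cross H hgM hg hgb
  have h2 : ∀ i i' : Fin t × Fin k, ∀ u : V, B u u = 0 → (∀ m, m ≠ i → m ≠ i' → B (e m) u = 0) → u ∈ centres B M := by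
    intro i i' u hu huo
    by_cases hcol : i.1 = i'.1
    · exact block_centre H hu fun m hm => huo m (fun h => hm (congrArg Prod.fst h))
        fun h => hm (by rw [h, hcol])
    have hne : i ≠ i' := fun h => hcol (congrArg Prod.fst h)
    set a := B (e i) u
    set c := B (e i') u
    have hue : u = a • e i + c • e i' := ext_co hon fun m => by
      rw [map_add, co_single hon, co_single hon]
      by_cases g1 : m = i
      · subst g1; simp [a, hne]
      by_cases g2 : m = i'
      · subst g2; simp [c, g1]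
      simp [g1, g2, huo m g1 g2]
    have hn : a * σ a + c * σ c = 0 := by
      rw [hue] at hu
      simp [hon i i, hon i i', hon i' i, hon i' i', hne, hne.symm] at hu
      linear_combination hu
    by_cases ha : a = 0
    · refine block_centre H hu (i := i'.1) fun m hm => ?_
      by_cases g1 : m = i
      · rw [g1]; exact ha
      · exact huo m g1 fun h => hm (congrArg Prod.fst h)
    have hc : c ≠ 0 := fun h => mul_ne_zero ha ((map_ne_zero σ).2 ha) (by rw [h] at hn; simpa using hn)
    let r0 : Fin k := ⟨0, by have := H.k2; omega⟩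
    let π0 : Equiv.Perm (Fin t) := (Equiv.swap j i.1).trans (Equiv.swap (Equiv.swap j i.1 l) i'.1)
    have hπj : π0 j = i.1 := by
      show Equiv.swap (Equiv.swap j i.1 l) i'.1 (Equiv.swap j i.1 j) = i.1
      rw [Equiv.swap_apply_left]
      refine Equiv.swap_apply_of_ne_of_ne (fun h => hjl ((Equiv.swap j i.1).injective ?_)) hcol
      rw [Equiv.swap_apply_left]; exact h
    have hπl : π0 l = i'.1 := Equiv.swap_apply_left _ _
    obtain ⟨h, δ, -, hhi, hhd, hh⟩ := exists_mon hon hB (Equiv.prodCongr π0 (Equiv.refl (Fin k))) (fun _ => 1)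
      (fun _ => by simp) i
    have hhM : h ∈ M := H.blk_mem h hhi hhd ⟨π0, fun m m' hm' => by
      rw [hh, co_single hon, if_neg fun he => hm' (by rw [he]; rfl)]⟩
    have hmap : ∀ (s : Fin t) (x : V), x ∈ blockSub B e s → h x ∈ blockSub B e (π0 s) := fun s x hx m hm => by
      obtain ⟨m, rfl⟩ := (Equiv.prodCongr π0 (Equiv.refl (Fin k))).surjective m
      rw [co_mono hon hh, hx m fun e1 => hm (by rw [← e1]; rfl), mul_zero]
    have hA1 : h A ∈ blockSub B e i.1 := hπj ▸ hmap j A hA
    have hC1 : h C ∈ blockSub B e i'.1 := hπl ▸ hmap l C hC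
    obtain ⟨s, hs⟩ := Herm.exists_norm hσ (a := a * σ a / B A A) (by rw [map_div₀, nrm_fix hσ, Herm.fix_self hB])
    rw [eq_div_iff hA0] at hs
    have hnA : B (a • e i) (a • e i) = B (s • h A) (s • h A) := by
      rw [Herm.smul_self hB, Herm.smul_self hB, hhi, hon, if_pos rfl, mul_one]; exact hs.symm
    have hnC : B (c • e i') (c • e i') = B (s • h C) (s • h C) := by
      rw [Herm.smul_self hB, Herm.smul_self hB, hhi, hon, if_pos rfl, mul_one, hCA]
      linear_combination hn + hs
    have hnA0 : B (s • h A) (s • h A) ≠ 0 := by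
      rw [← hnA, Herm.smul_self hB, hon, if_pos rfl, mul_one]; exact mul_ne_zero ha ((map_ne_zero σ).2 ha)
    have hnC0 : B (s • h C) (s • h C) ≠ 0 := by
      rw [← hnC, Herm.smul_self hB, hon, if_pos rfl, mul_one]; exact mul_ne_zero hc ((map_ne_zero σ).2 hc)
    obtain ⟨g1, hg1M, hg1i, hg1A, hg1f⟩ := local_move H (Submodule.smul_mem _ s hA1)
      (Submodule.smul_mem _ a (mem_block_basis H i)) hnA hnA0
    obtain ⟨g2, hg2M, hg2i, hg2C, hg2f⟩ := local_move H (Submodule.smul_mem _ s hC1)
      (Submodule.smul_mem _ c (mem_block_basis H i')) hnC hnC0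
    have hres : g2 (g1 (s • h (A + C))) = u := by
      rw [map_add h, smul_add, map_add g1, hg1A, local_fix H (Ne.symm hcol) hg1f (Submodule.smul_mem _ s hC1),
        map_add g2, hg2C, local_fix H hcol hg2f (Submodule.smul_mem _ a (mem_block_basis H i)), ← hue]
    rw [← hres]
    exact map_mem_centres hB (map_mem_centres hB (smul_mem_centres hB (map_mem_centres hB hAC hhM hhi) s) hg1M hg1i) hg2M hg2i
  have hcard : Fintype.card (Fin t × Fin k) = t * k := by simp
  have : Nonempty (Fin t × Fin k) := Fintype.card_pos_iff.1 (by have := H.big; omega)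
  rcases (two_le_qq (σ := σ)).eq_or_lt' with hq | hq
  swap
  · exact all_big hon hB h2 hq
  obtain ⟨h20, hnrm⟩ := two_elts hon hB hq
  have hk3 : 3 ≤ k := by
    have := H.k2
    by_contra h
    exact H.hex ⟨by omega, hq⟩
  let r : ∀ m : ℕ, m < 3 → Fin k := fun m hm => ⟨m, by omega⟩
  let r0 := r 0 (by omega)
  let r1 := r 1 (by omega)
  let r2 := r 2 (by omega)
  let i0 : Fin t := ⟨0, by have := H.t2; omega⟩
  let i1 : Fin t := ⟨1, by have := H.t2; omega⟩
  have hi01 : i0 ≠ i1 := by simp [i0, i1, Fin.ext_iff]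
  set p := e (i0, r0)
  set p' := e (i0, r0) + e (i0, r1) + e (i0, r2)
  set c1 := e (i1, r0)
  have hv0 : B (p + c1) (p + c1) = 0 := by
    simp [p, c1, hon _ _, hi01, hi01.symm]; linear_combination h20
  have hv0C : p + c1 ∈ centres B M := h2 (i0, r0) (i1, r0) _ hv0 fun m g1 g2 => by simp [p, c1, hon m _, g1, g2]
  have h01 : r0 ≠ r1 := by simp [r0, r1, r, Fin.ext_iff]
  have h02 : r0 ≠ r2 := by simp [r0, r2, r, Fin.ext_iff]
  have h12 : r1 ≠ r2 := by simp [r1, r2, r, Fin.ext_iff]
  obtain ⟨g1, hg1M, hg1i, hg1p, hg1f⟩ := local_move H (i := i0) (p := p) (p' := p') (mem_block_basis H (i0, r0))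
    (Submodule.add_mem _ (Submodule.add_mem _ (mem_block_basis H (i0, r0)) (mem_block_basis H (i0, r1))) (mem_block_basis H (i0, r2)))
    (by simp [p, p', hon _ _, h01, h02, h12, h01.symm, h02.symm, h12.symm]; linear_combination h20)
    (by simp [p, hon _ _])
  have hv4 := map_mem_centres hB hv0C hg1M hg1i
  rw [map_add, hg1p, local_fix H hi01.symm hg1f (mem_block_basis H (i1, r0))] at hv4
  refine all_small hon hB h2 (by rw [hcard]; exact H.big) hq hv4 ?_
  rw [show supp B e (p' + e (i1, r0)) = {(i0, r0), (i0, r1), (i0, r2), (i1, r0)} by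
    ext m
    rw [mem_supp]
    simp only [p', map_add, hon m _, Finset.mem_insert, Finset.mem_singleton]
    by_cases g0 : m = (i0, r0)
    · subst g0; simp [h01, h02, hi01]
    by_cases g1 : m = (i0, r1)
    · subst g1; simp [h01.symm, h12, hi01]
    by_cases g2 : m = (i0, r2)
    · subst g2; simp [h02.symm, h12.symm, hi01]
    by_cases g3 : m = (i1, r0)
    · subst g3; simp [hi01.symm]
    simp [g0, g1, g2, g3]]
  rw [Finset.card_insert_of_notMem (by simp [h01, h02, hi01]), Finset.card_insert_of_notMem (by simp [h12, hi01]),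
    Finset.card_pair (by simp [hi01])]

end Cfsg.Agent.UnitDec
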