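import Cfsg.Agent.UnitDec.Basic

/-!
Two tori of pseudo-reflections sharing a coordinate produce an isotropic centre.
-/

set_option autoImplicit false

namespace Cfsg.Agent.UnitDec

open Cfsg.Agent.Classical Cfsg.Agent.ClassicalMax.Unitary Module

variable {F V : Type*} [Field F] [AddCommGroup V] [Module F V] {σ : F →+* F}

/-- the map with eigenvalue η on y and η⁻¹ on z -/
def Rot (B : V →ₛₗ[σ] V →ₗ[F] F) (y z : V) (η : F) (w : V) : V :=
  w + ((η - 1) * B y w) • y + ((η⁻¹ - 1) * B z w) • z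

/-- the group contains the torus of `y` against `z` -/
def Tor (B : V →ₛₗ[σ] V →ₗ[F] F) (M : Subgroup (V ≃ₗ[F] V)) (y z : V) : Prop :=
  ∀ η : F, η * σ η = 1 → ∃ R ∈ M, Iso B R ∧ ∀ w, R w = Rot B y z η w

variable {B : V →ₛₗ[σ] V →ₗ[F] F} {M : Subgroup (V ≃ₗ[F] V)}

theorem Tor.smul {y z : V} (h : Tor B M y z) {u : F} (hu : u * σ u = 1) : Tor B M (u • y) z := fun η hη => by
  obtain ⟨R, hR, hRi, hRw⟩ := h η hη
  refine ⟨R, hR, hRi, fun w => (hRw w).trans ?_⟩
  simp only [Rot, map_smulₛₗ, LinearMap.smul_apply, smul_eq_mul, smul_smul]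
  congr 3
  linear_combination -((η - 1) * B y w) * hu

/-- unipotent maps attached to an orthogonal pair: anisotropic e and isotropic r -/
def EMem (B : V →ₛₗ[σ] V →ₗ[F] F) (M : Subgroup (V ≃ₗ[F] V)) (e r : V) (α : F) : Prop :=
  ∃ κ : F, ∃ g ∈ M, ∀ w, g w = w + (α * B e w + κ * B r w) • r - (σ α * B r w) • e

variable [Fintype F] [DecidableEq F] (hB : Herm.IsHerm B)
include hB

theorem tvU_add {v : V} (hv : B v v = 0) (c d : F) : Herm.tvU hv c * Herm.tvU hv d = Herm.tvU hv (c + d) :=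
  LinearEquiv.ext fun x => by
    simp only [LinearEquiv.mul_apply, Herm.tvU_apply, map_add, map_smul, hv, smul_eq_mul, mul_zero, zero_smul, add_zero]
    rw [add_mul, add_smul]; abel

omit [Fintype F] [DecidableEq F] in
theorem tvU_smul {v : V} (hv : B v v = 0) (a c : F) (h : B (a • v) (a • v) = 0) :
    Herm.tvU h c = Herm.tvU hv (c * (a * σ a)) :=
  LinearEquiv.ext fun x => by
    rw [Herm.tvU_apply, Herm.tvU_apply, map_smulₛₗ, LinearMap.smul_apply, smul_eq_mul, smul_smul]
    congr 2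
    ring

/-- degenerate plane -/
theorem degenerate {e a y : V} (hee : B e e = 1) (haa : B a a = 1) (hea : B e a = 0) (hay : B a y = 0)
    (hyy : B y y = 1) (hey : B e y = 1) (hT : Tor B M e a) (hY : Tor B M y a) : y - e ∈ centres B M := by
  have hσ := hB.toIsInvol
  set r := y - e with hr
  have hae : B a e = 0 := (Herm.eq_zero_comm hB).1 hea
  have hya : B y a = 0 := (Herm.eq_zero_comm hB).1 hay
  have hye : B y e = 1 := by rw [← hB.symm, hey, map_one]
  have hrr : B r r = 0 := by simp [hr, hyy, hey, hye, hee]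
  have her : B e r = 0 := by simp [hr, hey, hee]
  have hre : B r e = 0 := (Herm.eq_zero_comm hB).1 her
  have har : B a r = 0 := by simp [hr, hay, hae]
  obtain ⟨η, hη, hη1, -⟩ := exists_zeta (σ := σ) hσ
  have hη0 := nrm_ne_zero hη
  -- the basic element
  have base : EMem B M e r (1 - η⁻¹) := by
    obtain ⟨R, hR, -, hRw⟩ := hY η hη
    obtain ⟨T, hT', -, hTw⟩ := hT η⁻¹ (nrm_inv hη)
    refine ⟨η - 1, R * T, mul_mem hR hT', fun w => ?_⟩
    have hy : y = r + e := (sub_add_cancel _ _).symm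
    have hya' : B (r + e) a = 0 := hy ▸ hya
    rw [LinearEquiv.mul_apply, hRw, hTw, map_sub σ, map_one σ, map_inv₀ σ, eq_sigma_inv hη, inv_inv]
    simp only [Rot, inv_inv, hy, map_add, map_smul, LinearMap.add_apply, smul_eq_mul, hre, har, hae, hee, haa, hea,
      (Herm.eq_zero_comm hB).1 har]
    match_scalars <;> field_simp <;> ring
  -- addition
  have hadd : ∀ α β, EMem B M e r α → EMem B M e r β → EMem B M e r (α + β) := by
    rintro α β ⟨κ, g, hg, hgw⟩ ⟨κ', g', hg', hgw'⟩
    refine ⟨κ + κ' - α * σ β, g * g', mul_mem hg hg', fun w => ?_⟩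
    rw [LinearEquiv.mul_apply, hgw, hgw', map_add σ]
    simp only [map_add, map_sub, map_smul, smul_eq_mul, hre, hrr, her, hee]
    match_scalars <;> ring
  have hconj : ∀ α ζ, ζ * σ ζ = 1 → EMem B M e r α → EMem B M e r (α * σ ζ) := by
    rintro α ζ hζ ⟨κ, g, hg, hgw⟩
    obtain ⟨T, hT', hTi, hTw⟩ := hT ζ hζ
    have hTe : T e = ζ • e := by
      rw [hTw]; simp only [Rot, hee, hae, mul_one, mul_zero, zero_smul, add_zero, sub_smul, one_smul]; abel
    have hTr : T r = r := by
      rw [hTw]; simp [Rot, her, har]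
    refine ⟨κ, T * g * T⁻¹, mul_mem (mul_mem hT' hg) (inv_mem hT'), fun w => ?_⟩
    have e1 : B e (T⁻¹ w) = σ ζ * B e w := by
      rw [hTi.inv.adj, inv_inv, hTe, map_smulₛₗ, LinearMap.smul_apply, smul_eq_mul]
    have e2 : B r (T⁻¹ w) = B r w := by rw [hTi.inv.adj, inv_inv, hTr]
    rw [LinearEquiv.mul_apply, LinearEquiv.mul_apply, hgw, map_sub, map_add, map_smul, map_smul, apply_inv, hTe, hTr,
      e1, e2, smul_smul, map_mul, hB.invol]
    match_scalars <;> ring
  set α₀ := 1 - η⁻¹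
  have hα₀ : α₀ ≠ 0 := sub_ne_zero.2 fun h => hη1 (inv_eq_one.1 h.symm)
  let S : AddSubmonoid F :=
    { carrier := {z | EMem B M e r (α₀ * z)}
      add_mem' := fun {z z'} hz hz' => by
        show EMem B M e r (α₀ * (z + z'))
        rw [mul_add]; exact hadd _ _ hz hz'
      zero_mem' := ⟨0, 1, one_mem _, fun w => by simp⟩ }
  have hall : ∀ z, EMem B M e r (α₀ * z) := fun z => closure_U hσ S (fun ζ hζ => by
    show EMem B M e r (α₀ * ζ)
    have := hconj α₀ (σ ζ) (nrm_conj hσ hζ) base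
    rwa [hσ.invol] at this) z
  refine ⟨hrr, fun hr' d hd => ?_⟩
  have hN : α₀ * σ α₀ ≠ 0 := mul_ne_zero hα₀ ((map_ne_zero σ).2 hα₀)
  obtain ⟨z, hz⟩ := Herm.exists_antitrace hσ (k := -d / (α₀ * σ α₀)) (by
    rw [map_div₀, nrm_fix hσ, map_neg, eq_neg_of_add_eq_zero_right hd]; ring)
  obtain ⟨κ, g, hg, hgw⟩ := base
  obtain ⟨κ', g', hg', hgw'⟩ := hall z
  have key : Herm.tvU hr' d * (g' * g) = g * g' := by
    refine LinearEquiv.ext fun w => ?_
    have hd' : d = α₀ * z * σ α₀ - α₀ * σ (α₀ * z) := by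
      rw [eq_div_iff hN] at hz
      rw [map_mul]; linear_combination hz
    simp only [LinearEquiv.mul_apply, Herm.tvU_apply, hgw, hgw', map_add, map_sub, map_smul, smul_eq_mul, hre, hrr, her, hee, hd']
    match_scalars <;> ring
  have : Herm.tvU hr' d = g * g' * (g' * g)⁻¹ := by rw [← key, mul_inv_cancel_right]
  rw [this]
  exact mul_mem (mul_mem hg hg') (inv_mem (mul_mem hg' hg))

set_option maxHeartbeats 1000000 in
/-- non-degenerate plane -/
theorem nondegenerate {e a y : V} (hee : B e e = 1) (haa : B a a = 1) (hea : B e a = 0) (hay : B a y = 0)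
    (hyy : B y y = 1) (hc0 : B e y ≠ 0) (hc1 : B e y * σ (B e y) ≠ 1) (hT : Tor B M e a) (hY : Tor B M y a) :
    ∃ v ∈ centres B M, v ≠ 0 ∧ B a v = 0 := by
  have hσ := hB.toIsInvol
  set c := B e y with hc
  set f := y - c • e with hf
  set m := 1 - c * σ c with hm
  have hm0 : m ≠ 0 := sub_ne_zero.2 (Ne.symm hc1)
  have hae : B a e = 0 := (Herm.eq_zero_comm hB).1 hea
  have hye : B y e = σ c := (hB.symm e y).symm
  have hef : B e f = 0 := by simp [hf, hee, ← hc]
  have hfe : B f e = 0 := (Herm.eq_zero_comm hB).1 hef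
  have hyf : B y f = m := by simp [hf, hyy, hye, hm]
  have hff : B f f = m := by simp [hf, hyy, hye, hee, ← hc, hm]
  have haf : B a f = 0 := by simp [hf, hay, hae]
  have hfy : B f y = m := by rw [← hB.symm, hyf, hm, map_sub, map_one, nrm_fix hσ]
  have hσc : σ c ≠ 0 := (map_ne_zero σ).2 hc0
  -- isotropic vectors of the plane
  let pt : F → V := fun γ => f + γ • e
  have hpt : ∀ γ, γ * σ γ = -m → B (pt γ) (pt γ) = 0 := fun γ hγ => by
    simp [pt, hff, hef, hfe, hee]; linear_combination hγ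
  have hγc : ∀ γ, γ * σ γ = -m → γ - c ≠ 0 := fun γ hγ h => by
    rw [sub_eq_zero] at h; subst h
    exact one_ne_zero (show (1 : F) = 0 by rw [hm] at hγ; linear_combination hγ)
  have hD : ∀ γ η, γ * σ γ = -m → η * σ η = 1 → m + σ c * γ * η ≠ 0 := fun γ η hγ hη h => by
    have h1 : σ c * γ * η = -m := by linear_combination h
    have h2 := congrArg σ h1
    rw [map_mul, map_mul, hσ.invol, map_neg, show σ m = m by rw [hm, map_sub, map_one, nrm_fix hσ]] at h2
    have h3 : (c * σ c) * (-m) = m * m := by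
      linear_combination (c * σ γ * σ η) * h1 - m * h2 - c * σ c * η * σ η * hγ - c * σ c * (-m) * hη
    refine one_ne_zero (show (1 : F) = 0 from ?_)
    have h4 : -(c * σ c) = m := mul_right_cancel₀ hm0 (by linear_combination h3)
    rw [hm] at h4; linear_combination -h4
  obtain ⟨γ, hγ⟩ := Herm.exists_norm hσ (a := -m) (by rw [map_neg, hm, map_sub, map_one, nrm_fix hσ])
  set v := pt γ with hvdef
  have hvv : B v v = 0 := hpt γ hγ
  have hav : B a v = 0 := by simp [hvdef, pt, haf, hae]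
  have hev : B e v = γ := by simp [hvdef, pt, hef, hee]
  have hγ0 : γ ≠ 0 := fun h => hm0 (by rw [h, zero_mul] at hγ; linear_combination hγ)
  have hw0 : v ≠ 0 := fun h => hγ0 (by rw [← hev, h, map_zero])
  let X : F → F := fun η => γ * (η - 1) / ((γ - c) * (m + σ c * γ * η))
  let lam : F → F := fun η => 1 + γ * (η - 1) / (γ - c)
  have hX : ∀ η, η * σ η = 1 → (1 + X η) * σ (1 + X η) = 1 := fun η hη => by
    set D := m + σ c * γ * η
    have hD0 : D ≠ 0 := hD γ η hγ hη
    set k := γ * (η - 1) / (γ - c) with hk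
    have hXk : X η * D = k := by
      rw [hk]; simp only [X]; rw [← div_div, div_mul_cancel₀ _ hD0]
    have e1 : k * (γ - c) = γ * (η - 1) := by rw [hk, div_mul_cancel₀ _ (hγc γ hγ)]
    have e2 : (f + (η * γ) • e) + k • y = (1 + k) • v := by
      rw [show y = f + c • e by rw [hf, sub_add_cancel]]
      simp only [v, pt]
      clear_value k
      match_scalars <;> first | ring1 | linear_combination -e1
    have e3 := congrArg (fun u => B u u) e2
    simp only [map_add, map_smulₛₗ, LinearMap.add_apply, LinearMap.smul_apply, smul_eq_mul, RingHom.id_apply, hff, hef,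
      hfe, hee, hyf, hfy, ← hc, hye, hyy, hvv, map_mul, mul_one, mul_zero, zero_add, add_zero] at e3
    have e4 : k * σ D + σ k * D + k * σ k = 0 := by
      simp only [D, map_add, map_mul, hσ.invol, show σ m = m by rw [hm, map_sub, map_one, nrm_fix hσ]]
      linear_combination e3 - (σ γ * γ) * hη - hγ
    rw [← hXk, map_mul] at e4
    have e5 : D * σ D * (X η + σ (X η) + X η * σ (X η)) = 0 := by linear_combination e4
    have := (mul_eq_zero.1 e5).resolve_left (mul_ne_zero hD0 ((map_ne_zero σ).2 hD0))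
    rw [map_add, map_one]
    linear_combination this
  -- the elements fixing the line of v
  have hexist : ∀ η, η * σ η = 1 → ∃ g ∈ M, Iso B g ∧ ∀ w, g w = Rot B y a (1 + X η) (Rot B e a η w) := fun η hη => by
    obtain ⟨R, hR, hRi, hRw⟩ := hY (1 + X η) (hX η hη)
    obtain ⟨T, hT', hTi, hTw⟩ := hT η hη
    exact ⟨R * T, mul_mem hR hT', hRi.mul hTi, fun w => by rw [LinearEquiv.mul_apply, hRw, hTw]⟩
  choose h hM hi hw using hexist
  have hline : ∀ η (hη : η * σ η = 1) γ', h η hη (pt γ') =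
      (1 + X η * (m + σ c * γ' * η)) • f + (η * γ' + X η * (m + σ c * γ' * η) * c) • e := fun η hη γ' => by
    rw [hw]
    simp only [pt, Rot, map_add, map_smul, smul_eq_mul, hef, hee, haf, hae, hay, hye, hyf, hea,
      show y = c • e + f by rw [hf]; abel, LinearMap.add_apply, map_smulₛₗ, LinearMap.smul_apply, RingHom.id_apply, hfe, hff]
    match_scalars <;> ring
  have hhv : ∀ η (hη : η * σ η = 1), h η hη v = lam η • v := fun η hη => by
    rw [hvdef, hline]
    have hk : X η * (m + σ c * γ * η) = γ * (η - 1) / (γ - c) := by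
      simp only [X]; rw [← div_div, div_mul_cancel₀ _ (hD γ η hγ hη)]
    rw [hk]
    simp only [pt, lam]
    match_scalars
    · ring
    · field_simp [hγc γ hγ]; ring
  -- the multipliers
  set Lam := (U σ).image fun η => lam η * σ (lam η)
  set w₀ := γ / (γ - c) with hw₀
  have hw₀0 : w₀ ≠ 0 := div_ne_zero hγ0 (hγc γ hγ)
  have hw₀1 : 1 - w₀ ≠ 0 := fun h1 => by
    rw [hw₀, sub_eq_zero, eq_div_iff (hγc γ hγ), one_mul] at h1
    exact hc0 (show c = 0 by linear_combination -h1)
  set K := w₀ * σ (1 - w₀)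
  have hK : K ≠ 0 := mul_ne_zero hw₀0 ((map_ne_zero σ).2 hw₀1)
  have hlam : ∀ η, η * σ η = 1 → lam η * σ (lam η) = w₀ * σ w₀ + (1 - w₀) * σ (1 - w₀) + (K * η + σ (K * η)) := by
    intro η hη
    have : lam η = η * w₀ + (1 - w₀) := by simp only [lam, w₀]; field_simp [hγc γ hγ]; ring
    rw [this]
    simp only [K, map_add, map_mul, hσ.invol]
    linear_combination (w₀ * σ w₀) * hη
  have hcardL : qq σ + 1 ≤ 2 * Lam.card := by
    rw [← card_U hσ, Finset.card_eq_sum_card_image (fun η => lam η * σ (lam η)) (U σ)]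
    refine (Finset.sum_le_sum (g := fun _ => 2) fun t _ => ?_).trans (by rw [Finset.sum_const, smul_eq_mul, mul_comm])
    refine trace_le_two (σ := σ) (k := K) (r := t - (w₀ * σ w₀ + (1 - w₀) * σ (1 - w₀))) hK fun x hx => ?_
    rw [Finset.mem_filter, mem_U] at hx
    exact ⟨hx.1, by rw [← hx.2, hlam x hx.1]; ring⟩
  have hq := two_le_qq (σ := σ)
  obtain ⟨η₁, hη₁, hlam₁⟩ : ∃ η₁, η₁ * σ η₁ = 1 ∧ lam η₁ * σ (lam η₁) ≠ 1 := by
    obtain ⟨t, ht, ht1⟩ := Finset.exists_mem_ne (show 1 < Lam.card by omega) 1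
    obtain ⟨η, hη, rfl⟩ := Finset.mem_image.1 ht
    exact ⟨η, mem_U.1 hη, ht1⟩
  have hη₁1 : η₁ ≠ 1 := fun h1 => hlam₁ (by rw [h1]; simp [lam])
  obtain ⟨η₂, hη₂, hη₂1, hη₂2⟩ : ∃ η₂, η₂ * σ η₂ = 1 ∧ η₂ ≠ 1 ∧ η₂ ≠ η₁ := by
    have hc3 : 2 < (U σ).card := by rw [card_U hσ]; omega
    obtain ⟨η, hη, hne⟩ := Finset.exists_mem_notMem_of_card_lt_card
      (show ({1, η₁} : Finset F).card < (U σ).card from lt_of_le_of_lt Finset.card_le_two hc3)
    simp only [Finset.mem_insert, Finset.mem_singleton, not_or] at hne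
    exact ⟨η, mem_U.1 hη, hne.1, hne.2⟩
  set g₁ := h η₁ hη₁
  set g₂ := h η₂ hη₂
  have hg₁i : Iso B g₁ := hi η₁ hη₁
  have hg₂i : Iso B g₂ := hi η₂ hη₂
  set l₁ := lam η₁ with hl₁
  have hg1v : g₁ v = l₁ • v := hhv η₁ hη₁
  -- the other fixed line of g₁
  set p := η₁ * (1 + X η₁ * σ c * (c - γ))
  set t := X η₁ * η₁ * σ c
  have hge : g₁ e = p • e + t • v := by
    show h η₁ hη₁ e = _
    rw [hw]
    simp only [Rot, hee, hae, hea, hye, hay, map_add, map_smul, smul_eq_mul, hvdef, pt,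
      show y = c • e + f by rw [hf]; abel, LinearMap.add_apply, map_smulₛₗ, LinearMap.smul_apply, RingHom.id_apply, hfe, haf, p, t]
    match_scalars <;> ring
  have hve : B v e = σ γ := by rw [← hB.symm, hev]
  have hpl : σ l₁ * p = 1 := by
    have e1 := hg₁i v e
    rw [hge, hg1v] at e1
    simp only [map_add, map_smul, map_smulₛₗ, LinearMap.smul_apply, smul_eq_mul, RingHom.id_apply, hvv, mul_zero,
      add_zero, hve] at e1
    exact mul_right_cancel₀ ((map_ne_zero σ).2 hγ0) (by linear_combination e1)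
  have hpne : p - l₁ ≠ 0 := fun h => hlam₁ (by rw [sub_eq_zero.1 h] at hpl; linear_combination hpl)
  set s := t / (p - l₁)
  set u₀ := e + s • v with hu₀
  have hgu₀ : g₁ u₀ = p • u₀ := by
    rw [map_add, map_smul, hge, hg1v]
    simp only [u₀, s]
    match_scalars <;> (try field_simp) <;> ring
  have hu₀u : B u₀ u₀ = 0 := by
    have e1 := hg₁i u₀ u₀
    rw [hgu₀, Herm.smul_self hB] at e1
    have : p * σ p ≠ 1 := fun h => by
      have h2 := congrArg σ hpl
      rw [map_mul, hσ.invol, map_one] at h2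
      exact hlam₁ (by linear_combination -(l₁ * σ l₁) * h + σ l₁ * p * h2 + hpl)
    by_contra h0
    exact this (mul_right_cancel₀ h0 (by linear_combination e1))
  have hs0 : s ≠ 0 := fun h => by rw [hu₀, h, zero_smul, add_zero, hee] at hu₀u; exact one_ne_zero hu₀u
  set γ' := (1 + s * γ) / s
  set u := pt γ' with hudef
  have hu : u = s⁻¹ • u₀ := by
    simp only [hudef, hu₀, hvdef, pt, γ']
    match_scalars <;> field_simp <;> ring
  have huu : B u u = 0 := by rw [hu, Herm.smul_self hB, hu₀u, mul_zero]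
  have hgu : g₁ u = p • u := by rw [hu, map_smul, hgu₀, smul_comm]
  have hγ' : γ' * σ γ' = -m := by
    have := huu
    simp [hudef, pt, hff, hef, hfe, hee] at this
    linear_combination this
  have hγne : γ' ≠ γ := fun h => by
    simp only [γ'] at h
    rw [div_eq_iff hs0] at h
    exact one_ne_zero (show (1 : F) = 0 by linear_combination h)
  have hau : B a u = 0 := by simp [hudef, pt, haf, hae]
  have hvu : B v u ≠ 0 := fun h => by
    simp [hvdef, hudef, pt, hff, hef, hfe, hee] at h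
    refine hγne ?_
    have h2 : σ γ * γ' = -m := by linear_combination h
    have h3 : σ γ * γ' = σ γ * γ := by rw [h2]; linear_combination -hγ
    exact mul_left_cancel₀ ((map_ne_zero σ).2 hγ0) h3
  have huv : B u v ≠ 0 := fun h => hvu ((Herm.eq_zero_comm hB).1 h)
  -- decomposition along v, u, a
  let rest : V → V := fun w => w - (B u w / B u v) • v - (B v w / B v u) • u - B a w • a
  have hva : B v a = 0 := (Herm.eq_zero_comm hB).1 hav
  have hua : B u a = 0 := (Herm.eq_zero_comm hB).1 hau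
  have hrest : ∀ w, B v (rest w) = 0 ∧ B u (rest w) = 0 ∧ B a (rest w) = 0 := fun w => by
    simp only [rest, map_sub, map_smul, smul_eq_mul, hvv, huu, hva, hua, hav, hau, haa, mul_zero, sub_zero, mul_one]
    exact ⟨by field_simp; ring, by field_simp; ring, by ring⟩
  have hfix : ∀ η (hη : η * σ η = 1) r, B v r = 0 → B u r = 0 → B a r = 0 → h η hη r = r := fun η hη r h1 h2 h3 => by
    have h4 : B e r = 0 := by
      have : σ (γ - γ') * B e r = 0 := by
        rw [map_sub, sub_mul]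
        simp only [hvdef, hudef, pt, map_add, map_smulₛₗ, LinearMap.add_apply, LinearMap.smul_apply, smul_eq_mul,
          RingHom.id_apply] at h1 h2
        linear_combination h1 - h2
      exact (mul_eq_zero.1 this).resolve_left ((map_ne_zero σ).2 (sub_ne_zero.2 hγne.symm))
    have h5 : B y r = 0 := by
      simp only [hvdef, pt, map_add, map_smulₛₗ, LinearMap.add_apply, LinearMap.smul_apply, smul_eq_mul, RingHom.id_apply,
        h4, mul_zero, add_zero] at h1
      rw [show y = c • e + f by rw [hf]; abel]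
      simp [h1, h4]
    rw [hw]; simp [Rot, h3, h4, h5]
  have plane : ∀ d, B a d = 0 → (∀ r, B v r = 0 → B u r = 0 → B a r = 0 → B r d = 0) →
      d = (B u d / B u v) • v + (B v d / B v u) • u := fun d hd hr => by
    have h0 : rest d = 0 := hB.nondeg _ fun w => by
      have hw' : w = rest w + ((B u w / B u v) • v + (B v w / B v u) • u + B a w • a) := by simp only [rest]; abel
      obtain ⟨r1, r2, r3⟩ := hrest d
      have e1 : B (rest d) (rest w) = 0 := by
        obtain ⟨s1, s2, s3⟩ := hrest w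
        refine (Herm.eq_zero_comm hB).1 ?_
        have : B (rest w) d = 0 := hr _ s1 s2 s3
        simp only [rest] at this ⊢
        rw [map_sub, map_sub, map_sub, map_smul, map_smul, map_smul]
        rw [this, (Herm.eq_zero_comm hB).1 s1, (Herm.eq_zero_comm hB).1 s2, (Herm.eq_zero_comm hB).1 s3]
        simp
      rw [hw', map_add, e1, map_add, map_add, map_smul, map_smul, map_smul, (Herm.eq_zero_comm hB).1 r1,
        (Herm.eq_zero_comm hB).1 r2, (Herm.eq_zero_comm hB).1 r3]
      simp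
    have := h0
    simp only [rest, hd, zero_smul, sub_zero] at this
    rw [sub_sub, sub_eq_zero] at this
    exact this
  have hha : ∀ η (hη : η * σ η = 1), ∃ q : F, h η hη a = q • a := fun η hη => by
    refine ⟨(1 + X η)⁻¹ * η⁻¹, ?_⟩
    rw [hw]
    simp only [Rot, hea, haa, hay, (Herm.eq_zero_comm hB).1 hay, map_add, map_smul, smul_eq_mul, mul_zero, zero_smul,
      add_zero, zero_add, mul_one]
    match_scalars <;> ring
  obtain ⟨q₁, hq₁⟩ := hha η₁ hη₁
  obtain ⟨q₂, hq₂⟩ := hha η₂ hη₂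
  have hq₁0 : q₁ ≠ 0 := fun h0 => by
    rw [h0, zero_smul, LinearEquiv.map_eq_zero_iff] at hq₁; rw [hq₁, map_zero] at haa; exact zero_ne_one haa
  have hq₂0 : q₂ ≠ 0 := fun h0 => by
    rw [h0, zero_smul, LinearEquiv.map_eq_zero_iff] at hq₂; rw [hq₂, map_zero] at haa; exact zero_ne_one haa
  have hl : ∀ η, η * σ η = 1 → lam η ≠ 0 := fun η hη h0 => hw0 (by
    have := hhv η hη; rwa [h0, zero_smul, LinearEquiv.map_eq_zero_iff] at this)
  have inv_eig : ∀ (g : V ≃ₗ[F] V) (x : V) (k : F), k ≠ 0 → g x = k • x → g⁻¹ x = k⁻¹ • x := fun g x k hk hgx => by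
    apply g.injective; rw [apply_inv, map_smul, hgx, smul_smul, inv_mul_cancel₀ hk, one_smul]
  set K₁ := g₁ * g₂ * g₁⁻¹ * g₂⁻¹
  have hK₁i : Iso B K₁ := ((hg₁i.mul hg₂i).mul hg₁i.inv).mul hg₂i.inv
  have hK₁M : K₁ ∈ M := mul_mem (mul_mem (mul_mem (hM _ hη₁) (hM _ hη₂)) (inv_mem (hM _ hη₁))) (inv_mem (hM _ hη₂))
  have hKeig : ∀ (x : V) (k k' : F), k ≠ 0 → k' ≠ 0 → g₁ x = k • x → g₂ x = k' • x → K₁ x = x := fun x k k' hk hk' h1 h2 => by
    simp only [K₁, LinearEquiv.mul_apply, inv_eig g₂ x k' hk' h2, map_smul, inv_eig g₁ x k hk h1, h2, h1, smul_smul]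
    rw [show k'⁻¹ * (k⁻¹ * (k' * k)) = 1 by field_simp, one_smul]
  have hKv : K₁ v = v := hKeig v _ _ (hl _ hη₁) (hl _ hη₂) (hhv η₁ hη₁) (hhv η₂ hη₂)
  have hKa : K₁ a = a := hKeig a _ _ hq₁0 hq₂0 hq₁ hq₂
  have hKr : ∀ r, B v r = 0 → B u r = 0 → B a r = 0 → K₁ r = r := fun r h1 h2 h3 =>
    hKeig r 1 1 one_ne_zero one_ne_zero (by rw [one_smul]; exact hfix _ _ r h1 h2 h3)
      (by rw [one_smul]; exact hfix _ _ r h1 h2 h3)
  set s' := B u (K₁ u - u) / B u v
  have hKu : K₁ u = u + s' • v := by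
    have hd := plane (K₁ u - u) (by
        have e1 := hK₁i a u
        rw [hKa] at e1
        rw [map_sub, e1, sub_self]) fun r h1 h2 h3 => by
      have e1 := hK₁i r u
      rw [hKr r h1 h2 h3] at e1
      rw [map_sub, e1, sub_self]
    have e2 : B v (K₁ u - u) = 0 := by
      have e1 := hK₁i v u
      rw [hKv] at e1
      rw [map_sub, e1, sub_self]
    rw [e2, zero_div, zero_smul, add_zero] at hd
    rw [← sub_add_cancel (K₁ u) u, hd, add_comm]
  set c' := s' / B v u
  have hc' : c' + σ c' = 0 := by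
    have e1 := hK₁i u u
    rw [hKu] at e1
    simp only [map_add, map_smulₛₗ, LinearMap.add_apply, LinearMap.smul_apply, smul_eq_mul, RingHom.id_apply, huu, hvv,
      mul_zero, add_zero, zero_add] at e1
    simp only [c', map_div₀, hB.symm]
    field_simp
    linear_combination e1
  have hKtv : K₁ = Herm.tvU hvv c' := LinearEquiv.ext fun x => by
    rw [Herm.tvU_apply]
    have hx : x = rest x + ((B u x / B u v) • v + (B v x / B v u) • u + B a x • a) := by simp only [rest]; abel
    obtain ⟨r1, r2, r3⟩ := hrest x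
    conv_lhs => rw [hx]
    conv_rhs => arg 1; rw [hx]
    simp only [map_add, map_smul, hKr _ r1 r2 r3, hKv, hKu, hKa, c']
    match_scalars <;> field_simp <;> ring
  have hc'0 : c' ≠ 0 := by
    intro h0
    have hK1 : K₁ = 1 := by rw [hKtv, h0]; exact LinearEquiv.ext fun x => by simp [Herm.tvU_apply]
    have hcomm : g₁ * g₂ = g₂ * g₁ := by
      have e1 : g₁ * g₂ * (g₂ * g₁)⁻¹ = 1 := by rw [← hK1]; simp only [K₁]; group
      exact mul_inv_eq_one.1 e1
    set d := g₂ u
    have hd := plane d (by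
        have e1 := hg₂i a u
        rw [hq₂, map_smulₛₗ, LinearMap.smul_apply, smul_eq_mul, hau] at e1
        exact (mul_eq_zero.1 e1).resolve_left ((map_ne_zero σ).2 hq₂0)) fun r h1 h2 h3 => by
      have e1 := hg₂i r u
      rw [show g₂ r = r from hfix _ _ r h1 h2 h3] at e1
      rw [e1]; exact (Herm.eq_zero_comm hB).1 h2
    set A₀ := B u d / B u v
    set B₀ := B v d / B v u
    have hgd : g₁ d = p • d := by
      show (g₁ * g₂) u = _
      rw [hcomm, LinearEquiv.mul_apply, hgu, map_smul]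
    have hA₀ : A₀ = 0 := by
      rw [hd, map_add, map_smul, map_smul, hgu, hg1v] at hgd
      have e1 : (A₀ * (l₁ - p)) • v = 0 := by
        rw [← sub_eq_zero.2 hgd]; module
      refine (mul_eq_zero.1 ((smul_eq_zero.1 e1).resolve_right hw0)).resolve_right fun h => hpne ?_
      linear_combination -h
    rw [hA₀, zero_smul, zero_add] at hd
    -- both elements fix the line of u
    have ratio : ∀ η (hη : η * σ η = 1), η ≠ 1 → (∃ μ : F, h η hη u = μ • u) →
        m * c + σ c * γ * γ' * η = 0 := by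
      rintro η hη hη1 ⟨μ, hμ⟩
      rw [hudef, hline] at hμ
      set k := X η * (m + σ c * γ' * η)
      have e1 := congrArg (B f) hμ
      have e2 := congrArg (B e) hμ
      simp only [pt, map_add, map_smul, smul_eq_mul, hff, hfe, hef, hee, mul_zero, add_zero, zero_add, mul_one] at e1 e2
      have hμk : μ = 1 + k := mul_right_cancel₀ hm0 (by linear_combination -e1)
      rw [hμk] at e2
      have hk : X η * ((γ - c) * (m + σ c * γ * η)) = γ * (η - 1) := by
        simp only [X]; rw [div_mul_cancel₀]; exact mul_ne_zero (hγc γ hγ) (hD γ η hγ hη)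
      have e3 : (γ' - γ) * (η - 1) * (m * c + σ c * γ * γ' * η) = 0 := by
        simp only [k] at e2
        linear_combination (-((γ - c) * (m + σ c * γ * η))) * e2 + ((m + σ c * γ' * η) * (c - γ')) * hk
      exact (mul_eq_zero.1 e3).resolve_left (mul_ne_zero (sub_ne_zero.2 hγne) (sub_ne_zero.2 hη1))
    have r1 := ratio η₁ hη₁ hη₁1 ⟨p, hgu⟩
    have r2 := ratio η₂ hη₂ hη₂1 ⟨B₀, hd⟩
    have hγ'0 : γ' ≠ 0 := fun h => hm0 (by rw [h, zero_mul] at hγ'; linear_combination hγ')
    refine hη₂2 (mul_left_cancel₀ (mul_ne_zero (mul_ne_zero hσc hγ0) hγ'0) ?_)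
    linear_combination r2 - r1
  refine ⟨v, ⟨hvv, fun hv' d hd => ?_⟩, hw0, hav⟩
  -- the full root group
  let A : Set F := {d | d + σ d = 0 ∧ Herm.tvU hvv d ∈ M}
  have hscale : ∀ η, η * σ η = 1 → ∀ d ∈ A, d * (lam η * σ (lam η)) ∈ A := fun η hη d ⟨hd, hdM⟩ => by
    refine ⟨by rw [map_mul, nrm_fix hσ]; linear_combination (lam η * σ (lam η)) * hd, ?_⟩
    have := mul_mem (mul_mem (hM η hη) hdM) (inv_mem (hM η hη))
    rw [Herm.conj_tvU hB (hi η hη) hvv d] at this
    have e1 : B (lam η • v) (lam η • v) = 0 := by rw [Herm.smul_self hB, hvv, mul_zero]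
    rw [← tvU_smul hB hvv (lam η) d e1]
    convert this using 2
    exact (hhv η hη).symm
  have hc'A : c' ∈ A := ⟨hc', hKtv ▸ hK₁M⟩
  let G : Submonoid F :=
    { carrier := {z | σ z = z ∧ ∀ d ∈ A, d * z ∈ A}
      mul_mem' := fun {x y} hx hy => ⟨by rw [map_mul, hx.1, hy.1], fun d hd => by
        rw [← mul_assoc]; exact hy.2 _ (hx.2 d hd)⟩
      one_mem' := ⟨map_one σ, fun d hd => by rwa [mul_one]⟩ }
  let S : AddSubmonoid F :=
    { carrier := {z | σ z = z ∧ c' * z ∈ A}
      add_mem' := fun {x y} hx hy => ⟨by rw [map_add, hx.1, hy.1], by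
        refine ⟨by rw [mul_add, map_add]; linear_combination hx.2.1 + hy.2.1, ?_⟩
        rw [mul_add, ← tvU_add hB]; exact mul_mem hx.2.2 hy.2.2⟩
      zero_mem' := ⟨map_zero σ, by
        refine ⟨by rw [mul_zero, map_zero, add_zero], ?_⟩
        rw [mul_zero, show Herm.tvU hvv (0 : F) = 1 from LinearEquiv.ext fun x => by simp [Herm.tvU_apply]]
        exact one_mem M⟩ }
  have hz : σ (d / c') = d / c' := by
    rw [map_div₀, eq_neg_of_add_eq_zero_right hd, eq_neg_of_add_eq_zero_right hc', neg_div_neg_eq]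
  have hcl := closure_eq (L := Herm.fixField σ) (G := G) (fun x hx => hx.1) (s := Lam) (fun x hx => by
    obtain ⟨η, hη, rfl⟩ := Finset.mem_image.1 hx
    exact ⟨nrm_fix hσ _, hscale η (mem_U.1 hη)⟩) (by
      show qq σ < Lam.card ^ 2
      nlinarith) (d / c') hz
  have := (AddSubmonoid.closure_le (S := S)).2 (fun z hz => ⟨hz.1, hz.2 c' hc'A⟩) hcl
  have h2 := this.2.2
  rw [mul_div_cancel₀ _ hc'0] at h2
  exact h2

end Cfsg.Agent.UnitDec
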