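import Cfsg.Agent.UnitDec.FixLine
import Cfsg.Agent.UnitDec.Tori
import Cfsg.Agent.UnitDec.Fill

/-!
Monomial case: a group properly containing the monomial group of determinant one contains all transvections.
-/

set_option autoImplicit false

namespace Cfsg.Agent.UnitDec

open Cfsg.Agent.Classical Cfsg.Agent.ClassicalMax.Unitary Module

variable {F V ι : Type*} [Field F] [Fintype F] [DecidableEq F] [AddCommGroup V] [Module F V] [FiniteDimensional F V]
  {σ : F →+* F} [Fintype ι] [DecidableEq ι] {B : V →ₛₗ[σ] V →ₗ[F] F} {e : Basis ι F V} {M : Subgroup (V ≃ₗ[F] V)}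

/-- two norm one elements with a prescribed trace relation -/
theorem two_circle (hσ : Herm.IsInvol σ) {n1 n2 : F} (h1 : σ n1 = n1) (h2 : σ n2 = n2) (h10 : n1 ≠ 0) (h20 : n2 ≠ 0) :
    ∃ z w : F, z * σ z = 1 ∧ w * σ w = 1 ∧ z ≠ 1 ∧ w ≠ 1 ∧
      n1 * (z + σ z - 2) + n2 * (w + σ w - 2) = 0 ∧ n1 * (z - 1) + n2 * (w - 1) ≠ 0 := by
  classical
  by_cases hs : n1 + n2 = 0
  · obtain ⟨z, hz, hz1, hz2⟩ := exists_zeta (σ := σ) hσ
    refine ⟨z, σ z, hz, nrm_conj hσ hz, hz1, fun h => hz1 (by rw [h, mul_one] at hz; exact hz), ?_, fun h => ?_⟩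
    · rw [hσ.invol]; linear_combination (z + σ z - 2) * hs
    · have : n1 * (z - σ z) = 0 := by linear_combination h - (σ z - 1) * hs
      refine hz2 ?_
      have e1 := sub_eq_zero.1 ((mul_eq_zero.1 this).resolve_left h10)
      rw [← e1] at hz; exact hz
  set Fx := Finset.univ.filter fun x : F => σ x = x with hFx
  have hFc : Fx.card = qq σ :=
    (Nat.card_eq_finsetCard _).symm.trans (Nat.card_congr (Equiv.subtypeEquivRight fun r => by simp [hFx, Herm.mem_fixField]))
  have tr1 : ∀ z : F, z * σ z = 1 → z + σ z = 2 → z = 1 := fun z hz ht =>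
    sub_eq_zero.1 (mul_self_eq_zero.1 (show (z - 1) * (z - 1) = 0 by linear_combination z * ht - hz))
  have hcount : ∀ k : F, k ≠ 0 → σ k = k → ∀ r : F, qq σ + 2 ≤ 2 * ((U σ).image fun z => r + k * (z + σ z - 2)).card := by
    intro k hk hks r
    have h := Finset.card_eq_sum_card_image (fun z => r + k * (z + σ z - 2)) (U σ)
    rw [card_U hσ] at h
    have hb : ∀ T ∈ (U σ).image (fun z => r + k * (z + σ z - 2)),
        ((U σ).filter fun z => r + k * (z + σ z - 2) = T).card + (if T = r then 1 else 0) ≤ 2 := by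
      intro T _
      split_ifs with hT
      · subst hT
        have : ((U σ).filter fun z => T + k * (z + σ z - 2) = T).card ≤ 1 := by
          rw [Finset.card_le_one]
          intro x hx y hy
          rw [Finset.mem_filter, mem_U] at hx hy
          have ex : ∀ z, z * σ z = 1 → T + k * (z + σ z - 2) = T → z = 1 := fun z hz he =>
            tr1 z hz (sub_eq_zero.1 ((mul_eq_zero.1 (add_eq_left.1 he)).resolve_left hk))
          rw [ex x hx.1 hx.2, ex y hy.1 hy.2]
        omega
      · rw [add_zero]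
        refine trace_le_two (σ := σ) (k := k) (r := T - r + 2 * k) hk fun x hx => ?_
        rw [Finset.mem_filter, mem_U] at hx
        exact ⟨hx.1, by rw [map_mul, hks]; linear_combination hx.2⟩
    have h2' := Finset.sum_le_sum hb
    rw [Finset.sum_add_distrib, Finset.sum_ite_eq', if_pos, Finset.sum_const, smul_eq_mul, ← h] at h2'
    · omega
    · exact Finset.mem_image.2 ⟨1, one_mem_U, by rw [map_one]; ring⟩
  set R1 := (U σ).image fun z => 0 + n1 * (z + σ z - 2)
  set R2 := (U σ).image fun w => 0 + -n2 * (w + σ w - 2)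
  have hsub : R1 ∪ R2 ⊆ Fx := by
    intro x hx
    rw [Finset.mem_union] at hx
    rw [Finset.mem_filter]
    refine ⟨Finset.mem_univ _, ?_⟩
    rcases hx with hx | hx <;> obtain ⟨z, -, rfl⟩ := Finset.mem_image.1 hx <;>
      simp only [map_add, map_mul, map_sub, map_zero, map_neg, map_ofNat, hσ.invol, h1, h2] <;> ring
  have h3 := Finset.card_inter_add_card_union R1 R2
  have h4 := (Finset.card_le_card hsub).trans_eq hFc
  have e1 := hcount n1 h10 h1 0
  have e2 := hcount (-n2) (neg_ne_zero.2 h20) (by rw [map_neg, h2]) 0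
  obtain ⟨T, hT, hT0⟩ := Finset.exists_mem_ne (show 1 < (R1 ∩ R2).card by
    have e1' : qq σ + 2 ≤ 2 * R1.card := e1
    have e2' : qq σ + 2 ≤ 2 * R2.card := e2
    omega) 0
  rw [Finset.mem_inter] at hT
  obtain ⟨z, hz, hzT⟩ := Finset.mem_image.1 hT.1
  obtain ⟨w, hw, hwT⟩ := Finset.mem_image.1 hT.2
  rw [mem_U] at hz hw
  have hz1 : z ≠ 1 := fun h => hT0 (by rw [← hzT, h, map_one]; ring)
  have hw1 : w ≠ 1 := fun h => hT0 (by rw [← hwT, h, map_one]; ring)
  have hsz : σ z ≠ 1 := fun h => hz1 (by rw [← hσ.invol z, h, map_one])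
  have hsw : σ w ≠ 1 := fun h => hw1 (by rw [← hσ.invol w, h, map_one])
  have hrel : n1 * (z + σ z - 2) + n2 * (w + σ w - 2) = 0 := by linear_combination hzT - hwT
  by_cases b1 : n1 * (z - 1) + n2 * (w - 1) ≠ 0
  · exact ⟨z, w, hz, hw, hz1, hw1, hrel, b1⟩
  by_cases b2 : n1 * (z - 1) + n2 * (σ w - 1) ≠ 0
  · exact ⟨z, σ w, hz, nrm_conj hσ hw, hz1, hsw, by rw [hσ.invol]; linear_combination hrel, b2⟩
  by_cases b3 : n1 * (σ z - 1) + n2 * (w - 1) ≠ 0
  · exact ⟨σ z, w, nrm_conj hσ hz, hw, hsz, hw1, by rw [hσ.invol]; linear_combination hrel, b3⟩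
  push Not at b1 b2 b3
  exfalso
  have r1 : w = σ w := mul_left_cancel₀ h20 (by linear_combination b1 - b2)
  have r2 : z = σ z := mul_left_cancel₀ h10 (by linear_combination b1 - b3)
  rw [← r1] at hw; rw [← r2] at hz
  have hzm : z = -1 := (mul_self_eq_one_iff.1 hz).resolve_left hz1
  have hwm : w = -1 := (mul_self_eq_one_iff.1 hw).resolve_left hw1
  rw [hzm, hwm] at b1
  have h22 : (2 : F) * (n1 + n2) = 0 := by linear_combination -b1
  exact hz1 (hzm.trans (show (-1 : F) = 1 by linear_combination -((mul_eq_zero.1 h22).resolve_right hs)))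

theorem zero_mem_centres (hB : Herm.IsHerm B) : (0 : V) ∈ centres B M :=
  ⟨by simp, fun hv c _ => by
    rw [show Herm.tvU hv c = 1 from LinearEquiv.ext fun x => by simp [Herm.tvU_apply]]; exact one_mem M⟩

/-- the hypotheses used once an element fixing a coordinate line is known -/
structure MonBase (B : V →ₛₗ[σ] V →ₗ[F] F) (e : Basis ι F V) (M : Subgroup (V ≃ₗ[F] V)) : Prop where
  herm : Herm.IsHerm B
  onb : IsONB B e
  three : 3 ≤ Fintype.card ι
  mono_mem : ∀ g, Iso B g → LinearMap.det g.toLinearMap = 1 → Mono B e g → g ∈ M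

theorem MonHyp.base (H : MonHyp B e M) : MonBase B e M :=
  ⟨H.herm, H.onb, le_trans (by norm_num) H.big, H.mono_mem⟩

theorem MonBase.diag_mem (H : MonBase B e M) (θ : ι → F) (h : ∀ i, θ i * σ (θ i) = 1) (hp : ∏ i, θ i = 1) :
    ∃ t ∈ M, Iso B t ∧ ∀ i, t (e i) = θ i • e i := by
  obtain ⟨t, hti, ht, htd⟩ := exists_diag H.onb θ h
  exact ⟨t, H.mono_mem t hti (htd.trans hp) (mono_of_apply H.onb (π := 1) ht), hti, ht⟩

section

variable (H : MonBase B e M)
include H

theorem tor_conj {x : V ≃ₗ[F] V} (hxM : x ∈ M) (hx : Iso B x) {i a : ι} (hia : i ≠ a) {c : F}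
    (hxa : x (e a) = c • e a) : Tor B M (x (e i)) (e a) := fun η hη => by
  have hc : c * σ c = 1 := by
    have := hx (e a) (e a)
    rw [hxa, Herm.smul_self H.herm, H.onb, if_pos rfl, mul_one] at this
    exact this
  obtain ⟨t, htM, hti, ht⟩ := H.diag_mem (pairW i a η) (fun l => pairW_nrm hη l) (pairW_prod hia (nrm_ne_zero hη))
  refine ⟨x * t * x⁻¹, mul_mem (mul_mem hxM htM) (inv_mem hxM), (hx.mul hti).mul hx.inv, fun w => ?_⟩
  have h := conj_diag' H.onb hx ht w
  rw [Fintype.sum_eq_add i a hia fun l hl => by simp [pairW, hl.1, hl.2], sub_eq_iff_eq_add] at h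
  rw [h]
  simp only [Rot, pairW, pairW.σ', if_true, hia.symm, if_false, hxa, map_smulₛₗ, LinearMap.smul_apply, smul_eq_mul, smul_smul]
  match_scalars
  · ring
  · linear_combination ((η⁻¹ - 1) * B (e a) w) * hc
  · ring

/-- any centre away from one coordinate gives all centres on two places -/
theorem two_places {v : V} (hv : v ∈ centres B M) (hv0 : v ≠ 0) {a : ι} (hva : B (e a) v = 0) (i j : ι) (u : V)
    (hu : B u u = 0) (huo : ∀ l, l ≠ i → l ≠ j → B (e l) u = 0) : u ∈ centres B M := by
  classical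
  have hon := H.onb
  have hB := H.herm
  have hσ := hB.toIsInvol
  -- a centre on exactly two places
  obtain ⟨d, hd, p, q, hpq, hdp, hdq, hdo⟩ : ∃ d ∈ centres B M, ∃ p q, p ≠ q ∧ B (e p) d ≠ 0 ∧ B (e q) d ≠ 0 ∧
      ∀ l, l ≠ p → l ≠ q → B (e l) d = 0 := by
    have h2 : 2 ≤ (supp B e v).card := by
      by_contra h
      have := hv.1
      rw [norm_supp hon v] at this
      rcases Nat.lt_or_ge (supp B e v).card 1 with h1 | h1
      · exact hv0 (ext_co hon fun l => by rw [map_zero]; exact notMem_supp.1 (by simp [Finset.card_eq_zero.1 (by omega : (supp B e v).card = 0)]))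
      · obtain ⟨l, hl⟩ := Finset.card_eq_one.1 (show (supp B e v).card = 1 by omega)
        rw [hl, Finset.sum_singleton] at this
        have hln : B (e l) v ≠ 0 := mem_supp.1 (by simp [hl])
        exact mul_ne_zero hln ((map_ne_zero σ).2 hln) this
    obtain ⟨b, hb, c, hc, hbc⟩ := Finset.one_lt_card.1 (show 1 < (supp B e v).card by omega)
    rw [mem_supp] at hb hc
    have hba : b ≠ a := fun h => hb (h ▸ hva)
    have hca : c ≠ a := fun h => hc (h ▸ hva)
    obtain ⟨z, w, hz, hw, hz1, hw1, hrel, hne⟩ := two_circle (σ := σ) hσ (nrm_fix hσ (B (e b) v)) (nrm_fix hσ (B (e c) v))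
      (mul_ne_zero hb ((map_ne_zero σ).2 hb)) (mul_ne_zero hc ((map_ne_zero σ).2 hc))
    let θ : ι → F := fun l => if l = b then z else if l = c then w else if l = a then (z * w)⁻¹ else 1
    obtain ⟨t, htM, hti, ht⟩ := H.diag_mem θ (fun l => by
      simp only [θ]; split_ifs; exacts [hz, hw, nrm_inv (nrm_mul hz hw), by simp]) (by
      have hθ : ∀ l, θ l = (if l = b then z else 1) * (if l = c then w else 1) * if l = a then (z * w)⁻¹ else 1 := fun l => by
        simp only [θ]
        by_cases g1 : l = b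
        · subst g1; simp [hbc, hba]
        by_cases g2 : l = c
        · subst g2; simp [g1, hca]
        simp [g1, g2]
      rw [Finset.prod_congr rfl fun l _ => hθ l, Finset.prod_mul_distrib, Finset.prod_mul_distrib, Finset.prod_ite_eq',
        Finset.prod_ite_eq', Finset.prod_ite_eq']
      rw [if_pos (Finset.mem_univ b), if_pos (Finset.mem_univ c), if_pos (Finset.mem_univ a),
        mul_inv_cancel₀ (mul_ne_zero (nrm_ne_zero hz) (nrm_ne_zero hw))])
    have hv' := map_mem_centres hB hv htM hti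
    have hco : ∀ l, B (e l) (t v) = θ l * B (e l) v := fun l => co_diag hon ht l v
    have hBd : B v (t v) = B (e b) v * σ (B (e b) v) * (z - 1) + B (e c) v * σ (B (e c) v) * (w - 1) := by
      have e1 : B v (t v) = ∑ l, σ (B (e l) v) * B (e l) v * (θ l - 1) + B v v := by
        rw [form hon v v, form hon v (t v), ← Finset.sum_add_distrib]
        exact Finset.sum_congr rfl fun l _ => by rw [hco]; ring
      rw [e1, hv.1, add_zero, Fintype.sum_eq_add b c hbc fun l hl => ?_]
      · simp only [θ, if_true, hbc.symm, if_false]; ring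
      · by_cases g : l = a
        · subst g; rw [hva]; simp
        · simp [θ, hl.1, hl.2, g]
    refine ⟨(1 : F) • t v + (-1 : F) • v, span_centres hB hv' hv ?_ 1 (-1) ?_, b, c, hbc, ?_, ?_, fun l hl1 hl2 => ?_⟩
    · rw [← hB.symm, hBd]; exact (map_ne_zero σ).2 hne
    · simp only [one_smul, neg_smul, map_add, map_neg, LinearMap.add_apply, LinearMap.neg_apply, hv.1, hv'.1]
      rw [← hB.symm v (t v), hBd]
      simp only [map_add, map_mul, map_sub, map_one, hσ.invol]
      linear_combination -hrel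
    · rw [map_add, map_smul, map_smul, hco]; simp only [θ, if_true, smul_eq_mul]
      rw [show 1 * (z * B (e b) v) + -1 * B (e b) v = (z - 1) * B (e b) v by ring]
      exact mul_ne_zero (sub_ne_zero.2 hz1) hb
    · rw [map_add, map_smul, map_smul, hco]; simp only [θ, if_true, hbc.symm, if_false, smul_eq_mul]
      rw [show 1 * (w * B (e c) v) + -1 * B (e c) v = (w - 1) * B (e c) v by ring]
      exact mul_ne_zero (sub_ne_zero.2 hw1) hc
    · rw [map_add, map_smul, map_smul, hco]
      by_cases g : l = a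
      · subst g; simp [hva]
      · simp [θ, hl1, hl2, g]
  by_cases hu0 : u = 0
  · rw [hu0]; exact zero_mem_centres hB
  have hsum : ∀ (w : V) (p q : ι), p ≠ q → (∀ l, l ≠ p → l ≠ q → B (e l) w = 0) →
      B w w = B (e p) w * σ (B (e p) w) + B (e q) w * σ (B (e q) w) := fun w p q hpq hw => by
    rw [form hon w w, Fintype.sum_eq_add p q hpq fun l hl => by rw [hw l hl.1 hl.2, mul_zero]]; ring
  have hij : i ≠ j := by
    rintro rfl
    have h1 : u = B (e i) u • e i := eq_single hon fun l hl => huo l hl hl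
    have : B (e i) u * σ (B (e i) u) = 0 := by
      rw [h1, Herm.smul_self hB, hon, if_pos rfl, mul_one] at hu; exact hu
    rcases mul_eq_zero.1 this with h | h
    · exact hu0 (by rw [h1, h, zero_smul])
    · exact hu0 (by rw [h1, (map_eq_zero σ).1 h, zero_smul])
  have hnu := (hsum u i j hij huo).symm.trans hu
  have hnd := (hsum d p q hpq hdo).symm.trans hd.1
  have hui : B (e i) u ≠ 0 := fun h => by
    rw [h, zero_mul, zero_add] at hnu
    have hj0 : B (e j) u = 0 := (mul_eq_zero.1 hnu).elim id (map_eq_zero σ).1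
    exact hu0 (ext_co hon fun l => by
      rw [map_zero]
      by_cases g1 : l = i; · rw [g1, h]
      by_cases g2 : l = j; · rw [g2, hj0]
      exact huo l g1 g2)
  have huj : B (e j) u ≠ 0 := fun h => by
    rw [h, zero_mul, add_zero] at hnu
    exact mul_ne_zero hui ((map_ne_zero σ).2 hui) hnu
  set np := B (e p) d * σ (B (e p) d)
  have hnp : np ≠ 0 := mul_ne_zero hdp ((map_ne_zero σ).2 hdp)
  obtain ⟨s, hs⟩ := Herm.exists_norm hσ (a := B (e i) u * σ (B (e i) u) / np) (by
    rw [map_div₀, nrm_fix hσ, nrm_fix hσ])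
  rw [eq_div_iff hnp] at hs
  have hs0 : s ≠ 0 := fun h => mul_ne_zero hui ((map_ne_zero σ).2 hui) (by rw [← hs, h]; ring)
  obtain ⟨l, hl, hlq⟩ : ∃ l, l ≠ p ∧ l ≠ q := by
    obtain ⟨l, -, hl⟩ := Finset.exists_mem_notMem_of_card_lt_card (s := ({p, q} : Finset ι)) (t := Finset.univ) (by
      rw [Finset.card_univ]; exact lt_of_le_of_lt Finset.card_le_two (by have := H.three; omega))
    simp only [Finset.mem_insert, Finset.mem_singleton, not_or] at hl
    exact ⟨l, hl⟩
  let π : Equiv.Perm ι := (Equiv.swap p i).trans (Equiv.swap (Equiv.swap p i q) j)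
  have hπp : π p = i := by
    show Equiv.swap (Equiv.swap p i q) j (Equiv.swap p i p) = i
    rw [Equiv.swap_apply_left]
    refine Equiv.swap_apply_of_ne_of_ne (fun h => hpq ((Equiv.swap p i).injective ?_)) hij
    rw [Equiv.swap_apply_left]; exact h
  have hπq : π q = j := Equiv.swap_apply_left _ _
  let φ : ι → F := fun m => if m = p then B (e i) u / (s * B (e p) d) else if m = q then B (e j) u / (s * B (e q) d) else 1
  have hnrm : ∀ {x y : F}, y ≠ 0 → x * σ x = y * σ y → x / y * σ (x / y) = 1 := fun {x y} hy h => by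
    rw [map_div₀, div_mul_div_comm, h, div_self (mul_ne_zero hy ((map_ne_zero σ).2 hy))]
  obtain ⟨g, δ, -, hgi, hgd, hg⟩ := exists_mon hon hB π φ (fun m => by
    simp only [φ]
    split_ifs
    · exact hnrm (mul_ne_zero hs0 hdp) (by rw [map_mul]; linear_combination -hs)
    · exact hnrm (mul_ne_zero hs0 hdq) (by rw [map_mul]; linear_combination hnu - (s * σ s) * hnd + hs)
    · simp) l
  have hres : g (s • d) = u := ext_co hon fun m => by
    obtain ⟨m, rfl⟩ := π.surjective m
    rw [co_mono hon hg, map_smul, smul_eq_mul]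
    by_cases g1 : m = p
    · subst g1; rw [hπp, if_neg hl.symm]; simp only [φ, if_true]; field_simp
    by_cases g2 : m = q
    · subst g2; rw [hπq, if_neg hlq.symm]; simp only [φ, g1, if_false, if_true]; field_simp
    rw [hdo m g1 g2, mul_zero, mul_zero, huo]
    · exact fun h => g1 (π.injective (h.trans hπp.symm))
    · exact fun h => g2 (π.injective (h.trans hπq.symm))
  rw [← hres]
  exact map_mem_centres hB (smul_mem_centres hB hd s) (H.mono_mem g hgi hgd (mono_of_apply hon hg)) hgi

/-- two tori through a coordinate with a pairing of norm one -/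
theorem deg_centre {y : V} {a b : ι} (hyy : B y y = 1) (hay : B (e a) y = 0) (hY : Tor B M y (e a)) (hba : b ≠ a)
    (hb1 : B (e b) y * σ (B (e b) y) = 1) : σ (B (e b) y) • y - e b ∈ centres B M := by
  have hon := H.onb
  have hB := H.herm
  have hu : σ (B (e b) y) * σ (σ (B (e b) y)) = 1 := nrm_conj hB.toIsInvol hb1
  refine degenerate hB (a := e a) ?_ ?_ ?_ ?_ ?_ ?_ ?_ (hY.smul hu)
  · rw [hon, if_pos rfl]
  · rw [hon, if_pos rfl]
  · rw [hon, if_neg hba]
  · rw [map_smul, hay, smul_zero]
  · rw [Herm.smul_self hB, hu, hyy, mul_one]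
  · rw [map_smul, smul_eq_mul, mul_comm, hb1]
  · simpa using tor_conj H (one_mem M) Iso.one hba (c := 1) (by simp)

/-- an element fixing a coordinate line gives a centre avoiding that coordinate -/
theorem centre_of_fix {x : V ≃ₗ[F] V} (hxM : x ∈ M) (hxi : Iso B x) (hxm : ¬ Mono B e x) {a : ι} {cc : F}
    (hxa : x (e a) = cc • e a) : ∃ v ∈ centres B M, v ≠ 0 ∧ B (e a) v = 0 := by
  classical
  have hon := H.onb
  have hB := H.herm
  have hcc : cc ≠ 0 := fun h => by rw [h, zero_smul, x.map_eq_zero_iff] at hxa; exact e.ne_zero a hxa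
  obtain ⟨i, hi⟩ : ∃ i, ∀ j, ∃ k, k ≠ j ∧ B (e k) (x (e i)) ≠ 0 := by
    by_contra h
    push Not at h
    exact hxm (mono_of_single hon hxi h)
  have hia : i ≠ a := by
    rintro rfl
    obtain ⟨k, hk, hk'⟩ := hi i
    exact hk' (by rw [hxa, co_single hon, if_neg hk])
  set y := x (e i)
  have hY : Tor B M y (e a) := tor_conj H hxM hxi hia hxa
  have hay : B (e a) y = 0 := by
    have := hxi (e a) (e i)
    rw [hxa, map_smulₛₗ, LinearMap.smul_apply, smul_eq_mul, hon, if_neg hia.symm] at this
    exact (mul_eq_zero.1 this).resolve_left ((map_ne_zero σ).2 hcc)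
  have hyy : B y y = 1 := by rw [hxi, hon, if_pos rfl]
  obtain ⟨b, -, hb⟩ := hi a
  have hba : b ≠ a := fun h => hb (h ▸ hay)
  by_cases hdeg : B (e b) y * σ (B (e b) y) = 1
  · refine ⟨_, deg_centre H hyy hay hY hba hdeg, fun h => ?_, by simp [hay, hon a b, hba.symm]⟩
    obtain ⟨k, hk, hk'⟩ := hi b
    have h1 := congrArg (B (e k)) h
    rw [map_sub, map_smul, hon, if_neg hk, sub_zero, map_zero, smul_eq_mul] at h1
    exact hk' ((mul_eq_zero.1 h1).resolve_left ((map_ne_zero σ).2 hb))
  · exact nondegenerate hB (by rw [hon, if_pos rfl]) (by rw [hon, if_pos rfl]) (by rw [hon, if_neg hba]) hay hyy hb hdeg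
      (by simpa using tor_conj H (one_mem M) Iso.one hba (c := 1) (by simp)) hY

end

/-- the monomial case, given an element fixing a coordinate line -/
theorem mono_centres_of_fix (H : MonBase B e M) (hbig : 6 ≤ Fintype.card ι) {x : V ≃ₗ[F] V} (hxM : x ∈ M)
    (hxi : Iso B x) (hxm : ¬ Mono B e x) {a : ι} {cc : F} (hxa : x (e a) = cc • e a) :
    ∀ v, B v v = 0 → v ∈ centres B M := by
  classical
  have hon := H.onb
  have hB := H.herm
  have hσ := hB.toIsInvol
  have : Nonempty ι := Fintype.card_pos_iff.1 (by omega)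
  have hcc : cc ≠ 0 := fun h => by rw [h, zero_smul, x.map_eq_zero_iff] at hxa; exact e.ne_zero a hxa
  obtain ⟨i, hi⟩ : ∃ i, ∀ j, ∃ k, k ≠ j ∧ B (e k) (x (e i)) ≠ 0 := by
    by_contra h
    push Not at h
    exact hxm (mono_of_single hon hxi h)
  have hia : i ≠ a := by
    rintro rfl
    obtain ⟨k, hk, hk'⟩ := hi i
    exact hk' (by rw [hxa, co_single hon, if_neg hk])
  set y := x (e i)
  have hY : Tor B M y (e a) := tor_conj H hxM hxi hia hxa
  have hay : B (e a) y = 0 := by
    have := hxi (e a) (e i)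
    rw [hxa, map_smulₛₗ, LinearMap.smul_apply, smul_eq_mul, hon, if_neg hia.symm] at this
    exact (mul_eq_zero.1 this).resolve_left ((map_ne_zero σ).2 hcc)
  have hyy : B y y = 1 := by rw [hxi, hon, if_pos rfl]
  obtain ⟨b, -, hb⟩ := hi a
  have hba : b ≠ a := fun h => hb (h ▸ hay)
  have deg : ∀ b, b ≠ a → B (e b) y * σ (B (e b) y) = 1 → σ (B (e b) y) • y - e b ∈ centres B M := fun b hba hb1 =>
    deg_centre H hyy hay hY hba hb1
  obtain ⟨v, hv, hv0, hva⟩ := centre_of_fix H hxM hxi hxm hxa
  have h2 := two_places H hv hv0 hva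
  rcases (two_le_qq (σ := σ)).eq_or_lt' with hq | hq
  swap
  · exact all_big hon hB h2 hq
  obtain ⟨h20, hnrm⟩ := two_elts hon hB hq
  have heven : ∀ w : V, B w w = 0 → ((supp B e w).card : F) = 0 := fun w hw => by
    rw [norm_supp hon w, Finset.sum_congr rfl fun l hl => hnrm _ (mem_supp.1 hl)] at hw
    simpa using hw
  have hno3 : ∀ w : V, B w w = 0 → (supp B e w).card ≠ 3 := fun w hw h => by
    have := heven w hw
    rw [h] at this; push_cast at this
    exact one_ne_zero (show (1 : F) = 0 by linear_combination this - h20)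
  obtain ⟨ω, hω, hω1, -⟩ := exists_zeta (σ := σ) hσ
  -- a centre with at least four places and a zero
  obtain ⟨v, hv, hv4, a0, hva0⟩ : ∃ v ∈ centres B M, 4 ≤ (supp B e v).card ∧ ∃ a0, B (e a0) v = 0 := by
    set r := σ (B (e b) y) • y - e b
    have hr : r ∈ centres B M := deg b hba (hnrm _ hb)
    have hra : B (e a) r = 0 := by simp [r, hay, hon a b, hba.symm]
    have hrs : supp B e r = (supp B e y).erase b := by
      ext l
      rw [Finset.mem_erase, mem_supp, mem_supp]
      by_cases g1 : l = b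
      · subst g1
        simp [r, hon l l, mul_comm, hnrm _ hb]
      · simp [r, hon l b, g1, hb]
    have hcr : (supp B e r).card = (supp B e y).card - 1 := by
      rw [hrs, Finset.card_erase_of_mem (mem_supp.2 hb)]
    rcases Nat.lt_or_ge (supp B e r).card 3 with hsm | hbg
    swap
    · exact ⟨r, hr, by have := hno3 r hr.1; omega, a, hra⟩
    obtain ⟨g', -, hg'⟩ := Finset.exists_mem_notMem_of_card_lt_card (s := insert a (supp B e y)) (t := Finset.univ) (by
      rw [Finset.card_univ]; exact lt_of_le_of_lt (Finset.card_insert_le _ _) (by omega))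
    rw [Finset.mem_insert, not_or, notMem_supp] at hg'
    have hgb : g' ≠ b := fun h => hb (h ▸ hg'.2)
    set v0 := e b + e g'
    have hv0i : B v0 v0 = 0 := by
      simp [v0, hon b b, hon b g', hon g' b, hon g' g', hgb, hgb.symm]; linear_combination h20
    have hv0C : v0 ∈ centres B M := h2 b g' v0 hv0i fun l hl1 hl2 => by simp [v0, hon l b, hon l g', hl1, hl2]
    obtain ⟨R, hRM, hRi, hR⟩ := hY ω hω
    have hBy : B y v0 = σ (B (e b) y) := by
      simp [v0, (Herm.eq_zero_comm hB).1 hg'.2, hB.symm]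
    have hBa : B (e a) v0 = 0 := by simp [v0, hon a b, hon a g', hba.symm, Ne.symm hg'.1]
    have hco : ∀ l, B (e l) (R v0) = (if l = b then 1 else 0) + (if l = g' then 1 else 0) + (ω - 1) * σ (B (e b) y) * B (e l) y := fun l => by
      rw [hR]; simp only [Rot, map_add, map_smul, smul_eq_mul, hBy, hBa, v0, hon l b, hon l g']; ring
    refine ⟨R v0, map_mem_centres hB hv0C hRM hRi, ?_, a, by simp [hco, hba.symm, Ne.symm hg'.1, hay]⟩
    have hsub : insert g' (supp B e y) ⊆ supp B e (R v0) := fun l hl => by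
      rw [Finset.mem_insert, mem_supp] at hl
      rw [mem_supp, hco]
      by_cases g1 : l = b
      · subst g1
        rw [if_pos rfl, if_neg hgb.symm, add_zero]
        rw [show (1 : F) + (ω - 1) * σ (B (e l) y) * B (e l) y = ω by linear_combination (ω - 1) * hnrm _ hb]
        exact nrm_ne_zero hω
      rcases hl with rfl | hl
      · simp [hgb, hg'.2]
      · have g2 : l ≠ g' := fun h => hl (h ▸ hg'.2)
        rw [if_neg g1, if_neg g2, zero_add, zero_add]
        exact mul_ne_zero (mul_ne_zero (sub_ne_zero.2 hω1) ((map_ne_zero σ).2 hb)) hl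
    have h := Finset.card_le_card hsub
    rw [Finset.card_insert_of_notMem (notMem_supp.2 hg'.2)] at h
    have h1 : 1 < (supp B e y).card := by
      obtain ⟨k, hk, hk'⟩ := hi b
      exact Finset.one_lt_card.2 ⟨k, mem_supp.2 hk', b, mem_supp.2 hb, hk⟩
    have := hno3 _ (map_mem_centres hB hv0C hRM hRi).1
    omega
  -- exactly four places
  obtain ⟨w4, hw4, hw4c⟩ : ∃ w ∈ centres B M, (supp B e w).card = 4 := by
    obtain ⟨b1, b2, b3, hb1, hb2, hb3, h12, h13, h23⟩ := Finset.two_lt_card_iff.1 (show 2 < (supp B e v).card by omega)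
    rw [mem_supp] at hb1 hb2 hb3
    have hne : ∀ l, B (e l) v ≠ 0 → l ≠ a0 := fun l hl h => hl (h ▸ hva0)
    obtain ⟨h, δ, hδ, hhi, hhd, hh⟩ := exists_mon hon hB (Equiv.swap b3 a0)
      (fun l => if l = b1 ∨ l = b2 then ω else 1) (fun l => by split_ifs; exacts [hω, by simp]) a0
    have hco := fun l => co_mono hon hh l v
    have c1 : ∀ l, l = b1 ∨ l = b2 → B (e l) (h v) = ω * B (e l) v := fun l hl => by
      have g0 : l ≠ a0 := hl.elim (fun h => h ▸ hne _ hb1) (fun h => h ▸ hne _ hb2)
      have g3 : l ≠ b3 := hl.elim (fun h => h ▸ h13) (fun h => h ▸ h23)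
      have := hco l
      rwa [Equiv.swap_apply_of_ne_of_ne g3 g0, if_neg g0, if_pos hl] at this
    have c3 : B (e b3) (h v) = 0 := by
      have := hco a0
      rwa [Equiv.swap_apply_right, hva0, mul_zero] at this
    have ca : B (e a0) (h v) = B (e b3) v := by
      have := hco b3
      rwa [Equiv.swap_apply_left, if_neg (hne _ hb3), if_neg (by simp [h13.symm, h23.symm]), one_mul] at this
    have co : ∀ l, l ≠ b1 → l ≠ b2 → l ≠ b3 → l ≠ a0 → B (e l) (h v) = B (e l) v := fun l g1 g2 g3 g0 => by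
      have := hco l
      rwa [Equiv.swap_apply_of_ne_of_ne g3 g0, if_neg g0, if_neg (by simp [g1, g2]), one_mul] at this
    have hv' := map_mem_centres hB hv (H.mono_mem h hhi hhd (mono_of_apply hon hh)) hhi
    have hBv : B v (h v) = 1 := by
      have e1 : B v (h v) = ∑ l, σ (B (e l) v) * (B (e l) (h v) - B (e l) v) + B v v := by
        rw [form hon v v, form hon v (h v), ← Finset.sum_add_distrib]
        exact Finset.sum_congr rfl fun l _ => by ring
      rw [e1, hv.1, add_zero, ← Finset.sum_subset (Finset.subset_univ ({b1, b2, b3} : Finset ι)) fun l _ hl => ?_,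
        Finset.sum_insert (by simp [h12, h13]), Finset.sum_insert (by simp [h23]), Finset.sum_singleton,
        c1 b1 (Or.inl rfl), c1 b2 (Or.inr rfl), c3]
      · linear_combination (ω - 1) * hnrm _ hb1 + (ω - 1) * hnrm _ hb2 - hnrm _ hb3 + (ω - 2) * h20
      · simp only [Finset.mem_insert, Finset.mem_singleton, not_or] at hl
        by_cases g : l = a0
        · rw [g, hva0, map_zero, zero_mul]
        · rw [co l hl.1 hl.2.1 hl.2.2 g, sub_self, mul_zero]
    refine ⟨(1 : F) • h v + (-1 : F) • v, span_centres hB hv' hv ?_ 1 (-1) ?_, ?_⟩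
    · rw [← hB.symm, hBv, map_one]; exact one_ne_zero
    · simp only [one_smul, neg_smul, map_add, map_neg, LinearMap.add_apply, LinearMap.neg_apply, hv.1, hv'.1]
      rw [← hB.symm v (h v), hBv, map_one]
      linear_combination -h20
    · have : supp B e ((1 : F) • h v + (-1 : F) • v) = {b1, b2, b3, a0} := by
        ext l
        rw [mem_supp, Finset.mem_insert, Finset.mem_insert, Finset.mem_insert, Finset.mem_singleton, map_add, map_smul,
          map_smul, smul_eq_mul, smul_eq_mul, one_mul, neg_one_mul, ← sub_eq_add_neg]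
        by_cases g1 : l = b1 ∨ l = b2
        · refine iff_of_true ?_ (g1.elim Or.inl fun h => Or.inr (Or.inl h))
          rw [c1 l g1, ← sub_one_mul]
          exact mul_ne_zero (sub_ne_zero.2 hω1) (g1.elim (fun h => h ▸ hb1) fun h => h ▸ hb2)
        rw [not_or] at g1
        by_cases g3 : l = b3
        · subst g3; rw [c3, zero_sub, neg_ne_zero]; exact iff_of_true hb3 (by tauto)
        by_cases g0 : l = a0
        · subst g0; rw [ca, hva0, sub_zero]; exact iff_of_true hb3 (by tauto)
        rw [co l g1.1 g1.2 g3 g0, sub_self]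
        exact iff_of_false (fun h => h rfl) (by tauto)
      rw [this, Finset.card_insert_of_notMem (by simp [h12, h13, hne _ hb1]),
        Finset.card_insert_of_notMem (by simp [h23, hne _ hb2]), Finset.card_pair (hne _ hb3)]
  exact all_small hon hB h2 (by omega) hq hw4 hw4c

variable (H : MonHyp B e M)
include H

/-- the monomial case -/
theorem mono_centres {g : V ≃ₗ[F] V} (hgM : g ∈ M) (hg : Iso B g) (hgm : ¬ Mono B e g) :
    ∀ v, B v v = 0 → v ∈ centres B M := by
  obtain ⟨x, hxM, hxi, hxm, a, cc, hxa⟩ := exists_fix H hgM hg hgm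
  exact mono_centres_of_fix H.base (le_trans (by norm_num) H.big) hxM hxi hxm hxa

end Cfsg.Agent.UnitDec
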