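import Cfsg.Agent.UnitDec.MonoSix

/-!
Monomial case in dimension eight over every field.
-/

set_option autoImplicit false

namespace Cfsg.Agent.UnitDec

open Cfsg.Agent.Classical Cfsg.Agent.ClassicalMax.Unitary Module

namespace Eight

variable {F V ι : Type*} [Field F] [Fintype F] [DecidableEq F] [AddCommGroup V] [Module F V] [FiniteDimensional F V]
  {σ : F →+* F} [Fintype ι] [DecidableEq ι] {B : V →ₛₗ[σ] V →ₗ[F] F} {e : Basis ι F V} {M : Subgroup (V ≃ₗ[F] V)}

variable (H : MonBase B e M)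
include H

/-- with four elements two zeros of a column put two columns of the inverse on a common triple -/
theorem common_triple (hq : qq σ = 2) (NF : NoFix B e M) {g : V ≃ₗ[F] V} (hgM : g ∈ M) (hg : Iso B g)
    (hgm : ¬ Mono B e g) {j b c : ι} (hbc : b ≠ c) (hb : B (e b) (g (e j)) = 0) (hc : B (e c) (g (e j)) = 0) :
    ∃ T : Finset ι, T.card ≤ 3 ∧ ∀ i, i ∉ T → B (e i) (g⁻¹ (e b)) = 0 ∧ B (e i) (g⁻¹ (e c)) = 0 := by
  classical
  have hon := H.onb
  have hσ := H.herm.toIsInvol
  have hcube : ∀ z : F, z ≠ 0 → z ^ 3 = 1 := fun z hz => by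
    have := FiniteField.pow_card_sub_one_eq_one z hz
    rwa [card_F hσ, hq] at this
  obtain ⟨ζ, hζ, hζ1, hζ2⟩ := exists_zeta (σ := σ) hσ
  have hζ0 := nrm_ne_zero hζ
  obtain ⟨t, htM, hti, ht⟩ := H.diag_mem (pairW b c ζ) (fun i => pairW_nrm hζ i) (pairW_prod hbc hζ0)
  set θ := pairW b c ζ with hθ
  have hθb : θ b = ζ := by simp [θ, pairW]
  have hθc : θ c = ζ⁻¹ := by simp [θ, pairW, pairW.σ', hbc.symm]
  have hθo : ∀ i, i ≠ b → i ≠ c → θ i = 1 := fun i h1 h2 => by simp [θ, pairW, h1, h2]
  have hθb1 : θ b ≠ 1 := by rw [hθb]; exact hζ1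
  have hθc1 : θ c ≠ 1 := by rw [hθc]; exact fun h => hζ1 (inv_eq_one.1 h)
  have hθbc : θ b ≠ θ c := by
    rw [hθb, hθc]; exact fun h => hζ2 ((congrArg (· * ζ) h).trans (inv_mul_cancel₀ hζ0))
  set x := g⁻¹ * t * g⁻¹⁻¹ with hx
  have hxi : Iso B x := (hg.inv.mul hti).mul hg.inv.inv
  have hxj : x (e j) = e j := by
    refine sub_eq_zero.1 ?_
    rw [hx, conj_diag' hon hg.inv ht]
    refine Finset.sum_eq_zero fun i _ => ?_
    by_cases h1 : i = b
    · rw [h1, ← hg.adj, hb, mul_zero, zero_smul]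
    by_cases h2 : i = c
    · rw [h2, ← hg.adj, hc, mul_zero, zero_smul]
    rw [hθo i h1 h2, sub_self, zero_mul, zero_smul]
  obtain ⟨π, φ, hφ⟩ := Mono.apply' hon
    (NF x (mul_mem (mul_mem (inv_mem hgM) htM) (inv_mem (inv_mem hgM))) hxi j j fun i hi => by rw [hxj, hon, if_neg hi])
  have hxg : ∀ i, x (g⁻¹ (e i)) = θ i • g⁻¹ (e i) := fun i => by
    simp only [x, inv_inv, LinearEquiv.mul_apply, apply_inv, ht, map_smul]
  have h3 : ∀ v, x (x (x v)) = v := fun v => by
    let f : V →ₗ[F] V := x.toLinearMap ∘ₗ x.toLinearMap ∘ₗ x.toLinearMap - LinearMap.id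
    have hf : f = 0 := (e.map g⁻¹).ext fun i => by
      simp only [f, Basis.map_apply, LinearMap.sub_apply, LinearMap.comp_apply, LinearEquiv.coe_coe, LinearMap.id_apply,
        LinearMap.zero_apply, hxg, map_smul, smul_smul]
      rw [show θ i * θ i * θ i = 1 by
        rw [← hcube (θ i) (nrm_ne_zero (pairW_nrm hζ i))]; ring, one_smul, sub_self]
    exact sub_eq_zero.1 (LinearMap.congr_fun hf v)
  have hπ3 : ∀ i, π (π (π i)) = i := fun i => by
    have h := congrArg (B (e i)) (h3 (e i))
    simp only [hφ, map_smul, smul_smul] at h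
    by_contra hne
    rw [hon, hon, if_pos rfl, if_neg (Ne.symm hne), smul_zero] at h
    exact zero_ne_one h
  -- nothing moved is fixed by the permutation
  have hfree : ∀ a, a ∈ moved e x → π a ≠ a := by
    intro a ha hfix
    have hφa : φ a ≠ 1 := fun h => mem_moved.1 ha (by rw [hφ, hfix, h, one_smul])
    have hco : ∀ i, θ i ≠ φ a → B (g⁻¹ (e i)) (e a) = 0 := fun i hi => by
      have h1 := hxi (g⁻¹ (e i)) (e a)
      rw [hxg, hφ, hfix] at h1
      simp only [map_smulₛₗ, LinearMap.smul_apply, smul_eq_mul, RingHom.id_apply] at h1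
      by_contra h0
      have h2 : σ (θ i) * φ a = 1 := mul_right_cancel₀ h0 (by linear_combination h1)
      exact hi (by linear_combination -(θ i) * h2 + (φ a) * pairW_nrm (k := b) (l := c) hζ i)
    obtain ⟨p, hp⟩ : ∃ p, ∀ m, m ≠ p → θ m ≠ φ a := by
      by_cases h1 : φ a = θ b
      · refine ⟨b, fun m hm => ?_⟩
        by_cases h2 : m = c
        · rw [h2, h1]; exact hθbc.symm
        · rw [hθo m hm h2, h1]; exact Ne.symm hθb1
      · refine ⟨c, fun m hm => ?_⟩
        by_cases h2 : m = b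
        · rw [h2]; exact Ne.symm h1
        · rw [hθo m h2 hm]; exact Ne.symm hφa
    exact hgm (NF g hgM hg a p fun m hm => by rw [hg.adj]; exact hco m (hp m hm))
  have hcard : (moved e x).card ≤ 2 * 2 := (card_moved_le hon hφ (({b, c} : Finset ι).image fun i => g⁻¹ (e i))
    fun y => Six.conj_small' H hg.inv ht {b, c} (fun i hi => by
      simp only [Finset.mem_insert, Finset.mem_singleton, not_or] at hi
      exact hθo i hi.1 hi.2) y).trans (Nat.mul_le_mul_left 2 (Finset.card_image_le.trans Finset.card_le_two))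
  refine ⟨moved e x, ?_, fun i hi => ?_⟩
  · by_contra! h
    obtain ⟨a, ha⟩ := Finset.card_pos.1 (show 0 < (moved e x).card by omega)
    have hO : ({a, π a, π (π a)} : Finset ι) ⊆ moved e x := by
      intro i hi
      simp only [Finset.mem_insert, Finset.mem_singleton] at hi
      rcases hi with rfl | rfl | rfl
      · exact ha
      · exact moved_perm hφ ha
      · exact moved_perm hφ (moved_perm hφ ha)
    have hO3 : ({a, π a, π (π a)} : Finset ι).card = 3 := by
      have h1 := hfree a ha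
      have h2 := hfree _ (moved_perm hφ ha)
      have h3' : π (π a) ≠ a := fun h => h1 (by have := hπ3 a; rwa [h] at this)
      rw [Finset.card_insert_of_notMem (by simp [Ne.symm h1, Ne.symm h3']), Finset.card_pair (Ne.symm h2)]
    obtain ⟨a', ha', hna'⟩ := Finset.exists_mem_notMem_of_card_lt_card (show
      ({a, π a, π (π a)} : Finset ι).card < (moved e x).card by omega)
    have hclosed : π a' ∉ ({a, π a, π (π a)} : Finset ι) := fun hm => by
      simp only [Finset.mem_insert, Finset.mem_singleton, not_or] at hna' hm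
      rcases hm with h | h | h
      · exact hna'.2.2 (π.injective (h.trans (hπ3 a).symm))
      · exact hna'.1 (π.injective h)
      · exact hna'.2.1 (π.injective h)
    have hbig : insert a' (insert (π a') ({a, π a, π (π a)} : Finset ι)) ⊆ moved e x :=
      Finset.insert_subset ha' (Finset.insert_subset (moved_perm hφ ha') hO)
    have h5 := Finset.card_le_card hbig
    rw [Finset.card_insert_of_notMem (by
      rw [Finset.mem_insert, not_or]; exact ⟨Ne.symm (hfree a' ha'), hna'⟩),
      Finset.card_insert_of_notMem hclosed, hO3] at h5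
    omega
  · have key : ∀ m, θ m ≠ 1 → B (e i) (g⁻¹ (e m)) = 0 := fun m hm => by
      have h := co_moved hon hφ (g⁻¹ (e m)) hi
      rw [hxg, map_sub, map_smul, smul_eq_mul] at h
      by_contra h0
      exact hm (mul_right_cancel₀ h0 (by linear_combination h))
    exact ⟨key b hθb1, key c hθc1⟩

/-- with four elements no column has two zeros -/
theorem col_two_two (hq : qq σ = 2) (hn : 8 ≤ Fintype.card ι) (NF : NoFix B e M) {g : V ≃ₗ[F] V} (hgM : g ∈ M)
    (hg : Iso B g) (hgm : ¬ Mono B e g) (j b c : ι) (hbc : b ≠ c) (hb : B (e b) (g (e j)) = 0)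
    (hc : B (e c) (g (e j)) = 0) : False := by
  classical
  have hon := H.onb
  obtain ⟨h20, hnrm⟩ := two_elts hon H.herm hq
  have short : ∀ y ∈ M, Iso B y → ¬ Mono B e y → ∀ a, (supp B e (y (e a))).card ≤ 3 → False := by
    intro y hyM hy hym a hsm
    have hym' : ¬ Mono B e y⁻¹ := fun h => hym (by simpa using Mono.inv' hon h)
    set Z := Finset.univ \ supp B e (y (e a)) with hZ
    have hZ5 : 5 ≤ Z.card := by
      rw [hZ, Finset.card_sdiff_of_subset (Finset.subset_univ _), Finset.card_univ]; omega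
    have hZ0 : ∀ i ∈ Z, B (e i) (y (e a)) = 0 := fun i hi => notMem_supp.1 (Finset.mem_sdiff.1 hi).2
    obtain ⟨b0, hb0⟩ := Finset.card_pos.1 (show 0 < Z.card by omega)
    set S := supp B e (y⁻¹ (e b0)) with hS
    have hS3 : 3 ≤ S.card := by
      have hu : B (y⁻¹ (e b0)) (y⁻¹ (e b0)) = 1 := by rw [hy.inv, hon, if_pos rfl]
      rw [norm_supp hon, Finset.sum_congr rfl fun l hl => hnrm _ (mem_supp.1 hl), Finset.sum_const, nsmul_one] at hu
      by_contra! h
      rcases (show S.card = 0 ∨ S.card = 1 ∨ S.card = 2 by omega) with h0 | h0 | h0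
      · rw [← hS, h0] at hu; simp at hu
      · obtain ⟨p, hp⟩ := Finset.card_eq_one.1 h0
        refine hym' (NF y⁻¹ (inv_mem hyM) hy.inv b0 p fun m hm => ?_)
        exact notMem_supp.1 (by rw [← hS, hp]; simp [hm])
      · rw [← hS, h0] at hu; push_cast at hu
        exact one_ne_zero (show (1 : F) = 0 by linear_combination h20 - hu)
    have hle : Submodule.span F ((fun i => y⁻¹ (e i)) '' (Z : Set ι)) ≤
        Submodule.span F ((fun i => (1 : V ≃ₗ[F] V) (e i)) '' (S : Set ι)) := by
      rw [Submodule.span_le]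
      rintro _ ⟨d, hd, rfl⟩
      show y⁻¹ (e d) ∈ Submodule.span F _
      rw [← expand hon (y⁻¹ (e d))]
      refine Submodule.sum_mem _ fun i _ => ?_
      by_cases hi : i ∈ S
      · exact Submodule.smul_mem _ _ (Submodule.subset_span ⟨i, hi, rfl⟩)
      suffices B (e i) (y⁻¹ (e d)) = 0 by rw [this, zero_smul]; exact Submodule.zero_mem _
      rcases eq_or_ne d b0 with rfl | hne
      · exact notMem_supp.1 hi
      obtain ⟨T, hT, hT0⟩ := common_triple H hq NF hyM hy hym hne.symm (hZ0 b0 hb0) (hZ0 d hd)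
      have hST : S ⊆ T := fun l hl => by
        by_contra hlT; exact mem_supp.1 hl (hT0 l hlT).1
      exact (hT0 i (Finset.eq_of_subset_of_card_le hST (hT.trans hS3) ▸ hi)).2
    have h := Submodule.finrank_mono hle
    rw [card_span_image (e := e), card_span_image (e := e)] at h
    obtain ⟨d, hd, hdb⟩ := Finset.exists_mem_ne (show 1 < Z.card by omega) b0
    obtain ⟨T, hT, hT0⟩ := common_triple H hq NF hyM hy hym hdb.symm (hZ0 b0 hb0) (hZ0 d hd)
    have hST : S ⊆ T := fun l hl => by
      by_contra hlT; exact mem_supp.1 hl (hT0 l hlT).1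
    have := Finset.card_le_card hST
    omega
  obtain ⟨T, hT, hT0⟩ := common_triple H hq NF hgM hg hgm hbc hb hc
  refine short g⁻¹ (inv_mem hgM) hg.inv (fun h => hgm (by simpa using Mono.inv' hon h)) b
    ((Finset.card_le_card fun l hl => ?_).trans hT)
  by_contra hlT
  exact mem_supp.1 hl (hT0 l hlT).1

/-- no column has two zeros -/
theorem col_two8 (hn : 8 ≤ Fintype.card ι) (NF : NoFix B e M) {g : V ≃ₗ[F] V} (hgM : g ∈ M) (hg : Iso B g)
    (hgm : ¬ Mono B e g) (j b c : ι) (hbc : b ≠ c) (hb : B (e b) (g (e j)) = 0)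
    (hc : B (e c) (g (e j)) = 0) : False := by
  rcases (two_le_qq (σ := σ)).eq_or_lt' with hq | hq
  · exact col_two_two H hq hn NF hgM hg hgm j b c hbc hb hc
  · exact Six.col_two H hq (by omega) NF hgM hg hgm j b c hbc hb hc

/-- no entry vanishes -/
theorem zero_false (hn : Fintype.card ι = 8) (NF : NoFix B e M) {g : V ≃ₗ[F] V} (hgM : g ∈ M)
    (hg : Iso B g) (hgm : ¬ Mono B e g) {b j : ι} (hbj : B (e b) (g (e j)) = 0) : False := by
  classical
  have hon := H.onb
  have hB := H.herm
  have hσ := hB.toIsInvol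
  have hgm' : ¬ Mono B e g⁻¹ := fun h => hgm (by simpa using Mono.inv' hon h)
  have hL : ∀ i, i ≠ b → B (e i) (g (e j)) ≠ 0 := fun i hi h0 =>
    col_two8 H hn.ge NF hgM hg hgm j b i (Ne.symm hi) hbj h0
  have finish : ∀ S : Finset ι, S.card ≤ 4 → (∀ i, i ∉ S → B (e i) (g⁻¹ (e b)) = 0) → False := by
    intro S hS h
    obtain ⟨i, hi, i', hi', hii⟩ := Finset.one_lt_card.1 (show 1 < (Finset.univ \ S).card by
      rw [Finset.card_sdiff_of_subset (Finset.subset_univ _), Finset.card_univ, hn]; omega)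
    exact col_two8 H hn.ge NF (inv_mem hgM) hg.inv hgm' b i i' hii (h i (Finset.mem_sdiff.1 hi).2)
      (h i' (Finset.mem_sdiff.1 hi').2)
  by_cases hlam : ∃ l : F, l * σ l = 1 ∧ l ^ 8 ≠ 1
  · obtain ⟨l, hl, hl8⟩ := hlam
    have hl0 := nrm_ne_zero hl
    set μ := (l ^ 8)⁻¹
    have hμ : μ * σ μ = 1 := nrm_inv (nrm_pow hl 8)
    let θ : ι → F := fun i => l * if i = b then μ else 1
    have hθn : ∀ i, θ i * σ (θ i) = 1 := fun i => nrm_mul hl (by split_ifs <;> simp [hμ])
    obtain ⟨t, htM, hti, ht⟩ := H.diag_mem θ hθn (by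
      show ∏ i, l * (if i = b then μ else 1) = 1
      rw [Finset.prod_mul_distrib, Finset.prod_const, Finset.card_univ, hn, Finset.prod_ite_eq',
        if_pos (Finset.mem_univ b), mul_inv_cancel₀ (pow_ne_zero 8 hl0)])
    have htL : t (g (e j)) = l • g (e j) := ext_co hon fun i => by
      rw [co_diag hon ht, map_smul, smul_eq_mul]
      by_cases hi : i = b
      · rw [hi, hbj, mul_zero, mul_zero]
      · simp [θ, hi]
    set x := g⁻¹ * t * g⁻¹⁻¹
    have hxi : Iso B x := (hg.inv.mul hti).mul hg.inv.inv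
    have hxj : x (e j) = l • e j := by
      simp only [x, inv_inv, LinearEquiv.mul_apply, htL, map_smul, inv_apply]
    obtain ⟨π, φ, hφ⟩ := Mono.apply' hon
      (NF x (mul_mem (mul_mem (inv_mem hgM) htM) (inv_mem (inv_mem hgM))) hxi j j fun i hi => by
        rw [hxj, co_single hon, if_neg hi])
    let θ' : ι → F := fun i => if i = b then μ else 1
    obtain ⟨t', -, ht', -⟩ := exists_diag hon θ' fun i => by simp only [θ']; split_ifs <;> simp [hμ]
    set y := g⁻¹ * t' * g⁻¹⁻¹
    have hy : ∀ v, y v = l⁻¹ • x v := fun v => by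
      rw [conj_diag hon hg.inv ht', conj_diag hon hg.inv ht, Finset.smul_sum]
      exact Finset.sum_congr rfl fun i _ => by
        rw [smul_smul]; simp only [θ, θ']; congr 1; field_simp
    have hφ' : ∀ i, y (e i) = (l⁻¹ * φ i) • e (π i) := fun i => by rw [hy, hφ, smul_smul]
    have hN : (moved e y).card ≤ 2 * 1 := (card_moved_le hon hφ' (({b} : Finset ι).image fun i => g⁻¹ (e i))
      fun v => Six.conj_small' H hg.inv ht' {b} (fun i hi => by
        rw [Finset.mem_singleton] at hi; simp [θ', hi]) v).trans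
      (Nat.mul_le_mul_left 2 (Finset.card_image_le.trans (by simp)))
    refine finish (moved e y) (by omega) fun i hi => ?_
    have h := co_moved hon hφ' (g⁻¹ (e b)) hi
    rw [show y (g⁻¹ (e b)) = μ • g⁻¹ (e b) by
      simp only [y, LinearEquiv.mul_apply, inv_apply, ht', map_smul, θ', if_true], map_sub, map_smul, smul_eq_mul] at h
    by_contra h0
    exact hl8 (inv_eq_one.1 (mul_right_cancel₀ h0 (by linear_combination h) : μ = 1))
  push Not at hlam
  have h20 : (2 : F) ≠ 0 := by
    intro h2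
    have hsub : U σ ⊆ ({1} : Finset F) := fun l hl => by
      rw [Finset.mem_singleton]
      have sq : ∀ z : F, z * z = 1 → z = 1 := fun z hz =>
        sub_eq_zero.1 (mul_self_eq_zero.1 (show (z - 1) * (z - 1) = 0 by linear_combination hz + (1 - z) * h2))
      refine sq l (sq _ (sq _ ?_))
      linear_combination hlam l (mem_U.1 hl)
    have := (Finset.card_le_card hsub).trans_eq (Finset.card_singleton _)
    rw [card_U hσ] at this
    have := two_le_qq (σ := σ)
    omega
  have hq5 : qq σ + 1 ≤ 8 := by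
    rw [← card_U hσ]
    have hsub : U σ ⊆ (Polynomial.nthRoots 8 (1 : F)).toFinset := fun l hl => by
      rw [Multiset.mem_toFinset, Polynomial.mem_nthRoots (by omega)]
      exact hlam l (mem_U.1 hl)
    exact (Finset.card_le_card hsub).trans ((Multiset.toFinset_card_le _).trans (Polynomial.card_nthRoots 8 1))
  obtain ⟨a, ha, c, hc, hac, hnorm⟩ := Finset.exists_ne_map_eq_of_card_lt_of_maps_to
    (s := Finset.univ.erase b) (t := (Finset.univ.filter fun r : F => σ r = r).erase 0)
    (f := fun i => B (e i) (g (e j)) * σ (B (e i) (g (e j)))) (by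
      rw [Finset.card_erase_of_mem (by simp), Finset.card_erase_of_mem (Finset.mem_univ b), Finset.card_univ,
        Six.card_fixed]
      omega) (fun i hi => by
      simp only [Finset.coe_erase, Set.mem_diff, Finset.mem_coe, Finset.mem_univ, Set.mem_singleton_iff, true_and] at hi
      simp only [Finset.coe_erase, Set.mem_diff, Finset.mem_coe, Finset.mem_filter, Finset.mem_univ, Set.mem_singleton_iff, true_and]
      exact ⟨nrm_fix hσ _, mul_ne_zero (hL i hi) ((map_ne_zero σ).2 (hL i hi))⟩)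
  rw [Finset.mem_erase] at ha hc
  set La := B (e a) (g (e j))
  set Lc := B (e c) (g (e j))
  have hLa : La ≠ 0 := hL a ha.1
  have hLc : Lc ≠ 0 := hL c hc.1
  set ψ := Lc / La
  have hψ : ψ * σ ψ = 1 := by
    rw [map_div₀, div_mul_div_comm, div_eq_one_iff_eq (mul_ne_zero hLa ((map_ne_zero σ).2 hLa))]
    exact hnorm.symm
  have hψ0 := nrm_ne_zero hψ
  obtain ⟨h, δ, -, hhi, hhd, hh⟩ := exists_mon hon hB (Equiv.swap a c)
    (fun i => if i = a then ψ else if i = c then ψ⁻¹ else 1)
    (fun i => by split_ifs; exacts [hψ, nrm_inv hψ, by simp]) b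
  have hδ : δ = -1 := by
    have h1 := det_of_perm (Equiv.swap a c) hh
    rw [hhd, Equiv.Perm.sign_swap hac] at h1
    have h2 : ∀ i, (if i = b then δ * (if i = a then ψ else if i = c then ψ⁻¹ else 1)
        else if i = a then ψ else if i = c then ψ⁻¹ else 1) =
        (if i = b then δ else 1) * ((if i = a then ψ else 1) * if i = c then ψ⁻¹ else 1) := fun i => by
      by_cases g1 : i = b
      · subst g1; simp [Ne.symm ha.1, Ne.symm hc.1]
      by_cases g2 : i = a
      · subst g2; simp [g1, hac]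
      simp [g1, g2]
    rw [Finset.prod_congr rfl fun i _ => h2 i, Finset.prod_mul_distrib, Finset.prod_mul_distrib] at h1
    simp only [Finset.prod_ite_eq', Finset.mem_univ, if_true, mul_inv_cancel₀ hψ0, mul_one] at h1
    push_cast at h1
    linear_combination h1
  have hha : h (e a) = ψ • e c := by simp [hh, ha.1]
  have hhc : h (e c) = ψ⁻¹ • e a := by simp [hh, hc.1, hac.symm]
  have hhb : h (e b) = δ • e b := by simp [hh, ha.1.symm, hc.1.symm, Equiv.swap_apply_of_ne_of_ne]
  have hho : ∀ i, i ≠ a → i ≠ c → i ≠ b → h (e i) = e i := fun i h1 h2 h3 => by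
    simp [hh, h1, h2, h3, Equiv.swap_apply_of_ne_of_ne]
  have hhM : h ∈ M := H.mono_mem h hhi hhd (mono_of_apply hon hh)
  have hhL : h (g (e j)) = g (e j) := by
    conv_rhs => rw [← expand hon (g (e j))]
    conv_lhs => rw [← expand hon (g (e j)), map_sum]
    rw [← Equiv.sum_comp (Equiv.swap a c) (fun i => B (e i) (g (e j)) • e i)]
    refine Finset.sum_congr rfl fun i _ => ?_
    rw [map_smul]
    by_cases h1 : i = a
    · subst h1; rw [hha, Equiv.swap_apply_left, smul_smul, mul_div_cancel₀ _ hLa]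
    by_cases h2 : i = c
    · subst h2; rw [hhc, Equiv.swap_apply_right, smul_smul]
      congr 1
      show Lc * (Lc / La)⁻¹ = La
      field_simp
    rw [Equiv.swap_apply_of_ne_of_ne h1 h2]
    by_cases h3 : i = b
    · subst h3; rw [hbj]; simp
    · rw [hho i h1 h2 h3]
  set v := ψ • e c - e a with hvdef
  set x := g⁻¹ * h * g with hxdef
  have hxi : Iso B x := (hg.inv.mul hhi).mul hg
  have hxj : x (e j) = e j := by simp only [x, LinearEquiv.mul_apply, hhL, inv_apply]
  obtain ⟨π, φ, hφ⟩ := Mono.apply' hon (NF x (mul_mem (mul_mem (inv_mem hgM) hhM) hgM) hxi j j fun i hi => by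
    rw [hxj, hon, if_neg hi])
  have hN : (moved e x).card ≤ 2 * 2 := by
    refine (card_moved_le hon hφ ({g⁻¹ v, g⁻¹ (e b)} : Finset V) fun y => ?_).trans
      (Nat.mul_le_mul_left 2 Finset.card_le_two)
    have hle : (⊤ : Submodule F V) ≤ Submodule.comap (h.toLinearMap - LinearMap.id)
        (Submodule.span F ({v, e b} : Set V)) := by
      rw [← e.span_eq, Submodule.span_le]
      rintro _ ⟨i, rfl⟩
      show h (e i) - e i ∈ Submodule.span F ({v, e b} : Set V)
      rw [Submodule.mem_span_pair]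
      by_cases h1 : i = a
      · exact ⟨1, 0, by rw [h1, hha, hvdef]; simp⟩
      by_cases h2 : i = c
      · refine ⟨-ψ⁻¹, 0, ?_⟩
        rw [h2, hhc, hvdef, smul_sub, smul_smul, neg_mul, inv_mul_cancel₀ (nrm_ne_zero hψ)]
        simp only [zero_smul, add_zero, neg_smul, one_smul]; abel
      by_cases h3 : i = b
      · exact ⟨0, δ - 1, by rw [h3, hhb]; simp [sub_smul]⟩
      · exact ⟨0, 0, by rw [hho i h1 h2 h3]; simp⟩
    have hmem := hle (Submodule.mem_top (x := g y))
    rw [Submodule.mem_comap] at hmem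
    obtain ⟨p, r, hpr⟩ := Submodule.mem_span_pair.1 hmem
    have e1 : x y - y = g⁻¹ (h (g y) - g y) := by
      rw [map_sub, inv_apply]; rfl
    rw [Finset.coe_insert, Finset.coe_singleton, Submodule.mem_span_pair]
    exact ⟨p, r, by rw [e1, show h (g y) - g y = p • v + r • e b from hpr.symm, map_add, map_smul, map_smul]⟩
  refine finish (moved e x) (by omega) fun i hi => ?_
  have h1 := co_moved hon hφ (g⁻¹ (e b)) hi
  rw [show x (g⁻¹ (e b)) = δ • g⁻¹ (e b) by
    simp only [hxdef, LinearEquiv.mul_apply, apply_inv, hhb, map_smul], map_sub, map_smul, smul_eq_mul, hδ] at h1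
  exact (mul_eq_zero.1 (show (2 : F) * B (e i) (g⁻¹ (e b)) = 0 by linear_combination -h1)).resolve_left h20

/-- some conjugate of a signed pairing is not monomial and has a vanishing entry -/
theorem exists_zero_big (hq : 3 ≤ qq σ) (hn : Fintype.card ι = 8) {g : V ≃ₗ[F] V} (hgM : g ∈ M) (hg : Iso B g)
    (hz : ∀ b j, B (e b) (g (e j)) ≠ 0) :
    ∃ g' ∈ M, Iso B g' ∧ ¬ Mono B e g' ∧ ∃ b j, B (e b) (g' (e j)) = 0 := by
  classical
  have hon := H.onb
  have hB := H.herm
  have hσ := hB.toIsInvol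
  obtain ⟨μ, hμ, hμ2, hμ3⟩ := Six.exists_order_four hσ hq
  have hμ0 := nrm_ne_zero hμ
  have hσμ : σ μ = μ⁻¹ := eq_sigma_inv hμ
  obtain ⟨a⟩ : Nonempty ι := Fintype.card_pos_iff.1 (by omega)
  let u : ι → F := fun i => B (e a) (g (e i))
  have hu : ∀ i, u i ≠ 0 := fun i => hz a i
  -- two disjoint pairs of indices whose norms differ by a square
  letI : Fintype (Herm.fixField σ) := Fintype.ofFinite _
  let N : ι → Herm.fixField σ := fun i => ⟨u i * σ (u i), Herm.mem_fixField.2 (nrm_fix hσ _)⟩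
  have hN : ∀ i, N i ≠ 0 := fun i h => mul_ne_zero (hu i) ((map_ne_zero σ).2 (hu i)) (congrArg Subtype.val h)
  let col : ι → Bool := fun i => decide (quadraticChar (Herm.fixField σ) (N i) = 1)
  have hsq : ∀ i j, col i = col j → ∃ s : F, σ s = s ∧ s * s = u i * σ (u i) * (u j * σ (u j)) := by
    intro i j heq
    have h1 : quadraticChar (Herm.fixField σ) (N i * N j) = 1 := by
      rw [map_mul]
      simp only [col, decide_eq_decide] at heq
      rcases quadraticChar_dichotomy (hN i) with h | h <;> rcases quadraticChar_dichotomy (hN j) with h' | h' <;>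
        simp_all
    obtain ⟨r, hr⟩ := (quadraticChar_one_iff_isSquare (mul_ne_zero (hN i) (hN j))).1 h1
    exact ⟨r.1, Herm.mem_fixField.1 r.2, (congrArg Subtype.val hr).symm⟩
  obtain ⟨f0, -, f1, -, hff, heq⟩ := Finset.exists_ne_map_eq_of_card_lt_of_maps_to
    (s := (Finset.univ : Finset ι)) (t := (Finset.univ : Finset Bool)) (f := col) (by simp [hn])
    (fun _ _ => by simp)
  obtain ⟨f2, hf2, f3, hf3, hgg, heq'⟩ := Finset.exists_ne_map_eq_of_card_lt_of_maps_to
    (s := Finset.univ \ ({f0, f1} : Finset ι)) (t := (Finset.univ : Finset Bool)) (f := col) (by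
      rw [Finset.card_sdiff_of_subset (Finset.subset_univ _), Finset.card_pair hff, Finset.card_univ, Finset.card_univ, hn]
      simp)
    (fun _ _ => by simp)
  simp only [Finset.mem_sdiff, Finset.mem_univ, Finset.mem_insert, Finset.mem_singleton, not_or, true_and] at hf2 hf3
  obtain ⟨s, hs, hs2⟩ := hsq f0 f1 heq
  obtain ⟨s', hs', hs2'⟩ := hsq f2 f3 heq'
  let f : Fin 4 × Bool → ι := fun p =>
    if p.1 = 2 then (if p.2 then f1 else f0) else (if p.2 then f3 else f2)
  obtain ⟨E', hE'⟩ := Finset.exists_equiv_extend_of_card_eq (t := (Finset.univ : Finset ι))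
    (show Fintype.card (Fin 4 × Bool) = (Finset.univ : Finset ι).card by simp [hn])
    (s := ({(2, false), (2, true), (3, false), (3, true)} : Finset (Fin 4 × Bool))) (f := f) (Finset.subset_univ _)
    (by
      intro p hp p' hp' h
      simp only [Finset.coe_insert, Finset.coe_singleton, Set.mem_insert_iff, Set.mem_singleton_iff] at hp hp'
      rcases hp with rfl | rfl | rfl | rfl <;> rcases hp' with rfl | rfl | rfl | rfl <;>
        simp [f, hff, hff.symm, hgg, hgg.symm, hf2.1, hf2.2, hf3.1, hf3.2, Ne.symm hf2.1, Ne.symm hf2.2,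
          Ne.symm hf3.1, Ne.symm hf3.2] at h ⊢)
  let E : Fin 4 × Bool ≃ ι := E'.trans (Equiv.subtypeUnivEquiv fun _ => Finset.mem_univ _)
  have hE : ∀ p ∈ ({(2, false), (2, true), (3, false), (3, true)} : Finset (Fin 4 × Bool)), E p = f p := hE'
  have hE0 : E (2, false) = f0 := by rw [hE _ (by simp)]; rfl
  have hE1 : E (2, true) = f1 := by rw [hE _ (by simp)]; rfl
  have hE2 : E (3, false) = f2 := by rw [hE _ (by simp)]; rfl
  have hE3 : E (3, true) = f3 := by rw [hE _ (by simp)]; rfl
  let c : Fin 4 → F := fun k => σ (u (E (k, false))) * u (E (k, true))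
  have hc : ∀ k, c k ≠ 0 := fun k => mul_ne_zero ((map_ne_zero σ).2 (hu _)) (hu _)
  have hc2 : c 2 * σ (c 2) = s * s := by
    rw [hs2]; simp only [c, hE0, hE1, map_mul, hσ.invol]; ring
  have hc3 : c 3 * σ (c 3) = s' * s' := by
    rw [hs2']; simp only [c, hE2, hE3, map_mul, hσ.invol]; ring
  have hs0' : s' ≠ 0 := fun h => mul_ne_zero (hc 3) ((map_ne_zero σ).2 (hc 3)) (by rw [hc3, h, zero_mul])
  have hs0 : s ≠ 0 := fun h => mul_ne_zero (hc 2) ((map_ne_zero σ).2 (hc 2)) (by rw [hc2, h, zero_mul])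
  -- two circles on one line
  let Rs : F → Finset F := fun d => (U σ).image fun x => x * d - μ * σ (x * d)
  set Ln := Finset.univ.filter fun y : F => μ * σ y = -y
  have hRL : ∀ d, Rs d ⊆ Ln := fun d y hy => by
    obtain ⟨x, -, rfl⟩ := Finset.mem_image.1 hy
    refine Finset.mem_filter.2 ⟨Finset.mem_univ _, ?_⟩
    rw [map_sub, map_mul σ μ, hσ.invol, hσμ, mul_sub, ← mul_assoc, mul_inv_cancel₀ hμ0]
    ring
  have hLn : Ln.card ≤ qq σ := by
    rw [← Six.card_fixed (σ := σ)]
    by_cases h : ∀ y ∈ Ln, y = 0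
    · exact (Finset.card_le_one.2 fun x hx y hy => (h x hx).trans (h y hy).symm).trans (Finset.card_pos.2 ⟨0, by simp⟩)
    push Not at h
    obtain ⟨y0, hy0, hy00⟩ := h
    refine Finset.card_le_card_of_injOn (fun y => y / y0) (fun y hy => ?_) fun y _ y' _ e => ?_
    · simp only [Ln, Finset.mem_filter, Finset.mem_coe] at hy hy0
      refine Finset.mem_filter.2 ⟨Finset.mem_univ _, ?_⟩
      rw [map_div₀, ← mul_div_mul_left (σ y) (σ y0) hμ0, hy.2, hy0.2, neg_div_neg_eq]
    · exact (div_left_inj' hy00).1 e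
  have hR : ∀ d, d ≠ 0 → qq σ + 1 ≤ 2 * (Rs d).card := by
    intro d hd
    rw [← card_U hσ]
    refine Finset.card_le_mul_card_image_of_maps_to (fun x hx => Finset.mem_image_of_mem _ hx) 2 fun T _ => ?_
    refine quad_le_two (a := d) (b := -T) (c := -(μ * σ d)) hd fun x hx => ?_
    rw [Finset.mem_filter, mem_U, map_mul] at hx
    linear_combination x * hx.2 + μ * σ d * hx.1
  obtain ⟨ψ0, hψ0, ψ1, hψ1, hsum⟩ : ∃ x, x * σ x = 1 ∧ ∃ y, y * σ y = 1 ∧
      x * c 0 - μ * σ (x * c 0) + (y * c 1 - μ * σ (y * c 1)) = 0 := by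
    have h1 := hR (c 0) (hc 0)
    have h2 := hR (c 1) (hc 1)
    have h3 : ((Rs (c 1)).image fun y => -y).card = (Rs (c 1)).card := Finset.card_image_of_injective _ neg_injective
    have h4 : Rs (c 0) ∪ ((Rs (c 1)).image fun y => -y) ⊆ Ln := by
      refine Finset.union_subset (hRL _) fun y hy => ?_
      obtain ⟨z, hz, rfl⟩ := Finset.mem_image.1 hy
      have := hRL _ hz
      simp only [Ln, Finset.mem_filter, Finset.mem_univ, true_and] at this ⊢
      rw [map_neg, mul_neg, this]
    have h5 := Finset.card_inter_add_card_union (Rs (c 0)) ((Rs (c 1)).image fun y => -y)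
    have h6 := (Finset.card_le_card h4).trans hLn
    obtain ⟨T, hT⟩ := Finset.card_pos.1 (show 0 < (Rs (c 0) ∩ (Rs (c 1)).image fun y => -y).card by omega)
    simp only [Rs, Finset.mem_inter, Finset.mem_image, mem_U] at hT
    obtain ⟨⟨x, hx, hxT⟩, z, ⟨y, hy, hyz⟩, hzT⟩ := hT
    exact ⟨x, hx, y, hy, by linear_combination hxT + hyz - hzT⟩
  let ψ : Fin 4 → F := ![ψ0, ψ1, μ⁻¹ * (s / c 2), s' / c 3]
  let m : Fin 4 → F := ![μ, μ, (μ * μ)⁻¹, 1]
  have hψn : ∀ k, ψ k * σ (ψ k) = 1 := fun k => by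
    fin_cases k
    · exact hψ0
    · exact hψ1
    · refine nrm_mul (nrm_inv hμ) ?_
      rw [map_div₀, hs, div_mul_div_comm, hc2, div_self (mul_ne_zero hs0 hs0)]
    · show s' / c 3 * σ (s' / c 3) = 1
      rw [map_div₀, hs', div_mul_div_comm, hc3, div_self (mul_ne_zero hs0' hs0')]
  have hmn : ∀ k, m k * σ (m k) = 1 := fun k => by
    fin_cases k
    exacts [hμ, hμ, nrm_inv (nrm_mul hμ hμ), by simp [m]]
  let wt : ι → F := fun i => if (E.symm i).2 then -(m (E.symm i).1 * σ (ψ (E.symm i).1)) else ψ (E.symm i).1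
  let π : Equiv.Perm ι := E.permCongr (Equiv.prodCongrRight fun _ => Equiv.swap false true)
  have hπ : ∀ k x, π (E (k, x)) = E (k, !x) := fun k x => by cases x <;> simp [π, Equiv.permCongr_apply]
  have hsgn : Equiv.Perm.sign π = (-1) ^ 4 := by simp [π, Equiv.Perm.sign_prodCongrRight]
  have hcases : ∀ i, ∃ k x, i = E (k, x) := fun i => ⟨(E.symm i).1, (E.symm i).2, by simp⟩
  have hwf : ∀ k, wt (E (k, false)) = ψ k := fun k => by simp [wt]
  have hwt : ∀ k, wt (E (k, true)) = -(m k * σ (ψ k)) := fun k => by simp [wt]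
  have hwn : ∀ i, wt i * σ (wt i) = 1 := fun i => by
    obtain ⟨k, x, rfl⟩ := hcases i
    cases x
    · rw [hwf]; exact hψn k
    · rw [hwt, map_neg, neg_mul_neg]; exact nrm_mul (hmn k) (nrm_conj hσ (hψn k))
  let bb := e.reindex π.symm
  let h := e.equiv (bb.unitsSMul fun i => Units.mk0 (wt i) (nrm_ne_zero (hwn i))) (Equiv.refl ι)
  have h0 : ∀ i, h (e i) = wt i • e (π i) := fun i => by
    simp [h, bb, Basis.unitsSMul_apply, Units.smul_def]
  have hhi : Iso B h := iso_of_basis hon fun i j => by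
    simp only [h0, map_smulₛₗ, LinearMap.smul_apply, smul_eq_mul, RingHom.id_apply, hon _ _, π.injective.eq_iff]
    split_ifs with hij
    · subst hij; linear_combination hwn i
    · simp
  have hhd : LinearMap.det h.toLinearMap = 1 := by
    rw [det_of_perm π h0, hsgn, ← Equiv.prod_comp E, Fintype.prod_prod_type]
    have : ∀ k, ∏ x : Bool, wt (E (k, x)) = -m k := fun k => by
      simp [hwf, hwt]; linear_combination (m k) * hψn k
    rw [Finset.prod_congr rfl fun k _ => this k, Fin.prod_univ_four]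
    simp [m]
    field_simp
  set x := g * h * g⁻¹
  have hxi : Iso B x := (hg.mul hhi).mul hg.inv
  have hxg : ∀ i, x (g (e i)) = wt i • g (e (π i)) := fun i => by
    simp only [x, LinearEquiv.mul_apply, inv_apply, h0, map_smul]
  refine ⟨x, mul_mem (mul_mem hgM (H.mono_mem h hhi hhd (mono_of_apply hon h0))) (inv_mem hgM), hxi, fun hm => ?_,
    a, a, ?_⟩
  · -- the square is diagonal with unequal multiplicities
    let θ : ι → F := fun i => -m (E.symm i).1
    obtain ⟨t, ht, -⟩ := exists_diag_equiv (e := e) θ fun i => neg_ne_zero.2 (nrm_ne_zero (hmn _))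
    have hxx : x * x = g * t * g⁻¹ := LinearEquiv.toLinearMap_injective ((e.map g).ext fun i => by
      obtain ⟨k, v, rfl⟩ := hcases i
      simp only [Basis.map_apply, LinearEquiv.coe_coe, LinearEquiv.mul_apply, hxg, map_smul, inv_apply, ht, hπ,
        smul_smul, Bool.not_not]
      congr 1
      cases v <;> simp [hwf, hwt, θ] <;> linear_combination (m k) * hψn k)
    have hme := mult_eq hon ht (hxx ▸ Mono.mul' hon hm hm) hz
    have hθ : ∀ k v, θ (E (k, v)) = -m k := fun k v => by simp [θ]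
    have h4 : ({E (0, false), E (0, true), E (1, false), E (1, true)} : Finset ι) ⊆
        Finset.univ.filter fun l => θ l = θ (E (0, false)) := by
      intro l hl
      simp only [Finset.mem_insert, Finset.mem_singleton] at hl
      rcases hl with rfl | rfl | rfl | rfl <;> simp [hθ, m]
    have h2 : (Finset.univ.filter fun l => θ l = θ (E (2, false))) ⊆ {E (2, false), E (2, true)} := by
      intro l hl
      obtain ⟨k, v, rfl⟩ := hcases l
      have hne1 : (1 : F) ≠ (μ * μ)⁻¹ := fun h => hμ2 (inv_eq_one.1 h.symm)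
      have hne : μ ≠ (μ * μ)⁻¹ := fun h => hμ3 (by
        have := mul_inv_cancel₀ (mul_ne_zero hμ0 hμ0)
        rw [← h] at this; linear_combination this)
      simp only [Finset.mem_filter, hθ, neg_inj] at hl
      fin_cases k
      · exact absurd hl.2 (by simpa [m] using hne)
      · exact absurd hl.2 (by simpa [m] using hne)
      · cases v <;> simp
      · exact absurd hl.2 (by simpa [m] using hne1)
    have c4 := Finset.card_le_card h4
    have c2 := (Finset.card_le_card h2).trans Finset.card_le_two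
    rw [Finset.card_insert_of_notMem (by simp), Finset.card_insert_of_notMem (by simp), Finset.card_pair (by simp),
      hme (E (0, false)) (E (2, false))] at c4
    omega
  · rw [LinearEquiv.mul_apply, LinearEquiv.mul_apply]
    conv_lhs => rw [← expand hon (g⁻¹ (e a))]
    simp only [map_sum, map_smul, h0, smul_eq_mul]
    have h1 : ∀ i, B (e i) (g⁻¹ (e a)) = σ (u i) := fun i => by
      rw [hg.inv.adj, inv_inv, ← hB.symm]
    rw [← Equiv.sum_comp E, Fintype.sum_prod_type]
    simp only [Fintype.sum_bool, h1, hπ, Bool.not_true, Bool.not_false, hwf, hwt]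
    have : ∀ k, σ (u (E (k, true))) * (-(m k * σ (ψ k)) * u (E (k, false))) +
        σ (u (E (k, false))) * (ψ k * u (E (k, true))) = ψ k * c k - m k * σ (ψ k * c k) := fun k => by
      simp [c, map_mul, hσ.invol]; ring
    rw [Finset.sum_congr rfl fun k _ => this k, Fin.sum_univ_four]
    have e2 : ψ 2 * c 2 - m 2 * σ (ψ 2 * c 2) = 0 := by
      have : ψ 2 * c 2 = μ⁻¹ * s := by
        show μ⁻¹ * (s / c 2) * c 2 = μ⁻¹ * s
        rw [mul_assoc, div_mul_cancel₀ _ (hc 2)]
      rw [this, map_mul, map_inv₀, hσμ, hs]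
      show μ⁻¹ * s - (μ * μ)⁻¹ * (μ⁻¹⁻¹ * s) = 0
      field_simp
      ring
    have e3 : ψ 3 * c 3 - m 3 * σ (ψ 3 * c 3) = 0 := by
      have : ψ 3 * c 3 = s' := by
        show s' / c 3 * c 3 = s'
        rw [div_mul_cancel₀ _ (hc 3)]
      rw [this, hs']
      show s' - 1 * s' = 0
      ring
    rw [e2, e3, add_zero, add_zero]
    exact hsum

/-- some element has a zero entry -/
theorem exists_zero (hn : Fintype.card ι = 8) {g : V ≃ₗ[F] V} (hgM : g ∈ M) (hg : Iso B g) (hgm : ¬ Mono B e g) :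
    ∃ g' ∈ M, Iso B g' ∧ ¬ Mono B e g' ∧ ∃ b j, B (e b) (g' (e j)) = 0 := by
  classical
  by_cases hz : ∃ b j, B (e b) (g (e j)) = 0
  · exact ⟨g, hgM, hg, hgm, hz⟩
  push Not at hz
  rcases (two_le_qq (σ := σ)).eq_or_lt' with hq | hq
  swap
  · exact exists_zero_big H hq hn hgM hg hz
  exfalso
  obtain ⟨h20, hnrm⟩ := two_elts H.onb H.herm hq
  obtain ⟨a⟩ : Nonempty ι := Fintype.card_pos_iff.1 (by omega)
  have hu : B (g (e a)) (g (e a)) = 1 := by rw [hg, H.onb, if_pos rfl]
  rw [form H.onb (g (e a)) (g (e a)), Finset.sum_congr rfl fun l _ =>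
    (mul_comm _ _).trans (hnrm _ (hz l a))] at hu
  rw [Finset.sum_const, Finset.card_univ, hn, nsmul_one] at hu
  push_cast at hu
  exact one_ne_zero (show (1 : F) = 0 by linear_combination 4 * h20 - hu)

/-- the monomial case in dimension eight -/
theorem mono_centres (hn : Fintype.card ι = 8) {g : V ≃ₗ[F] V} (hgM : g ∈ M) (hg : Iso B g)
    (hgm : ¬ Mono B e g) : ∀ v, B v v = 0 → v ∈ centres B M := by
  classical
  obtain ⟨x, hxM, hxi, hxm, a, cc, hxa⟩ :
      ∃ x ∈ M, Iso B x ∧ ¬ Mono B e x ∧ ∃ (a : ι) (c : F), x (e a) = c • e a := by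
    by_contra hno
    push Not at hno
    have NF : NoFix B e M := fun x hxM hx a d hd => by
      by_contra hxm
      have hxa := eq_single H.onb hd
      obtain ⟨m, δ, -, hmi, hmd, hm⟩ := exists_mon H.onb H.herm (Equiv.swap a d) (fun _ => 1) (fun _ => by simp) a
      have hmm : Mono B e m := mono_of_apply H.onb hm
      refine hno (m * x) (mul_mem (H.mono_mem m hmi hmd hmm) hxM) (hmi.mul hx)
        (fun h => hxm (by simpa using Mono.mul' H.onb (Mono.inv' H.onb hmm) h)) a
        (B (e d) (x (e a)) * if d = a then δ * 1 else 1) ?_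
      rw [LinearEquiv.mul_apply]
      conv_lhs => rw [hxa, map_smul, hm, Equiv.swap_apply_right, smul_smul]
    obtain ⟨g', h1, h2, h3, b, j, hbj⟩ := exists_zero H hn hgM hg hgm
    exact zero_false H hn NF h1 h2 h3 hbj
  exact mono_centres_of_fix H (by omega) hxM hxi hxm hxa

end Eight

end Cfsg.Agent.UnitDec
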