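import Cfsg.Agent.UnitDec.MonoEight

/-!
Monomial case in dimension nine over every field.
-/

set_option autoImplicit false

namespace Cfsg.Agent.UnitDec

open Cfsg.Agent.Classical Cfsg.Agent.ClassicalMax.Unitary Module

namespace Nine

section Circles

variable {F : Type*} [Field F] [Fintype F] [DecidableEq F] {σ : F →+* F}

/-- four circles have two zero sums that are not proportional -/
theorem two_zero_sums (hσ : Herm.IsInvol σ) {ι : Type*} [DecidableEq ι] {S : Finset ι} (hS : S.card = 4) (c : ι → F)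
    (hc : ∀ i ∈ S, c i ≠ 0) :
    ∃ θ θ' : ι → F, (∀ i, θ i * σ (θ i) = 1) ∧ (∀ i, θ' i * σ (θ' i) = 1) ∧ (∑ i ∈ S, θ i * c i = 0) ∧
      (∑ i ∈ S, θ' i * c i = 0) ∧ ∀ l : F, ∃ i ∈ S, θ' i ≠ l * θ i := by
  obtain ⟨i1, i2, i3, i4, h12, h13, h14, h23, h24, h34, rfl⟩ := Finset.card_eq_four.1 hS
  have h1 := hc i1 (by simp)
  have h2 := hc i2 (by simp)
  have h3 := hc i3 (by simp)
  have h4 := hc i4 (by simp)
  set A := pairVals σ (c i1) (c i2) with hA
  set A' := (pairVals σ (c i3) (c i4)).image fun y => -y with hA'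
  have hA'c : A'.card = (pairVals σ (c i3) (c i4)).card := Finset.card_image_of_injective _ neg_injective
  have hI := Finset.card_inter_add_card_union A A'
  have hu := (Finset.card_le_univ (A ∪ A')).trans_eq (card_F hσ)
  rw [sq] at hu
  have e1 : qq σ * qq σ + qq σ + 2 ≤ 2 * A.card := card_pairVals hσ h1 h2
  have e2 := card_pairVals hσ h3 h4
  have hmem : ∀ Y ∈ A ∩ A', ∃ a b x y : F, a * σ a = 1 ∧ b * σ b = 1 ∧ x * σ x = 1 ∧ y * σ y = 1 ∧
      c i1 * a + c i2 * b = Y ∧ Y + (c i3 * x + c i4 * y) = 0 := by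
    intro Y hY
    rw [Finset.mem_inter, hA', Finset.mem_image] at hY
    obtain ⟨hYA, W, hW, rfl⟩ := hY
    obtain ⟨⟨a, b⟩, hab, e⟩ := Finset.mem_image.1 hYA
    obtain ⟨⟨x, y⟩, hxy, e'⟩ := Finset.mem_image.1 hW
    rw [Finset.mem_product, mem_U, mem_U] at hab hxy
    exact ⟨a, b, x, y, hab.1, hab.2, hxy.1, hxy.2, e, by rw [e', neg_add_cancel]⟩
  have two := two_le_qq (σ := σ)
  obtain ⟨Y, hY⟩ := Finset.card_pos.1 (show 0 < (A ∩ A').card by omega)
  obtain ⟨Y', hY', hne⟩ := Finset.exists_mem_notMem_of_card_lt_card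
    (show ((U σ).image fun l => l * Y).card < (A ∩ A').card by
      have := (Finset.card_image_le (s := U σ) (f := fun l => l * Y)).trans_eq (card_U hσ)
      omega)
  obtain ⟨a, b, x, y, ha, hb, hx, hy, eY, e0⟩ := hmem Y hY
  obtain ⟨a', b', x', y', ha', hb', hx', hy', eY', e0'⟩ := hmem Y' hY'
  let f : F → F → F → F → ι → F := fun a b x y i =>
    if i = i1 then a else if i = i2 then b else if i = i3 then x else if i = i4 then y else 1
  refine ⟨f a b x y, f a' b' x' y', fun i => ?_, fun i => ?_, ?_, ?_, fun l => ?_⟩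
  · simp only [f]; split_ifs <;> simp [*]
  · simp only [f]; split_ifs <;> simp [*]
  · rw [Finset.sum_insert (by simp [h12, h13, h14]), Finset.sum_insert (by simp [h23, h24]),
      Finset.sum_insert (by simp [h34]), Finset.sum_singleton]
    simp only [f, h12.symm, h13.symm, h14.symm, h23.symm, h24.symm, h34.symm, if_false, if_true]
    linear_combination e0 + eY
  · rw [Finset.sum_insert (by simp [h12, h13, h14]), Finset.sum_insert (by simp [h23, h24]),
      Finset.sum_insert (by simp [h34]), Finset.sum_singleton]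
    simp only [f, h12.symm, h13.symm, h14.symm, h23.symm, h24.symm, h34.symm, if_false, if_true]
    linear_combination e0' + eY'
  · by_contra! h
    have k1 := h i1 (by simp)
    have k2 := h i2 (by simp)
    simp only [f, h12.symm, if_false, if_true] at k1 k2
    refine hne (Finset.mem_image.2 ⟨l, mem_U.2 ?_, ?_⟩)
    · rw [k1, map_mul] at ha'
      linear_combination ha' - (l * σ l) * ha
    · rw [← eY', ← eY, k1, k2]; ring

end Circles

variable {F V ι : Type*} [Field F] [Fintype F] [DecidableEq F] [AddCommGroup V] [Module F V] [FiniteDimensional F V]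
  {σ : F →+* F} [Fintype ι] [DecidableEq ι] {B : V →ₛₗ[σ] V →ₗ[F] F} {e : Basis ι F V} {M : Subgroup (V ≃ₗ[F] V)}

variable (H : MonBase B e M)
include H

/-- some element has a zero entry -/
theorem exists_zero (hn : Fintype.card ι = 9) {g : V ≃ₗ[F] V} (hgM : g ∈ M) (hg : Iso B g) (hgm : ¬ Mono B e g) :
    ∃ g' ∈ M, Iso B g' ∧ ¬ Mono B e g' ∧ ∃ b j, B (e b) (g' (e j)) = 0 := by
  classical
  by_cases hz : ∃ b j, B (e b) (g (e j)) = 0
  · exact ⟨g, hgM, hg, hgm, hz⟩
  push Not at hz
  have hon := H.onb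
  have hσ := H.herm.toIsInvol
  obtain ⟨a, d, had⟩ := Fintype.exists_pair_of_one_lt_card (show 1 < Fintype.card ι by omega)
  let c : ι → F := fun i => B (g (e i)) (e d) * B (e a) (g (e i))
  have hc : ∀ i, c i ≠ 0 := fun i => mul_ne_zero (fun h => hz d i ((Herm.eq_zero_comm H.herm).1 h)) (hz a i)
  obtain ⟨S, -, hS⟩ := Finset.exists_subset_card_eq (show 4 ≤ (Finset.univ : Finset ι).card by
    rw [Finset.card_univ]; omega)
  obtain ⟨θ, θ', hθ, hθ', hs, hs', hprop⟩ := two_zero_sums hσ hS c fun i _ => hc i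
  set R := Finset.univ \ S with hR
  have hR5 : R.card = 5 := by rw [hR, Finset.card_sdiff_of_subset (Finset.subset_univ _), Finset.card_univ, hS, hn]
  obtain ⟨R4, hR4, hR4c⟩ := Finset.exists_subset_card_eq (show 4 ≤ R.card by omega)
  obtain ⟨φ, hφ, hφo, hφs, -⟩ := exists_weights (σ := σ) hσ hR4c c (fun i _ => hc i) (-∑ i ∈ R \ R4, c i)
  have hRsum : ∑ i ∈ R, φ i * c i = 0 := by
    rw [← Finset.sum_sdiff hR4, hφs, Finset.sum_congr rfl fun i hi => by
      rw [hφo i (Finset.mem_sdiff.1 hi).2, one_mul], add_neg_cancel]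
  have key : ∀ ψ : ι → F, (∀ i, ψ i * σ (ψ i) = 1) → ∑ i ∈ S, ψ i * c i = 0 →
      ∃ (x : V ≃ₗ[F] V) (α β : F), α ≠ 0 ∧ β ≠ 0 ∧ x ∈ M ∧ Iso B x ∧
        (∀ i, x (g (e i)) = (if i ∈ S then α * ψ i else β * φ i) • g (e i)) ∧ B (e a) (x (e d)) = 0 := by
    intro ψ hψ hsum
    have hP1 : (∏ i ∈ S, ψ i) * σ (∏ i ∈ S, ψ i) = 1 := nrm_prod _ fun i _ => hψ i
    have hP2 : (∏ i ∈ R, φ i) * σ (∏ i ∈ R, φ i) = 1 := nrm_prod _ fun i _ => hφ i
    set P := (∏ i ∈ S, ψ i) * ∏ i ∈ R, φ i with hP
    have hPn : P * σ P = 1 := nrm_mul hP1 hP2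
    let τ : ι → F := fun i => if i ∈ S then P * ψ i else P⁻¹ * φ i
    have hτn : ∀ i, τ i * σ (τ i) = 1 := fun i => by
      simp only [τ]; split_ifs
      exacts [nrm_mul hPn (hψ i), nrm_mul (nrm_inv hPn) (hφ i)]
    have hsplit : ∀ f : ι → F, ∏ i, f i = (∏ i ∈ R, f i) * ∏ i ∈ S, f i := fun f => by
      rw [hR, Finset.prod_sdiff (Finset.subset_univ S)]
    have hτp : ∏ i, τ i = 1 := by
      have hP0 := nrm_ne_zero hPn
      rw [hsplit, Finset.prod_congr rfl (s₁ := R) fun i hi => show τ i = P⁻¹ * φ i by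
          simp [τ, (Finset.mem_sdiff.1 hi).2],
        Finset.prod_congr rfl (s₁ := S) fun i hi => show τ i = P * ψ i by simp [τ, hi],
        Finset.prod_mul_distrib, Finset.prod_mul_distrib, Finset.prod_const, Finset.prod_const, hS, hR5]
      field_simp
      rw [hP]; ring
    obtain ⟨t, htM, hti, ht⟩ := H.diag_mem τ hτn hτp
    refine ⟨g * t * g⁻¹, P, P⁻¹, nrm_ne_zero hPn, inv_ne_zero (nrm_ne_zero hPn),
      mul_mem (mul_mem hgM htM) (inv_mem hgM), (hg.mul hti).mul hg.inv, fun i => ?_, ?_⟩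
    · simp only [LinearEquiv.mul_apply, inv_apply, ht, map_smul]
      rfl
    · have h0 : ∑ i, c i = 0 := by
        have h : B (e a) (e d) = 0 := by rw [hon, if_neg had]
        conv_lhs at h => rw [← apply_inv g (e d), ← expand hon (g⁻¹ (e d)), map_sum, map_sum]
        rw [← h]
        exact Finset.sum_congr rfl fun i _ => by rw [map_smul, map_smul, smul_eq_mul, hg.inv.adj (e i), inv_inv]
      rw [← sub_add_cancel ((g * t * g⁻¹) (e d)) (e d), map_add, hon, if_neg had, add_zero, conj_diag' hon hg ht, map_sum]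
      refine (Finset.sum_congr rfl fun i _ => ?_ : _ = ∑ i, (τ i - 1) * c i).trans ?_
      · rw [map_smul, smul_eq_mul]; simp only [c]; ring
      have hτs : ∑ i, τ i * c i = 0 := by
        rw [← Finset.sum_sdiff (Finset.subset_univ S),
          Finset.sum_congr rfl (s₁ := Finset.univ \ S) fun i hi => show τ i * c i = P⁻¹ * (φ i * c i) by
            simp [τ, (Finset.mem_sdiff.1 hi).2, mul_assoc],
          Finset.sum_congr rfl (s₁ := S) fun i hi => show τ i * c i = P * (ψ i * c i) by simp [τ, hi, mul_assoc],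
          ← Finset.mul_sum, ← Finset.mul_sum, hsum, ← hR, hRsum, mul_zero, mul_zero, add_zero]
      simp only [sub_mul, one_mul, Finset.sum_sub_distrib, h0, hτs, sub_zero]
  obtain ⟨x, α, β, hα, hβ, hxM, hxi, hx, hxa⟩ := key θ hθ hs
  obtain ⟨y, α', β', hα', hβ', hyM, hyi, hy, hya⟩ := key θ' hθ' hs'
  by_cases h1 : Mono B e x
  swap
  · exact ⟨x, hxM, hxi, h1, a, d, hxa⟩
  by_cases h2 : Mono B e y
  swap
  · exact ⟨y, hyM, hyi, h2, a, d, hya⟩
  exfalso
  let s : ι → F := fun i => if i ∈ S then α' * θ' i / (α * θ i) else β' / β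
  have hs0 : ∀ i, s i ≠ 0 := fun i => by
    simp only [s]; split_ifs
    · exact div_ne_zero (mul_ne_zero hα' (nrm_ne_zero (hθ' i))) (mul_ne_zero hα (nrm_ne_zero (hθ i)))
    · exact div_ne_zero hβ' hβ
  obtain ⟨t, ht, -⟩ := exists_diag_equiv (e := e) s hs0
  have hxy : x⁻¹ * y = g * t * g⁻¹ := LinearEquiv.toLinearMap_injective ((e.map g).ext fun i => by
    simp only [Basis.map_apply, LinearEquiv.coe_coe, LinearEquiv.mul_apply, inv_apply, ht, map_smul]
    apply x.injective
    rw [apply_inv, hy, map_smul, hx, smul_smul]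
    congr 1
    simp only [s]
    by_cases hi : i ∈ S
    · have := nrm_ne_zero (hθ i)
      rw [if_pos hi, if_pos hi, if_pos hi]
      field_simp
    · rw [if_neg hi, if_neg hi, if_neg hi]
      field_simp)
  have hme := mult_eq hon ht (hxy ▸ Mono.mul' hon (Mono.inv' hon h1) h2) hz
  obtain ⟨i, hiS, hi⟩ := hprop (β' * α / (β * α'))
  obtain ⟨r, hr⟩ := Finset.card_pos.1 (show 0 < R.card by omega)
  have hsr : s r = β' / β := by simp [s, (Finset.mem_sdiff.1 hr).2]
  have hsi : s i ≠ β' / β := fun h => hi (by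
    have := nrm_ne_zero (hθ i)
    simp only [s, if_pos hiS] at h
    field_simp at h ⊢
    linear_combination h)
  have h4 : (Finset.univ.filter fun l => s l = s i).card ≤ 4 := by
    refine (Finset.card_le_card fun l hl => ?_).trans hS.le
    by_contra hlS
    exact hsi ((Finset.mem_filter.1 hl).2.symm.trans (by simp [s, hlS]))
  have h5 : 5 ≤ (Finset.univ.filter fun l => s l = s r).card := by
    rw [← hR5]
    exact Finset.card_le_card fun l hl => Finset.mem_filter.2
      ⟨Finset.mem_univ _, by rw [hsr]; simp [s, (Finset.mem_sdiff.1 hl).2]⟩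
  have := hme i r
  omega

/-- no entry vanishes -/
theorem zero_false (hn : Fintype.card ι = 9) (NF : NoFix B e M) {g : V ≃ₗ[F] V} (hgM : g ∈ M)
    (hg : Iso B g) (hgm : ¬ Mono B e g) {b j : ι} (hbj : B (e b) (g (e j)) = 0) : False := by
  classical
  have hon := H.onb
  have hB := H.herm
  have hσ := hB.toIsInvol
  have hgm' : ¬ Mono B e g⁻¹ := fun h => hgm (by simpa using Mono.inv' hon h)
  have col2 : ∀ (y : V ≃ₗ[F] V), y ∈ M → Iso B y → ¬ Mono B e y → ∀ j b c : ι, b ≠ c → B (e b) (y (e j)) = 0 →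
      B (e c) (y (e j)) = 0 → False := fun y hy hyi hym j b c h =>
    Eight.col_two8 H (show 8 ≤ Fintype.card ι by omega) NF hy hyi hym j b c h
  have hL : ∀ i, i ≠ b → B (e i) (g (e j)) ≠ 0 := fun i hi h0 => col2 g hgM hg hgm j b i (Ne.symm hi) hbj h0
  have finish : ∀ S : Finset ι, S.card ≤ 4 → (∀ i, i ∉ S → B (e i) (g⁻¹ (e b)) = 0) → False := by
    intro S hS h
    obtain ⟨i, hi, i', hi', hii⟩ := Finset.one_lt_card.1 (show 1 < (Finset.univ \ S).card by
      rw [Finset.card_sdiff_of_subset (Finset.subset_univ _), Finset.card_univ, hn]; omega)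
    exact col2 g⁻¹ (inv_mem hgM) hg.inv hgm' b i i' hii (h i (Finset.mem_sdiff.1 hi).2)
      (h i' (Finset.mem_sdiff.1 hi').2)
  by_cases hlam : ∃ l : F, l * σ l = 1 ∧ l ^ 9 ≠ 1
  · obtain ⟨l, hl, hl9⟩ := hlam
    have hl0 := nrm_ne_zero hl
    set μ := (l ^ 9)⁻¹
    have hμ : μ * σ μ = 1 := nrm_inv (nrm_pow hl 9)
    let θ : ι → F := fun i => l * if i = b then μ else 1
    have hθn : ∀ i, θ i * σ (θ i) = 1 := fun i => nrm_mul hl (by split_ifs <;> simp [hμ])
    obtain ⟨t, htM, hti, ht⟩ := H.diag_mem θ hθn (by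
      show ∏ i, l * (if i = b then μ else 1) = 1
      rw [Finset.prod_mul_distrib, Finset.prod_const, Finset.card_univ, hn, Finset.prod_ite_eq',
        if_pos (Finset.mem_univ b), mul_inv_cancel₀ (pow_ne_zero 9 hl0)])
    have htL : t (g (e j)) = l • g (e j) := ext_co hon fun i => by
      rw [co_diag hon ht, map_smul, smul_eq_mul]
      by_cases hi : i = b
      · rw [hi, hbj, mul_zero, mul_zero]
      · simp [θ, hi]
    set x := g⁻¹ * t * g⁻¹⁻¹
    have hxi : Iso B x := (hg.inv.mul hti).mul hg.inv.inv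
    have hxj : x (e j) = l • e j := by
      simp only [x, inv_inv, LinearEquiv.mul_apply, htL, map_smul, inv_apply]
    obtain ⟨π, φ, hφ⟩ := Mono.apply' hon
      (NF x (mul_mem (mul_mem (inv_mem hgM) htM) (inv_mem (inv_mem hgM))) hxi j j fun i hi => by
        rw [hxj, co_single hon, if_neg hi])
    let θ' : ι → F := fun i => if i = b then μ else 1
    obtain ⟨t', -, ht', -⟩ := exists_diag hon θ' fun i => by simp only [θ']; split_ifs <;> simp [hμ]
    set y := g⁻¹ * t' * g⁻¹⁻¹
    have hy : ∀ v, y v = l⁻¹ • x v := fun v => by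
      rw [conj_diag hon hg.inv ht', conj_diag hon hg.inv ht, Finset.smul_sum]
      exact Finset.sum_congr rfl fun i _ => by
        rw [smul_smul]; simp only [θ, θ']; congr 1; field_simp
    have hφ' : ∀ i, y (e i) = (l⁻¹ * φ i) • e (π i) := fun i => by rw [hy, hφ, smul_smul]
    have hN : (moved e y).card ≤ 2 * 1 := (card_moved_le hon hφ' (({b} : Finset ι).image fun i => g⁻¹ (e i))
      fun v => Six.conj_small' H hg.inv ht' {b} (fun i hi => by
        rw [Finset.mem_singleton] at hi; simp [θ', hi]) v).trans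
      (Nat.mul_le_mul_left 2 (Finset.card_image_le.trans (by simp)))
    refine finish (moved e y) (by omega) fun i hi => ?_
    have h := co_moved hon hφ' (g⁻¹ (e b)) hi
    rw [show y (g⁻¹ (e b)) = μ • g⁻¹ (e b) by
      simp only [y, LinearEquiv.mul_apply, inv_apply, ht', map_smul, θ', if_true], map_sub, map_smul, smul_eq_mul] at h
    by_contra h0
    exact hl9 (inv_eq_one.1 (mul_right_cancel₀ h0 (by linear_combination h) : μ = 1))
  push Not at hlam
  -- every element of norm one is a ninth root of unity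
  have h20 : (2 : F) = 0 := by
    have h := hlam (-1) (by simp)
    linear_combination -h
  have hq8 : qq σ + 1 ≤ 9 := by
    rw [← card_U hσ]
    have hsub : U σ ⊆ (Polynomial.nthRoots 9 (1 : F)).toFinset := fun l hl => by
      rw [Multiset.mem_toFinset, Polynomial.mem_nthRoots (by omega)]
      exact hlam l (mem_U.1 hl)
    exact (Finset.card_le_card hsub).trans ((Multiset.toFinset_card_le _).trans (Polynomial.card_nthRoots 9 1))
  obtain ⟨a, ha, c, hc, hac, hnorm⟩ := Finset.exists_ne_map_eq_of_card_lt_of_maps_to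
    (s := Finset.univ.erase b) (t := (Finset.univ.filter fun r : F => σ r = r).erase 0)
    (f := fun i => B (e i) (g (e j)) * σ (B (e i) (g (e j)))) (by
      rw [Finset.card_erase_of_mem (by simp), Finset.card_erase_of_mem (Finset.mem_univ b), Finset.card_univ,
        Six.card_fixed]
      omega) (fun i hi => by
      simp only [Finset.coe_erase, Set.mem_diff, Finset.mem_coe, Finset.mem_univ, Set.mem_singleton_iff, true_and] at hi
      simp only [Finset.coe_erase, Set.mem_diff, Finset.mem_coe, Finset.mem_filter, Finset.mem_univ, Set.mem_singleton_iff, true_and]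
      exact ⟨nrm_fix hσ _, mul_ne_zero (hL i hi) ((map_ne_zero σ).2 (hL i hi))⟩)
  rw [Finset.mem_erase] at ha hc
  set La := B (e a) (g (e j))
  set Lc := B (e c) (g (e j))
  have hLa : La ≠ 0 := hL a ha.1
  have hLc : Lc ≠ 0 := hL c hc.1
  set ψ := Lc / La
  have hψ : ψ * σ ψ = 1 := by
    rw [map_div₀, div_mul_div_comm, div_eq_one_iff_eq (mul_ne_zero hLa ((map_ne_zero σ).2 hLa))]
    exact hnorm.symm
  have hψ0 := nrm_ne_zero hψ
  obtain ⟨h, δ, -, hhi, hhd, hh⟩ := exists_mon hon hB (Equiv.swap a c)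
    (fun i => if i = a then ψ else if i = c then ψ⁻¹ else 1)
    (fun i => by split_ifs; exacts [hψ, nrm_inv hψ, by simp]) b
  have hδ : δ = 1 := by
    have h1 := det_of_perm (Equiv.swap a c) hh
    rw [hhd, Equiv.Perm.sign_swap hac] at h1
    have h2 : ∀ i, (if i = b then δ * (if i = a then ψ else if i = c then ψ⁻¹ else 1)
        else if i = a then ψ else if i = c then ψ⁻¹ else 1) =
        (if i = b then δ else 1) * ((if i = a then ψ else 1) * if i = c then ψ⁻¹ else 1) := fun i => by
      by_cases g1 : i = b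
      · subst g1; simp [Ne.symm ha.1, Ne.symm hc.1]
      by_cases g2 : i = a
      · subst g2; simp [g1, hac]
      simp [g1, g2]
    rw [Finset.prod_congr rfl fun i _ => h2 i, Finset.prod_mul_distrib, Finset.prod_mul_distrib] at h1
    simp only [Finset.prod_ite_eq', Finset.mem_univ, if_true, mul_inv_cancel₀ hψ0, mul_one] at h1
    push_cast at h1
    linear_combination h1 - h20
  have hhM : h ∈ M := H.mono_mem h hhi hhd (mono_of_apply hon hh)
  have hha : h (e a) = ψ • e c := by simp [hh, ha.1]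
  have hhc : h (e c) = ψ⁻¹ • e a := by simp [hh, hc.1, hac.symm]
  have hho : ∀ i, i ≠ a → i ≠ c → h (e i) = e i := fun i h1 h2 => by
    by_cases h3 : i = b <;> simp [hh, h1, h2, h3, hδ, Equiv.swap_apply_of_ne_of_ne, ha.1.symm, hc.1.symm]
  have hhL : h (g (e j)) = g (e j) := by
    conv_rhs => rw [← expand hon (g (e j))]
    conv_lhs => rw [← expand hon (g (e j)), map_sum]
    rw [← Equiv.sum_comp (Equiv.swap a c) (fun i => B (e i) (g (e j)) • e i)]
    refine Finset.sum_congr rfl fun i _ => ?_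
    rw [map_smul]
    by_cases h1 : i = a
    · subst h1; rw [hha, Equiv.swap_apply_left, smul_smul, mul_div_cancel₀ _ hLa]
    by_cases h2 : i = c
    · subst h2; rw [hhc, Equiv.swap_apply_right, smul_smul]
      congr 1
      show Lc * (Lc / La)⁻¹ = La
      field_simp
    rw [Equiv.swap_apply_of_ne_of_ne h1 h2, hho i h1 h2]
  set v := ψ • e c - e a with hvdef
  have hvv : B v v = 0 := by
    simp only [hvdef, map_sub, map_smulₛₗ, LinearMap.sub_apply, LinearMap.smul_apply, map_smul, smul_eq_mul,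
      RingHom.id_apply, hon c c, hon a a, hon a c, hon c a, if_neg hac, if_neg hac.symm, if_true]
    linear_combination hψ + h20
  set x := g⁻¹ * h * g with hxdef
  have hxi : Iso B x := (hg.inv.mul hhi).mul hg
  have hxj : x (e j) = e j := by simp only [x, LinearEquiv.mul_apply, hhL, inv_apply]
  obtain ⟨π, φ, hφ⟩ := Mono.apply' hon (NF x (mul_mem (mul_mem (inv_mem hgM) hhM) hgM) hxi j j fun i hi => by
    rw [hxj, hon, if_neg hi])
  have hN : (moved e x).card ≤ 2 * 1 := by
    refine (card_moved_le hon hφ ({g⁻¹ v} : Finset V) fun y => ?_).trans (by simp)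
    have hle : (⊤ : Submodule F V) ≤ Submodule.comap (h.toLinearMap - LinearMap.id) (F ∙ v) := by
      rw [← e.span_eq, Submodule.span_le]
      rintro _ ⟨i, rfl⟩
      show h (e i) - e i ∈ F ∙ v
      rw [Submodule.mem_span_singleton]
      by_cases h1 : i = a
      · exact ⟨1, by rw [h1, hha, hvdef]; simp⟩
      by_cases h2 : i = c
      · refine ⟨-ψ⁻¹, ?_⟩
        rw [h2, hhc, hvdef, smul_sub, smul_smul, neg_mul, inv_mul_cancel₀ hψ0]
        simp only [neg_smul, one_smul]; abel
      exact ⟨0, by rw [hho i h1 h2]; simp⟩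
    obtain ⟨p, hp⟩ := Submodule.mem_span_singleton.1 (hle (Submodule.mem_top (x := g y)))
    have e1 : x y - y = g⁻¹ (h (g y) - g y) := by rw [map_sub, inv_apply]; rfl
    rw [Finset.coe_singleton, Submodule.mem_span_singleton]
    exact ⟨p, by rw [e1, show h (g y) - g y = p • v from hp.symm, map_smul]⟩
  set w := g⁻¹ v with hwdef
  have hwv : g w = v := apply_inv g v
  have hw : ∀ i, i ∉ moved e x → B (e i) w = 0 := fun i hi => by
    have := co_moved hon hφ (g⁻¹ (e a)) hi
    rwa [hxdef, LinearEquiv.mul_apply, LinearEquiv.mul_apply, apply_inv, ← map_sub, hha] at this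
  have hv0 : v ≠ 0 := fun h0 => by
    have := congrArg (B (e a)) h0
    simp [hvdef, hon a c, hon a a, hac] at this
  have hww : B w w = 0 := by rw [hwdef, hg.inv, hvv]
  have hw0 : w ≠ 0 := fun h0 => hv0 (by rw [← hwv, h0, map_zero])
  -- the support of the moved vector has two places
  obtain ⟨p, r, hpr, hpm, hrm, hsupp⟩ : ∃ p r, p ≠ r ∧ p ∈ moved e x ∧ r ∈ moved e x ∧
      ∀ i, i ≠ p → i ≠ r → B (e i) w = 0 := by
    obtain ⟨p, hp⟩ : ∃ p, B (e p) w ≠ 0 := by
      by_contra! h0; exact hw0 (ext_co hon fun i => by rw [h0, map_zero])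
    have hpm : p ∈ moved e x := by by_contra h0; exact hp (hw p h0)
    obtain ⟨r, hr, hrp⟩ : ∃ r, B (e r) w ≠ 0 ∧ r ≠ p := by
      by_contra! h0
      rw [norm_supp hon, show supp B e w = {p} from Finset.ext fun l => by
        rw [mem_supp, Finset.mem_singleton]; exact ⟨h0 l, fun h => h ▸ hp⟩, Finset.sum_singleton] at hww
      exact mul_ne_zero hp ((map_ne_zero σ).2 hp) hww
    have hrm : r ∈ moved e x := by by_contra h0; exact hr (hw r h0)
    refine ⟨p, r, hrp.symm, hpm, hrm, fun i h1 h2 => hw i fun him => ?_⟩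
    have h3 := Finset.card_le_card (show ({i, p, r} : Finset ι) ⊆ moved e x by
      intro l hl; simp only [Finset.mem_insert, Finset.mem_singleton] at hl
      rcases hl with rfl | rfl | rfl <;> assumption)
    rw [Finset.card_insert_of_notMem (by simp [h1, h2]), Finset.card_pair hrp.symm] at h3
    omega
  have hjp : j ≠ p := fun h => mem_moved.1 hpm (h ▸ hxj)
  have hjr : j ≠ r := fun h => mem_moved.1 hrm (h ▸ hxj)
  set α := B (e p) w
  set β := B (e r) w
  have hwexp : w = α • e p + β • e r := ext_co hon fun i => by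
    rw [map_add, co_single hon, co_single hon]
    by_cases h1 : i = p
    · rw [h1, if_pos rfl, if_neg hpr, add_zero]
    by_cases h2 : i = r
    · rw [h2, if_pos rfl, if_neg hpr.symm, zero_add]
    rw [if_neg h1, if_neg h2, add_zero, hsupp i h1 h2]
  have hnrm : α * σ α + β * σ β = 0 := by
    rw [norm_supp hon, Finset.sum_subset (Finset.subset_univ _) (fun l _ hl => by rw [notMem_supp.1 hl, zero_mul]),
      Fintype.sum_eq_add p r hpr (fun l hl => by rw [hsupp l hl.1 hl.2, zero_mul])] at hww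
    exact hww
  have hβ : β ≠ 0 := by
    intro h0
    rw [h0, zero_mul, add_zero] at hnrm
    have hα0 : α = 0 := (mul_eq_zero.1 hnrm).elim id (fun h => (map_eq_zero σ).1 h)
    exact hw0 (by rw [hwexp, hα0, h0, zero_smul, zero_smul, add_zero])
  have hrel : ∀ k, k ≠ a → k ≠ c → α * B (e k) (g (e p)) + β * B (e k) (g (e r)) = 0 := fun k h1 h2 => by
    have := congrArg (B (e k)) hwv
    rw [hwexp, map_add, map_add, map_smul, map_smul, map_smul, map_smul, smul_eq_mul, smul_eq_mul] at this
    rw [this, hvdef, map_sub, map_smul, hon, hon, if_neg h2, if_neg h1, smul_zero, sub_zero]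
  -- a diagonal element scaling the two columns alike
  obtain ⟨ζ, hζ, hζ1, -⟩ := exists_zeta (σ := σ) hσ
  have hζ0 := nrm_ne_zero hζ
  let τ : ι → F := fun i => (if i = p then ζ else 1) * ((if i = r then ζ else 1) * if i = j then (ζ * ζ)⁻¹ else 1)
  have hτn : ∀ i, τ i * σ (τ i) = 1 := fun i => nrm_mul (by split_ifs <;> simp [hζ])
    (nrm_mul (by split_ifs <;> simp [hζ]) (by split_ifs; exacts [nrm_inv (nrm_mul hζ hζ), by simp]))
  obtain ⟨t, htM, hti, ht⟩ := H.diag_mem τ hτn (by
    simp only [τ, Finset.prod_mul_distrib, Finset.prod_ite_eq', Finset.mem_univ, if_true]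
    field_simp)
  set z := g * t * g⁻¹
  have hzi : Iso B z := (hg.mul hti).mul hg.inv
  have hzM : z ∈ M := mul_mem (mul_mem hgM htM) (inv_mem hgM)
  have hzb : z (e b) - e b = (ζ - 1) • (B (g (e p)) (e b) • g (e p) + B (g (e r)) (e b) • g (e r)) := by
    rw [conj_diag' hon hg ht, Fintype.sum_eq_add p r hpr (fun l hl => ?_), smul_add, smul_smul, smul_smul]
    · simp [τ, hpr, hpr.symm, Ne.symm hjp, Ne.symm hjr]
    · by_cases hlj : l = j
      · rw [hlj, (Herm.eq_zero_comm hB).1 hbj, mul_zero, zero_smul]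
      · simp [τ, hl.1, hl.2, hlj]
  have hzk : ∀ k, k ≠ a → k ≠ c → B (e k) (z (e b)) = if k = b then 1 else 0 := fun k h1 h2 => by
    have hk := congrArg (B (e k)) hzb
    rw [map_sub, map_smul, map_add, map_smul, map_smul, hon, smul_eq_mul, smul_eq_mul, smul_eq_mul] at hk
    have hk1 := hrel k h1 h2
    have hb1 : σ α * B (g (e p)) (e b) + σ β * B (g (e r)) (e b) = 0 := by
      have := congrArg σ (hrel b ha.1.symm hc.1.symm)
      rw [map_zero, map_add, map_mul, map_mul, hB.symm (e b), hB.symm (e b)] at this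
      exact this
    have h0 : B (g (e p)) (e b) * B (e k) (g (e p)) + B (g (e r)) (e b) * B (e k) (g (e r)) = 0 := by
      refine (mul_eq_zero.1 (?_ : β * σ β * _ = 0)).resolve_left (mul_ne_zero hβ ((map_ne_zero σ).2 hβ))
      linear_combination (B (g (e p)) (e b) * B (e k) (g (e p))) * hnrm + (σ β * B (g (e r)) (e b)) * hk1
        - (α * B (e k) (g (e p))) * hb1
    rw [h0, mul_zero] at hk
    linear_combination hk
  obtain ⟨i1, hi1, i2, hi2, h12⟩ := Finset.one_lt_card.1 (show 1 < (Finset.univ \ ({a, c, b} : Finset ι)).card by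
    have := Finset.le_card_sdiff ({a, c, b} : Finset ι) Finset.univ
    have h3 : ({a, c, b} : Finset ι).card ≤ 3 := Finset.card_le_three
    rw [Finset.card_univ] at this
    omega)
  simp only [Finset.mem_sdiff, Finset.mem_univ, true_and, Finset.mem_insert, Finset.mem_singleton, not_or] at hi1 hi2
  by_cases hzm : Mono B e z
  swap
  · exact col2 z hzM hzi hzm b i1 i2 h12 (by rw [hzk i1 hi1.1 hi1.2.1, if_neg hi1.2.2])
      (by rw [hzk i2 hi2.1 hi2.2.1, if_neg hi2.2.2])
  obtain ⟨π', φ', hφ'⟩ := Mono.apply' hon hzm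
  have hzb1 : z (e b) = e b := by
    have h := hzk b ha.1.symm hc.1.symm
    rw [if_pos rfl, hφ', co_single hon] at h
    split_ifs at h with hπ
    · rw [hφ', h, one_smul, ← hπ]
    · exact absurd h zero_ne_one
  have h0 : B (g (e p)) (e b) • g (e p) + B (g (e r)) (e b) • g (e r) = 0 := by
    rw [hzb1, sub_self] at hzb
    exact (smul_eq_zero.1 hzb.symm).resolve_left (sub_ne_zero.2 hζ1)
  have hgg : ∀ i l, B (g (e i)) (g (e l)) = if i = l then 1 else 0 := fun i l => by rw [hg, hon]
  have hp0 : B (g (e p)) (e b) = 0 := by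
    have := congrArg (B (g (e p))) h0
    simpa [hgg, hpr] using this
  refine col2 g⁻¹ (inv_mem hgM) hg.inv hgm' b p j hjp.symm ?_ ?_
  · rw [hg.inv.adj, inv_inv]; exact hp0
  · rw [hg.inv.adj, inv_inv]; exact (Herm.eq_zero_comm hB).1 hbj

/-- the monomial case in dimension nine -/
theorem mono_centres (hn : Fintype.card ι = 9) {g : V ≃ₗ[F] V} (hgM : g ∈ M) (hg : Iso B g)
    (hgm : ¬ Mono B e g) : ∀ v, B v v = 0 → v ∈ centres B M := by
  classical
  obtain ⟨x, hxM, hxi, hxm, a, cc, hxa⟩ :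
      ∃ x ∈ M, Iso B x ∧ ¬ Mono B e x ∧ ∃ (a : ι) (c : F), x (e a) = c • e a := by
    by_contra hno
    push Not at hno
    have NF : NoFix B e M := fun x hxM hx a d hd => by
      by_contra hxm
      have hxa := eq_single H.onb hd
      obtain ⟨m, δ, -, hmi, hmd, hm⟩ := exists_mon H.onb H.herm (Equiv.swap a d) (fun _ => 1) (fun _ => by simp) a
      have hmm : Mono B e m := mono_of_apply H.onb hm
      refine hno (m * x) (mul_mem (H.mono_mem m hmi hmd hmm) hxM) (hmi.mul hx)
        (fun h => hxm (by simpa using Mono.mul' H.onb (Mono.inv' H.onb hmm) h)) a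
        (B (e d) (x (e a)) * if d = a then δ * 1 else 1) ?_
      rw [LinearEquiv.mul_apply]
      conv_lhs => rw [hxa, map_smul, hm, Equiv.swap_apply_right, smul_smul]
    obtain ⟨g', h1, h2, h3, b, j, hbj⟩ := exists_zero H hn hgM hg hgm
    exact zero_false H hn NF h1 h2 h3 hbj
  exact mono_centres_of_fix H (by omega) hxM hxi hxm hxa

end Nine

end Cfsg.Agent.UnitDec
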