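import Cfsg.Agent.UnitDec.MonoMul
import Mathlib.GroupTheory.Perm.Sign

/-!
Even dimension: conjugating a signed pairing of the coordinates by a full element, with weights summing
to zero, gives a non-monomial element with a vanishing diagonal entry.
-/

set_option autoImplicit false

namespace Cfsg.Agent.UnitDec

open Cfsg.Agent.Classical Cfsg.Agent.ClassicalMax.Unitary Module

variable {F V ι : Type*} [Field F] [Fintype F] [DecidableEq F] [AddCommGroup V] [Module F V] [FiniteDimensional F V]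
  {σ : F →+* F} [Fintype ι] [DecidableEq ι] {B : V →ₛₗ[σ] V →ₗ[F] F} {e : Basis ι F V}

omit [Fintype F] [DecidableEq F] [FiniteDimensional F V] in
theorem det_of_perm (π : Equiv.Perm ι) {g : V ≃ₗ[F] V} {φ : ι → F} (h : ∀ i, g (e i) = φ i • e (π i)) :
    LinearMap.det g.toLinearMap = (Equiv.Perm.sign π : ℤ) * ∏ i, φ i := by
  have hm : LinearMap.toMatrix e e (g : V →ₗ[F] V) = π⁻¹.permMatrix F * Matrix.diagonal φ := by
    ext i j
    rw [LinearMap.toMatrix_apply, LinearEquiv.coe_coe, h, map_smul, Basis.repr_self, Matrix.mul_diagonal,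
      Finsupp.smul_apply, Finsupp.single_apply, smul_eq_mul]
    simp only [Equiv.Perm.permMatrix, PEquiv.toMatrix_apply, Equiv.toPEquiv_apply, Option.mem_some_iff]
    by_cases hij : π j = i
    · subst hij; simp
    · simp [hij, Equiv.symm_apply_eq, Ne.symm hij]
  rw [← LinearMap.det_toMatrix e, hm, Matrix.det_mul, Matrix.det_diagonal, Matrix.det_permutation,
    Equiv.Perm.sign_inv]

/-- two circles meet in more points than a line has -/
theorem exists_four_avoid (hσ : Herm.IsInvol σ) {c1 c2 c3 c4 : F} (h1 : c1 ≠ 0) (h2 : c2 ≠ 0) (h3 : c3 ≠ 0)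
    (h4 : c4 ≠ 0) {c : F} (hc : c ≠ 0) (T : F) :
    ∃ a b a' b' : F, a * σ a = 1 ∧ b * σ b = 1 ∧ a' * σ a' = 1 ∧ b' * σ b' = 1 ∧
      c1 * a + c2 * b + c3 * a' + c4 * b' = T ∧ (c1 * a + c2 * b) * σ c ≠ σ (c1 * a + c2 * b) * c := by
  set A := pairVals σ c1 c2 with hA
  set A' := (pairVals σ c3 c4).image fun y => T - y
  have hA' : A'.card = (pairVals σ c3 c4).card := Finset.card_image_of_injective _ sub_right_injective
  have h := Finset.card_inter_add_card_union A A'
  have hu := (Finset.card_le_univ (A ∪ A')).trans_eq (card_F hσ)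
  rw [sq] at hu
  have e1 := card_pairVals hσ h1 h2
  have e2 := card_pairVals hσ h3 h4
  set L := (Finset.univ.filter fun r : F => σ r = r).image fun r => c * r with hLdef
  have hL : L.card ≤ qq σ := Finset.card_image_le.trans
    ((Nat.card_eq_finsetCard _).symm.trans (Nat.card_congr (Equiv.subtypeEquivRight fun r => by
      simp [Herm.mem_fixField]))).le
  rw [← hA] at e1
  have hlt : L.card < (A ∩ A').card := by omega
  obtain ⟨Y, hY, hYL⟩ := Finset.exists_mem_notMem_of_card_lt_card hlt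
  rw [Finset.mem_inter, Finset.mem_image] at hY
  obtain ⟨hYA, W, hW, rfl⟩ := hY
  obtain ⟨⟨a, b⟩, hab, e⟩ := Finset.mem_image.1 hYA
  obtain ⟨⟨a', b'⟩, hab', e'⟩ := Finset.mem_image.1 hW
  rw [Finset.mem_product, mem_U, mem_U] at hab hab'
  have e3 : c1 * a + c2 * b = T - W := e
  refine ⟨a, b, a', b', hab.1, hab.2, hab'.1, hab'.2, by linear_combination e + e', fun hcol => hYL ?_⟩
  rw [hLdef, Finset.mem_image]
  refine ⟨(T - W) / c, ?_, by field_simp⟩
  rw [Finset.mem_filter]
  refine ⟨Finset.mem_univ _, ?_⟩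
  rw [map_div₀, div_eq_div_iff ((map_ne_zero σ).2 hc) hc, ← e3]
  linear_combination -hcol

/-- weights of norm one with vanishing sum, and a second such choice differing in two places -/
theorem exists_two_weights (hσ : Herm.IsInvol σ) {m : ℕ} (hm : 5 ≤ m) (c : Fin m → F) (hc : ∀ k, c k ≠ 0) :
    ∃ φ φ' : Fin m → F, (∀ k, φ k * σ (φ k) = 1) ∧ (∀ k, φ' k * σ (φ' k) = 1) ∧
      ∑ k, φ k * c k = 0 ∧ ∑ k, φ' k * c k = 0 ∧ ∃ i j, φ i ≠ φ' i ∧ ∀ k, k ≠ i → k ≠ j → φ k = φ' k := by
  classical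
  let p : ∀ l : ℕ, l < 5 → Fin m := fun l hl => ⟨l, by omega⟩
  let i1 := p 0 (by omega)
  let i2 := p 1 (by omega)
  let i3 := p 2 (by omega)
  let i4 := p 3 (by omega)
  let i5 := p 4 (by omega)
  have d12 : i1 ≠ i2 := by simp [i1, i2, p]
  have d13 : i1 ≠ i3 := by simp [i1, i3, p]
  have d14 : i1 ≠ i4 := by simp [i1, i4, p]
  have d23 : i2 ≠ i3 := by simp [i2, i3, p]
  have d24 : i2 ≠ i4 := by simp [i2, i4, p]
  have d34 : i3 ≠ i4 := by simp [i3, i4, p]
  have d15 : i1 ≠ i5 := by simp [i1, i5, p]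
  have d25 : i2 ≠ i5 := by simp [i2, i5, p]
  have d35 : i3 ≠ i5 := by simp [i3, i5, p]
  have d45 : i4 ≠ i5 := by simp [i4, i5, p]
  set S : Finset (Fin m) := {i1, i2, i3, i4}
  obtain ⟨a, b, a', b', ha, hb, ha', hb', hT, hcol⟩ := exists_four_avoid hσ (hc i1) (hc i2) (hc i3) (hc i4)
    (hc i5) (-∑ k ∈ Finset.univ \ S, c k)
  let φ : Fin m → F := fun i => if i = i1 then a else if i = i2 then b else if i = i3 then a' else if i = i4 then b' else 1
  have hφn : ∀ k, φ k * σ (φ k) = 1 := fun k => by simp only [φ]; split_ifs <;> simp [*]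
  have hsum : ∑ k, φ k * c k = 0 := by
    rw [← Finset.sum_sdiff (Finset.subset_univ S), Finset.sum_congr rfl (s₁ := Finset.univ \ S) (g := c) fun k hk => by
      simp only [S, Finset.mem_sdiff, Finset.mem_insert, Finset.mem_singleton, not_or] at hk
      simp [φ, hk.2]]
    rw [Finset.sum_insert (by simp [d12, d13, d14]), Finset.sum_insert (by simp [d23, d24]),
      Finset.sum_insert (by simp [d34]), Finset.sum_singleton]
    simp only [φ, d12.symm, d13.symm, d14.symm, d23.symm, d24.symm, d34.symm, if_false, if_true]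
    linear_combination hT
  obtain ⟨i, hi5, hne⟩ : ∃ i, i ≠ i5 ∧ φ i * c i * σ (c i5) ≠ σ (φ i * c i) * c i5 := by
    by_contra! h
    have h1 := h i1 d15
    have h2 := h i2 d25
    simp only [φ, d12.symm, if_false, if_true, map_mul] at h1 h2
    exact hcol (by simp only [map_add, map_mul]; linear_combination h1 + h2)
  have hφ5 : φ i5 = 1 := by simp [φ, d15.symm, d25.symm, d35.symm, d45.symm]
  set T := φ i * c i + c i5 with hTdef
  have hT0 : T ≠ 0 := fun h => hne (by
    rw [show φ i * c i = -c i5 from eq_neg_of_add_eq_zero_left h, map_neg]; ring)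
  let φ' : Fin m → F := fun k => if k = i ∨ k = i5 then T * σ (φ k * c k) / (σ T * c k) else φ k
  have hσT : σ T ≠ 0 := (map_ne_zero σ).2 hT0
  refine ⟨φ, φ', hφn, fun k => ?_, hsum, ?_, i, i5, ?_, fun k hk hk' => by simp [φ', hk, hk']⟩
  · simp only [φ']
    split_ifs
    · simp only [map_div₀, map_mul, hσ.invol]
      rw [div_mul_div_comm, div_eq_one_iff_eq (mul_ne_zero (mul_ne_zero hσT (hc k))
        (mul_ne_zero hT0 ((map_ne_zero σ).2 (hc k))))]
      linear_combination (T * σ T * c k * σ (c k)) * hφn k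
    · exact hφn k
  · have h0 : ∑ k, φ' k * c k - ∑ k, φ k * c k = 0 := by
      rw [← Finset.sum_sub_distrib, Fintype.sum_eq_add i i5 hi5 fun k hk => by simp [φ', hk.1, hk.2]]
      simp only [φ', true_or, or_true, if_true, hφ5, one_mul]
      field_simp [hc i, hc i5]
      rw [hTdef, map_add, map_mul]
      ring
    rwa [hsum, sub_zero] at h0
  · intro he
    simp only [φ', true_or, if_true] at he
    rw [eq_div_iff (mul_ne_zero hσT (hc i)), hTdef, map_add] at he
    exact hne (by linear_combination he)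

/-- even dimension: an element with a vanishing diagonal entry -/
theorem exists_zero_even (hB : Herm.IsHerm B) (hon : IsONB B e) {M : Subgroup (V ≃ₗ[F] V)}
    (hmem : ∀ g, Iso B g → LinearMap.det g.toLinearMap = 1 → Mono B e g → g ∈ M)
    (hev : Even (Fintype.card ι)) (hbig : 10 ≤ Fintype.card ι) {g : V ≃ₗ[F] V} (hgM : g ∈ M) (hg : Iso B g)
    (hz : ∀ b j, B (e b) (g (e j)) ≠ 0) :
    ∃ g' ∈ M, Iso B g' ∧ ¬ Mono B e g' ∧ ∃ b j, B (e b) (g' (e j)) = 0 := by
  classical
  obtain ⟨m, hm⟩ := hev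
  let E : Fin m × Bool ≃ ι := (Fintype.equivFinOfCardEq (α := Fin m × Bool) (by simp; omega)).trans
    (Fintype.equivFinOfCardEq (α := ι) rfl).symm
  let π : Equiv.Perm ι := E.permCongr (Equiv.prodCongrRight fun _ => Equiv.swap false true)
  have hπ : ∀ k x, π (E (k, x)) = E (k, !x) := fun k x => by cases x <;> simp [π, Equiv.permCongr_apply]
  have hsgn : Equiv.Perm.sign π = (-1) ^ m := by simp [π, Equiv.Perm.sign_prodCongrRight]
  have hcases : ∀ i, ∃ k x, i = E (k, x) := fun i => ⟨(E.symm i).1, (E.symm i).2, by simp⟩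
  obtain ⟨a, -, -⟩ := hcases (E (⟨0, by omega⟩, false))
  set ea := E (a, false)
  let u : ι → F := fun i => B (e ea) (g (e i))
  let c : Fin m → F := fun k => σ (u (E (k, false))) * u (E (k, true))
  obtain ⟨φ, φ', hφ, hφ', hs, hs', i0, j0, hne, hsame⟩ := exists_two_weights hB.toIsInvol (show 5 ≤ m by omega) c
    fun k => mul_ne_zero ((map_ne_zero σ).2 (hz _ _)) (hz _ _)
  -- the signed pairing with given weights
  let wt : (Fin m → F) → ι → F := fun ψ i => if (E.symm i).2 then -σ (ψ (E.symm i).1) else ψ (E.symm i).1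
  have key : ∀ ψ : Fin m → F, (∀ k, ψ k * σ (ψ k) = 1) → ∑ k, ψ k * c k = 0 →
      ∃ x : V ≃ₗ[F] V, x ∈ M ∧ Iso B x ∧ (∀ i, x (g (e i)) = wt ψ i • g (e (π i))) ∧ B (e ea) (x (e ea)) = 0 := by
    intro ψ hψ hsum
    have hn : ∀ i, wt ψ i * σ (wt ψ i) = 1 := fun i => by
      obtain ⟨k, x, rfl⟩ := hcases i
      cases x <;> simp [wt, hψ k, nrm_conj hB.toIsInvol (hψ k)]
    let b := e.reindex π.symm
    let h := e.equiv (b.unitsSMul fun i => Units.mk0 (wt ψ i) (nrm_ne_zero (hn i))) (Equiv.refl ι)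
    have h0 : ∀ i, h (e i) = wt ψ i • e (π i) := fun i => by
      simp [h, b, Basis.unitsSMul_apply, Units.smul_def]
    have hhi : Iso B h := iso_of_basis hon fun i j => by
      simp only [h0, map_smulₛₗ, LinearMap.smul_apply, smul_eq_mul, RingHom.id_apply, hon _ _, π.injective.eq_iff]
      split_ifs with hij
      · subst hij; linear_combination hn i
      · simp
    have hhd : LinearMap.det h.toLinearMap = 1 := by
      rw [det_of_perm π h0, hsgn, ← Equiv.prod_comp E, Fintype.prod_prod_type]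
      have : ∀ k, ∏ x : Bool, wt ψ (E (k, x)) = -1 := fun k => by
        simp [wt]; linear_combination hψ k
      rw [Finset.prod_congr rfl fun k _ => this k, Finset.prod_const, Finset.card_univ, Fintype.card_fin]
      simp [← mul_pow]
    refine ⟨g * h * g⁻¹, mul_mem (mul_mem hgM (hmem h hhi hhd (mono_of_apply hon h0))) (inv_mem hgM),
      (hg.mul hhi).mul hg.inv, fun i => ?_, ?_⟩
    · simp only [LinearEquiv.mul_apply, inv_apply, h0, map_smul]
    · rw [LinearEquiv.mul_apply, LinearEquiv.mul_apply]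
      conv_lhs => rw [← expand hon (g⁻¹ (e ea))]
      simp only [map_sum, map_smul, h0, smul_eq_mul]
      have h1 : ∀ i, B (e i) (g⁻¹ (e ea)) = σ (u i) := fun i => by
        rw [hg.inv.adj, inv_inv, ← hB.symm]
      rw [← Equiv.sum_comp E, Fintype.sum_prod_type]
      simp only [Fintype.sum_bool, h1, hπ, Bool.not_true, Bool.not_false]
      have : ∀ k, σ (u (E (k, true))) * (wt ψ (E (k, true)) * u (E (k, false))) +
          σ (u (E (k, false))) * (wt ψ (E (k, false)) * u (E (k, true))) = ψ k * c k - σ (ψ k * c k) := fun k => by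
        simp [wt, c, map_mul, hB.invol]; ring
      rw [Finset.sum_congr rfl fun k _ => this k, Finset.sum_sub_distrib, ← map_sum, hsum, map_zero, sub_zero]
  obtain ⟨x, hxM, hxi, hx, hxa⟩ := key φ hφ hs
  obtain ⟨y, hyM, hyi, hy, hya⟩ := key φ' hφ' hs'
  by_cases h1 : Mono B e x
  swap
  · exact ⟨x, hxM, hxi, h1, ea, ea, hxa⟩
  by_cases h2 : Mono B e y
  swap
  · exact ⟨y, hyM, hyi, h2, ea, ea, hya⟩
  exfalso
  -- the quotient is diagonal in the new frame, with mostly trivial entries
  let s : ι → F := fun i => wt φ' i / wt φ i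
  have hw0 : ∀ i, wt φ i ≠ 0 := fun i => by
    obtain ⟨k, v, rfl⟩ := hcases i
    cases v <;> simp [wt, nrm_ne_zero (hφ k)]
  have hs0 : ∀ i, s i ≠ 0 := fun i => div_ne_zero (by
    obtain ⟨k, v, rfl⟩ := hcases i
    cases v <;> simp [wt, nrm_ne_zero (hφ' k)]) (hw0 i)
  obtain ⟨t, ht, -⟩ := exists_diag_equiv (e := e) s hs0
  have hxy : x⁻¹ * y = g * t * g⁻¹ := LinearEquiv.toLinearMap_injective ((e.map g).ext fun i => by
    simp only [Basis.map_apply, LinearEquiv.coe_coe, LinearEquiv.mul_apply, inv_apply, ht, map_smul]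
    apply x.injective
    rw [apply_inv, hy, map_smul, hx, smul_smul, div_mul_cancel₀ _ (hw0 i)])
  have h3 : Mono B e (g * t * g⁻¹) := hxy ▸ Mono.mul' hon (Mono.inv' hon h1) h2
  have hme := mult_eq hon ht h3 hz
  let D : Finset ι := {E (i0, false), E (i0, true), E (j0, false), E (j0, true)}
  have hD : D.card ≤ 4 := Finset.card_le_four
  have hone : ∀ i, i ∉ D → s i = 1 := fun i hi => by
    obtain ⟨k, v, rfl⟩ := hcases i
    have hk : k ≠ i0 ∧ k ≠ j0 := by
      constructor <;> rintro rfl <;> cases v <;> simp [D] at hi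
    simp only [s, wt, Equiv.symm_apply_apply, hsame k hk.1 hk.2]
    cases v <;> simp [nrm_ne_zero (hφ' k)]
  have hsi : s (E (i0, false)) ≠ 1 := by
    simp only [s, wt, Equiv.symm_apply_apply, Bool.false_eq_true, if_false, ne_eq,
      div_eq_one_iff_eq (nrm_ne_zero (hφ i0))]
    exact Ne.symm hne
  obtain ⟨p, hp⟩ : ∃ p, p ∉ D := by
    by_contra! h
    have := (Finset.card_le_card (fun i _ => h i : (Finset.univ : Finset ι) ⊆ D)).trans hD
    rw [Finset.card_univ] at this; omega
  have h4 : (Finset.univ.filter fun l => s l = s (E (i0, false))).card ≤ 4 :=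
    (Finset.card_le_card fun l hl => by
      by_contra hlD; rw [Finset.mem_filter, hone l hlD] at hl; exact hsi hl.2.symm).trans hD
  have h5 : Fintype.card ι - 4 ≤ (Finset.univ.filter fun l => s l = s p).card := by
    refine le_trans ?_ (Finset.card_le_card (s := Finset.univ \ D) fun l hl => by
      rw [Finset.mem_filter, hone p hp, hone l (Finset.mem_sdiff.1 hl).2]; exact ⟨Finset.mem_univ _, rfl⟩)
    rw [Finset.card_sdiff_of_subset (Finset.subset_univ _), Finset.card_univ]; omega
  have := hme (E (i0, false)) p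
  omega

end Cfsg.Agent.UnitDec
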