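import Cfsg.Agent.UnitDec.MonoMul
import Cfsg.Agent.UnitDec.EvenZero

/-!
A group containing the monomial matrices of determinant one of the unitary group, and not contained in the
monomial group, has a non-monomial element fixing a coordinate line (dimension at least 13, or even and at least 10).
-/

set_option autoImplicit false

namespace Cfsg.Agent.UnitDec

open Cfsg.Agent.Classical Cfsg.Agent.ClassicalMax.Unitary Module

variable {F V ι : Type*} [Field F] [Fintype F] [DecidableEq F] [AddCommGroup V] [Module F V] [FiniteDimensional F V]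
  {σ : F →+* F} [Fintype ι] [DecidableEq ι]

/-- the standing hypotheses for the monomial case -/
structure MonHyp (B : V →ₛₗ[σ] V →ₗ[F] F) (e : Basis ι F V) (M : Subgroup (V ≃ₗ[F] V)) : Prop where
  herm : Herm.IsHerm B
  onb : IsONB B e
  big : 10 ≤ Fintype.card ι
  parity : Even (Fintype.card ι) ∨ 13 ≤ Fintype.card ι
  mono_mem : ∀ g, Iso B g → LinearMap.det g.toLinearMap = 1 → Mono B e g → g ∈ M

/-- elements fixing a coordinate line up to permutation are monomial -/
def NoFix (B : V →ₛₗ[σ] V →ₗ[F] F) (e : Basis ι F V) (M : Subgroup (V ≃ₗ[F] V)) : Prop :=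
  ∀ x ∈ M, Iso B x → ∀ a d, (∀ k, k ≠ d → B (e k) (x (e a)) = 0) → Mono B e x

variable {B : V →ₛₗ[σ] V →ₗ[F] F} {e : Basis ι F V} {M : Subgroup (V ≃ₗ[F] V)}

theorem MonHyp.diag_mem (H : MonHyp B e M) (θ : ι → F) (h : ∀ i, θ i * σ (θ i) = 1) (hp : ∏ i, θ i = 1) :
    ∃ t ∈ M, Iso B t ∧ ∀ i, t (e i) = θ i • e i := by
  obtain ⟨t, hti, ht, htd⟩ := exists_diag H.onb θ h
  exact ⟨t, H.mono_mem t hti (htd.trans hp) (mono_of_apply H.onb (π := 1) ht), hti, ht⟩

theorem MonHyp.conj_small [DecidableEq V] (H : MonHyp B e M) {g t : V ≃ₗ[F] V} (hg : Iso B g) {θ : ι → F}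
    (ht : ∀ i, t (e i) = θ i • e i) (P : Finset ι) (hP : ∀ i, i ∉ P → θ i = 1) (x : V) :
    (g * t * g⁻¹) x - x ∈ Submodule.span F (((P.image fun i => g (e i)) : Finset V) : Set V) := by
  classical
  rw [conj_diag' H.onb hg ht]
  refine Submodule.sum_mem _ fun i _ => ?_
  by_cases hi : i ∈ P
  · exact Submodule.smul_mem _ _ (Submodule.subset_span (Finset.mem_image_of_mem (fun i => g (e i)) hi))
  · rw [hP i hi, sub_self, zero_mul, zero_smul]; exact Submodule.zero_mem _

theorem MonHyp.conj_fix (H : MonHyp B e M) {g t : V ≃ₗ[F] V} (hg : Iso B g) {θ : ι → F}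
    (ht : ∀ i, t (e i) = θ i • e i) {v : V} (hv : ∀ i, θ i ≠ 1 → B (g (e i)) v = 0) : (g * t * g⁻¹) v = v := by
  refine sub_eq_zero.1 ?_
  rw [conj_diag' H.onb hg ht]
  refine Finset.sum_eq_zero fun i _ => ?_
  by_cases hi : θ i = 1
  · rw [hi, sub_self, zero_mul, zero_smul]
  · rw [hv i hi, mul_zero, zero_smul]

/-- the pair weighting -/
def pairW (k l : ι) (ζ : F) : ι → F := fun i => if i = k then ζ else if i = l then σ' ζ else 1
where σ' (ζ : F) : F := ζ⁻¹

theorem pairW_nrm {k l : ι} {ζ : F} (hζ : ζ * σ ζ = 1) (i : ι) : pairW k l ζ i * σ (pairW k l ζ i) = 1 := by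
  unfold pairW pairW.σ'
  split_ifs
  · exact hζ
  · exact nrm_inv hζ
  · simp

omit [Fintype F] [DecidableEq F] in
theorem pairW_prod {k l : ι} (hkl : k ≠ l) {ζ : F} (hζ : ζ ≠ 0) : ∏ i, pairW k l ζ i = 1 := by
  rw [Fintype.prod_eq_mul k l hkl fun i hi => by simp [pairW, hi.1, hi.2]]
  simp [pairW, pairW.σ', hkl.symm, hζ]

variable (H : MonHyp B e M) (NF : NoFix B e M)
include H NF

/-- no row is short -/
theorem row_long {g : V ≃ₗ[F] V} (hgM : g ∈ M) (hg : Iso B g) (hgm : ¬ Mono B e g) (b : ι) (S : Finset ι)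
    (hS : S.card ≤ 4) (hsupp : ∀ i, i ∉ S → B (g (e i)) (e b) = 0) : False := by
  classical
  have hon := H.onb
  obtain ⟨ζ, hζ, hζ1, hζ2⟩ := exists_zeta (σ := σ) H.herm.toIsInvol
  have hζ0 := nrm_ne_zero hζ
  set Z := Finset.univ \ S
  have hZ : 6 ≤ Z.card := by
    have := Finset.le_card_sdiff S Finset.univ
    rw [Finset.card_univ] at this
    have := H.big
    show 6 ≤ (Finset.univ \ S).card
    omega
  have hZm : ∀ i ∈ Z, B (g (e i)) (e b) = 0 := fun i hi => hsupp i (Finset.mem_sdiff.1 hi).2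
  -- the common support
  have key : ∀ k ∈ Z, ∀ l ∈ Z, k ≠ l → ∃ N : Finset ι, N.card ≤ 4 ∧
      (∀ i, B (e i) (g (e k)) ≠ 0 ↔ i ∈ N) ∧ (∀ i, B (e i) (g (e l)) ≠ 0 ↔ i ∈ N) := by
    intro k hk l hl hkl
    obtain ⟨t, htM, hti, ht⟩ := H.diag_mem (pairW k l ζ) (fun i => pairW_nrm hζ i) (pairW_prod hkl hζ0)
    set x := g * t * g⁻¹
    have hxi : Iso B x := (hg.mul hti).mul hg.inv
    have hxM : x ∈ M := mul_mem (mul_mem hgM htM) (inv_mem hgM)
    have hxb : x (e b) = e b := H.conj_fix hg ht fun i hi => by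
      refine hZm i ?_
      by_contra hiZ
      exact hi (by simp [pairW, show i ≠ k from fun h => hiZ (h ▸ hk), show i ≠ l from fun h => hiZ (h ▸ hl)])
    obtain ⟨π, φ, hφ⟩ := Mono.apply' hon (NF x hxM hxi b b fun i hi => by rw [hxb, hon, if_neg hi])
    have hN : (moved e x).card ≤ 2 * 2 := (card_moved_le hon hφ (({k, l} : Finset ι).image fun i => g (e i))
      fun y => H.conj_small hg ht {k, l} (fun i hi => by
        simp only [Finset.mem_insert, Finset.mem_singleton, not_or] at hi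
        simp [pairW, hi]) y).trans (Nat.mul_le_mul_left 2 (Finset.card_image_le.trans Finset.card_le_two))
    have hxf : ∀ i, x (g (e i)) = pairW k l ζ i • g (e i) := fun i => by
      simp only [x, LinearEquiv.mul_apply, inv_apply, ht, map_smul]
    have hek : pairW k l ζ k = ζ := by simp [pairW]
    have hel : pairW k l ζ l = ζ⁻¹ := by simp [pairW, pairW.σ', hkl.symm]
    have claim : ∀ (p r : ι) (ω : F), p ∈ ({k, l} : Finset ι) → r ∈ ({k, l} : Finset ι) → p ≠ r →
        pairW k l ζ r = ω → ω ≠ 1 → ω ≠ -1 → ∀ a ∈ moved e x, B (g (e p)) (e a) ≠ 0 := by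
      intro p r ω hp hr hpr hω hω1 hω2 a ha h0
      set v := x (e a) - e a with hv
      have hvr : v = ((ω - 1) * B (g (e r)) (e a)) • g (e r) := by
        rw [hv, conj_diag' hon hg ht, Finset.sum_eq_single r (fun i _ hi => ?_) (fun h => absurd (Finset.mem_univ r) h), hω]
        by_cases hip : i = p
        · rw [hip, h0, mul_zero, zero_smul]
        · have : pairW k l ζ i = 1 := by
            simp only [Finset.mem_insert, Finset.mem_singleton] at hp hr
            rcases hp with rfl | rfl <;> rcases hr with rfl | rfl <;> first | exact absurd rfl hpr | simp [pairW, hi, hip]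
          rw [this, sub_self, zero_mul, zero_smul]
      have hxv : x v = ω • v := by rw [hvr, map_smul, hxf, hω, smul_comm]
      by_cases hπ : π a = a
      · have hne : φ a - 1 ≠ 0 := fun h => mem_moved.1 ha (by rw [hφ, hπ, sub_eq_zero.1 h, one_smul])
        have hva : v = (φ a - 1) • e a := by rw [hv, hφ, hπ, sub_smul, one_smul]
        refine hgm (NF g hgM hg r a fun i hi => ?_)
        have h3 := congrArg (B (e i)) (hvr.symm.trans hva)
        rw [co_single hon, if_neg hi, map_smul, smul_eq_mul] at h3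
        refine (mul_eq_zero.1 h3).resolve_left fun h4 => hne ?_
        have h5 := congrArg (B (e a)) hva
        rw [hvr, h4, zero_smul, map_zero, co_single hon, if_pos rfl] at h5
        exact h5.symm
      · have h1 := congrArg (B (e (π a))) hxv
        have h2 : π (π a) ≠ π a := fun h => hπ (π.injective h)
        simp only [hv, hφ, map_sub, map_smul, smul_eq_mul, co_single hon, hon _ _, h2, hπ, Ne.symm h2, if_false, if_true,
          mul_zero, sub_zero, zero_sub, mul_one] at h1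
        have hφ0 := nrm_ne_zero (mono_coef hon hxi hφ a)
        exact hω2 (mul_right_cancel₀ hφ0 (by linear_combination -h1))
    have hsub : ∀ p, pairW k l ζ p ≠ 1 → ∀ i, B (e i) (g (e p)) ≠ 0 → i ∈ moved e x := fun p hp i hi => by
      by_contra hin
      have h := co_moved hon hφ (g (e p)) hin
      rw [hxf, map_sub, map_smul, smul_eq_mul] at h
      exact hp (mul_right_cancel₀ hi (by linear_combination h))
    have hflip : ∀ p i, B (g (e p)) (e i) ≠ 0 ↔ B (e i) (g (e p)) ≠ 0 := fun p i => not_congr (Herm.eq_zero_comm H.herm)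
    have hinv1 : ζ⁻¹ ≠ 1 := fun h => hζ1 (inv_eq_one.1 h)
    have hn1 : ζ ≠ -1 := fun h => hζ2 (by rw [h]; ring)
    have hn2 : ζ⁻¹ ≠ -1 := fun h => hn1 (by rw [← inv_inv ζ, h, inv_neg_one])
    refine ⟨moved e x, hN, fun i => ⟨hsub k (hek.symm ▸ hζ1) i, fun hi => (hflip k i).1
      (claim k l ζ⁻¹ (by simp) (by simp) hkl hel hinv1 hn2 i hi)⟩, fun i => ⟨hsub l (hel.symm ▸ hinv1) i, fun hi => (hflip l i).1
      (claim l k ζ (by simp) (by simp) hkl.symm hek hζ1 hn1 i hi)⟩⟩
  obtain ⟨k, hk⟩ := Finset.card_pos.1 (show 0 < Z.card by omega)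
  obtain ⟨l0, hl0, hl0k⟩ := Finset.exists_mem_ne (show 1 < Z.card by omega) k
  obtain ⟨N, hN, hNk, -⟩ := key k hk l0 hl0 (Ne.symm hl0k)
  have hle : Submodule.span F ((fun i => g (e i)) '' ((Z.erase k : Finset ι) : Set ι)) ≤
      Submodule.span F (((N.image e : Finset V)) : Set V) := by
    refine Submodule.span_le.2 ?_
    rintro _ ⟨l, hl, rfl⟩
    rw [Finset.mem_coe, Finset.mem_erase] at hl
    obtain ⟨N', -, hk', hl'⟩ := key k hk l hl.2 (Ne.symm hl.1)
    show g (e l) ∈ Submodule.span F (((N.image e : Finset V)) : Set V)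
    rw [← expand hon (g (e l))]
    refine Submodule.sum_mem _ fun i _ => ?_
    by_cases h0 : B (e i) (g (e l)) = 0
    · rw [h0, zero_smul]; exact Submodule.zero_mem _
    · exact Submodule.smul_mem _ _ (Submodule.subset_span
        (Finset.mem_image_of_mem e ((hNk i).1 ((hk' i).2 ((hl' i).1 h0)))))
  have h := (Submodule.finrank_mono hle).trans ((finrank_span_finset_le_card _).trans Finset.card_image_le)
  rw [card_span_image, Finset.card_erase_of_mem hk] at h
  omega

/-- no column has two zeros -/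
theorem col_one {g : V ≃ₗ[F] V} (hgM : g ∈ M) (hg : Iso B g) (hgm : ¬ Mono B e g) (j b c : ι) (hbc : b ≠ c)
    (hb : B (e b) (g (e j)) = 0) (hc : B (e c) (g (e j)) = 0) : False := by
  classical
  have hon := H.onb
  obtain ⟨ζ, hζ, hζ1, -⟩ := exists_zeta (σ := σ) H.herm.toIsInvol
  obtain ⟨t, htM, hti, ht⟩ := H.diag_mem (pairW b c ζ) (fun i => pairW_nrm hζ i) (pairW_prod hbc (nrm_ne_zero hζ))
  set x := g⁻¹ * t * g⁻¹⁻¹
  have hxi : Iso B x := (hg.inv.mul hti).mul hg.inv.inv
  have hxj : x (e j) = e j := H.conj_fix hg.inv ht fun i hi => by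
    rw [← hg.adj]
    by_cases h1 : i = b
    · exact h1 ▸ hb
    by_cases h2 : i = c
    · exact h2 ▸ hc
    exact absurd (by simp [pairW, h1, h2]) hi
  obtain ⟨π, φ, hφ⟩ := Mono.apply' hon
    (NF x (mul_mem (mul_mem (inv_mem hgM) htM) (inv_mem (inv_mem hgM))) hxi j j fun i hi => by rw [hxj, hon, if_neg hi])
  have hN : (moved e x).card ≤ 2 * 2 := (card_moved_le hon hφ (({b, c} : Finset ι).image fun i => g⁻¹ (e i))
    fun y => H.conj_small hg.inv ht {b, c} (fun i hi => by
      simp only [Finset.mem_insert, Finset.mem_singleton, not_or] at hi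
      simp [pairW, hi]) y).trans (Nat.mul_le_mul_left 2 (Finset.card_image_le.trans Finset.card_le_two))
  refine row_long H NF hgM hg hgm b (moved e x) hN fun i hi => ?_
  have h := co_moved hon hφ (g⁻¹ (e b)) hi
  rw [show x (g⁻¹ (e b)) = ζ • g⁻¹ (e b) by
    simp only [x, LinearEquiv.mul_apply, inv_apply, ht, map_smul]; simp [pairW], map_sub, map_smul, smul_eq_mul] at h
  have h0 : B (e i) (g⁻¹ (e b)) = 0 := by
    by_contra h0; exact hζ1 (mul_right_cancel₀ h0 (by linear_combination h))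
  rw [hg.inv.adj, inv_inv] at h0
  exact h0

/-- no row has two zeros -/
theorem row_one {g : V ≃ₗ[F] V} (hgM : g ∈ M) (hg : Iso B g) (hgm : ¬ Mono B e g) (b i j : ι) (hij : i ≠ j)
    (hi : B (e b) (g (e i)) = 0) (hj : B (e b) (g (e j)) = 0) : False := by
  refine col_one H NF (inv_mem hgM) hg.inv (fun h => hgm (by simpa using Mono.inv' H.onb h)) b i j hij ?_ ?_
  · rw [hg.inv.adj, inv_inv]; exact (Herm.eq_zero_comm H.herm).1 hi
  · rw [hg.inv.adj, inv_inv]; exact (Herm.eq_zero_comm H.herm).1 hj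

/-- weights with vanishing sum on a set of at least four indices -/
theorem zero_sum (c : ι → F) (S : Finset ι) (hS : 4 ≤ S.card) (hc : ∀ i ∈ S, c i ≠ 0) :
    ∃ θ : ι → F, (∀ i, θ i * σ (θ i) = 1) ∧ (∀ i, i ∉ S → θ i = 1) ∧ ∑ i ∈ S, θ i * c i = 0 := by
  obtain ⟨S', hsub, hS'⟩ := Finset.exists_subset_card_eq hS
  obtain ⟨θ, hθ, hout, hsum, -⟩ := exists_weights (σ := σ) H.herm.toIsInvol hS' c (fun i hi => hc i (hsub hi))
    (-∑ i ∈ S \ S', c i)
  refine ⟨θ, hθ, fun i hi => hout i fun h => hi (hsub h), ?_⟩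
  rw [← Finset.sum_sdiff hsub, hsum, Finset.sum_congr rfl fun i hi => by rw [hout i (Finset.mem_sdiff.1 hi).2, one_mul],
    add_neg_cancel]

/-- some element has a zero entry -/
theorem exists_zero {g : V ≃ₗ[F] V} (hgM : g ∈ M) (hg : Iso B g) (hgm : ¬ Mono B e g) :
    ∃ g' ∈ M, Iso B g' ∧ ¬ Mono B e g' ∧ ∃ b j, B (e b) (g' (e j)) = 0 := by
  classical
  by_cases hz : ∃ b j, B (e b) (g (e j)) = 0
  · exact ⟨g, hgM, hg, hgm, hz⟩
  push Not at hz
  have hon := H.onb
  rcases H.parity with hev | hbig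
  · exact exists_zero_even H.herm hon H.mono_mem hev H.big hgM hg hz
  obtain ⟨a, b, hab⟩ := Fintype.exists_pair_of_one_lt_card (show 1 < Fintype.card ι by omega)
  let c : ι → F := fun i => B (g (e i)) (e a) * B (e b) (g (e i))
  have hc : ∀ i, c i ≠ 0 := fun i => mul_ne_zero (fun h => hz a i ((Herm.eq_zero_comm H.herm).1 h)) (hz b i)
  -- the three groups
  obtain ⟨n1, u, w, hn1, hn1', hn2, hn3, huw⟩ : ∃ n1 u w : ℕ, (n1 = 5 ∨ n1 = 7) ∧ 4 + n1 + 4 ≤ Fintype.card ι ∧
      Fintype.card ι ≠ 2 * n1 ∧ Fintype.card ι ≠ 2 * (4 + n1) ∧ 4 * u + 1 = n1 * w := by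
    by_cases h18 : Fintype.card ι = 18
    · exact ⟨7, 5, 3, Or.inr rfl, by omega, by omega, by omega, rfl⟩
    · exact ⟨5, 1, 1, Or.inl rfl, by omega, by omega, by omega, rfl⟩
  obtain ⟨S1, -, hS1⟩ := Finset.exists_subset_card_eq (show 4 ≤ (Finset.univ : Finset ι).card by rw [Finset.card_univ]; omega)
  obtain ⟨S2, hS2sub, hS2⟩ := Finset.exists_subset_card_eq (show n1 ≤ (Finset.univ \ S1).card by
    rw [Finset.card_sdiff_of_subset (Finset.subset_univ _), Finset.card_univ, hS1]; omega)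
  have hd : Disjoint S1 S2 := Finset.disjoint_left.2 fun i hi hi' => (Finset.mem_sdiff.1 (hS2sub hi')).2 hi
  have h12 : (S1 ∪ S2).card = 4 + n1 := by rw [Finset.card_union_of_disjoint hd, hS1, hS2]
  set S3 := Finset.univ \ (S1 ∪ S2)
  have hS3 : S3.card = Fintype.card ι - (4 + n1) := by
    rw [Finset.card_sdiff_of_subset (Finset.subset_univ _), Finset.card_univ, h12]
  obtain ⟨θ1, hθ1, ho1, hs1⟩ := zero_sum H NF c S1 (by omega) (fun i _ => hc i)
  obtain ⟨θ2, hθ2, ho2, hs2⟩ := zero_sum H NF c S2 (by omega) (fun i _ => hc i)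
  obtain ⟨θ3, hθ3, ho3, hs3⟩ := zero_sum H NF c S3 (by omega) (fun i _ => hc i)
  let gr : F → F → ι → F := fun x y i => if i ∈ S1 then x else if i ∈ S2 then y else 1
  have grp : ∀ x y : F, ∏ i, gr x y i = x ^ 4 * y ^ n1 := fun x y => by
    have q1 : ∏ i ∈ S1, gr x y i = x ^ 4 := by
      rw [← hS1, ← Finset.prod_const]; exact Finset.prod_congr rfl fun i hi => by simp [gr, hi]
    have q2 : ∏ i ∈ S2, gr x y i = y ^ n1 := by
      rw [← hS2, ← Finset.prod_const]
      exact Finset.prod_congr rfl fun i hi => by simp [gr, hi, Finset.disjoint_right.1 hd hi]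
    have q3 : ∏ i ∈ Finset.univ \ (S1 ∪ S2), gr x y i = 1 := Finset.prod_eq_one fun i hi => by
      simp only [Finset.mem_sdiff, Finset.mem_union, not_or] at hi
      simp [gr, hi.2.1, hi.2.2]
    rw [← Finset.prod_sdiff (Finset.subset_univ (S1 ∪ S2)), Finset.prod_union hd, q1, q2, q3, one_mul]
  have grn : ∀ x y : F, x * σ x = 1 → y * σ y = 1 → ∀ i, gr x y i * σ (gr x y i) = 1 := fun x y hx hy i => by
    simp only [gr]; split_ifs <;> simp [*]
  set P := ∏ i, θ1 i * θ2 i * θ3 i
  have hP : P * σ P = 1 := nrm_prod _ fun i _ => nrm_mul (nrm_mul (hθ1 i) (hθ2 i)) (hθ3 i)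
  let θ : ι → F := fun i => θ1 i * θ2 i * θ3 i * gr (P ^ u) (P⁻¹ ^ w) i
  have hθn : ∀ i, θ i * σ (θ i) = 1 := fun i => nrm_mul (nrm_mul (nrm_mul (hθ1 i) (hθ2 i)) (hθ3 i))
    (grn _ _ (nrm_pow hP u) (nrm_pow (nrm_inv hP) w) i)
  have hθp : ∏ i, θ i = 1 := by
    show ∏ i, θ1 i * θ2 i * θ3 i * gr (P ^ u) (P⁻¹ ^ w) i = 1
    rw [Finset.prod_mul_distrib, grp, ← pow_mul, ← pow_mul]
    show P * _ = 1
    rw [inv_pow, ← mul_assoc, mul_comm w, ← huw, mul_comm u, ← pow_succ']
    exact mul_inv_cancel₀ (pow_ne_zero _ (nrm_ne_zero hP))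
  -- the second choice differs by a block scalar
  obtain ⟨ζ, hζ, hζ1, -⟩ := exists_zeta (σ := σ) H.herm.toIsInvol
  have hζ0 := nrm_ne_zero hζ
  let ψ : ι → F := gr (ζ ^ n1) (ζ⁻¹ ^ 4)
  have hψn : ∀ i, ψ i * σ (ψ i) = 1 := grn _ _ (nrm_pow hζ n1) (nrm_pow (nrm_inv hζ) 4)
  have hψp : ∏ i, ψ i = 1 := by
    show ∏ i, gr _ _ i = 1
    rw [grp, inv_pow, inv_pow, ← pow_mul, ← pow_mul, mul_comm n1 4]
    exact mul_inv_cancel₀ (pow_ne_zero _ hζ0)
  have hzero : ∀ τ : ι → F, (∀ i, τ i = θ i ∨ τ i = θ i * ψ i) → ((∀ i, τ i = θ i) ∨ ∀ i, τ i = θ i * ψ i) →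
      ∑ i, τ i * c i = 0 := by
    intro τ _ hτ
    have hgen : ∀ x y, ∑ i, θ1 i * θ2 i * θ3 i * gr x y i * c i = 0 := fun x y => by
      rw [← Finset.sum_sdiff (Finset.subset_univ (S1 ∪ S2)), Finset.sum_union hd]
      have e1 : ∑ i ∈ S1, θ1 i * θ2 i * θ3 i * gr x y i * c i = x * ∑ i ∈ S1, θ1 i * c i := by
        rw [Finset.mul_sum]; refine Finset.sum_congr rfl fun i hi => ?_
        rw [ho2 i (Finset.disjoint_left.1 hd hi), ho3 i (by simp [S3, hi])]
        simp [gr, hi]; ring
      have e2 : ∑ i ∈ S2, θ1 i * θ2 i * θ3 i * gr x y i * c i = y * ∑ i ∈ S2, θ2 i * c i := by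
        rw [Finset.mul_sum]; refine Finset.sum_congr rfl fun i hi => ?_
        rw [ho1 i (Finset.disjoint_right.1 hd hi), ho3 i (by simp [S3, hi])]
        simp [gr, hi, Finset.disjoint_right.1 hd hi]; ring
      have e3 : ∑ i ∈ S3, θ1 i * θ2 i * θ3 i * gr x y i * c i = ∑ i ∈ S3, θ3 i * c i := by
        refine Finset.sum_congr rfl fun i hi => ?_
        simp only [S3, Finset.mem_sdiff, Finset.mem_union, not_or] at hi
        simp [gr, hi.2.1, hi.2.2, ho1 i hi.2.1, ho2 i hi.2.2]
      rw [show Finset.univ \ (S1 ∪ S2) = S3 from rfl, e1, e2, e3, hs1, hs2, hs3, mul_zero, mul_zero, add_zero, add_zero]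
    rcases hτ with h | h
    · simp only [h]; exact hgen _ _
    · have e : ∀ i, τ i * c i = θ1 i * θ2 i * θ3 i * gr (P ^ u * ζ ^ n1) (P⁻¹ ^ w * ζ⁻¹ ^ 4) i * c i := fun i => by
        rw [h]; simp only [θ, ψ, gr]; split_ifs <;> ring
      simp only [e]; exact hgen _ _
  obtain ⟨t, htM, hti, ht⟩ := H.diag_mem θ hθn hθp
  obtain ⟨s, hsM, hsi, hs⟩ := H.diag_mem ψ hψn hψp
  have hts : ∀ i, (t * s) (e i) = (θ i * ψ i) • e i := fun i => by
    rw [LinearEquiv.mul_apply, hs, map_smul, ht, smul_smul, mul_comm]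
  have hent : ∀ (t' : V ≃ₗ[F] V) (τ : ι → F), (∀ i, t' (e i) = τ i • e i) →
      B (e b) ((g * t' * g⁻¹) (e a)) = ∑ i, τ i * c i := fun t' τ ht' => by
    rw [conj_diag hon hg ht', map_sum]
    exact Finset.sum_congr rfl fun i _ => by rw [map_smul, smul_eq_mul]; simp only [c]; ring
  by_cases h1 : Mono B e (g * t * g⁻¹)
  swap
  · exact ⟨_, mul_mem (mul_mem hgM htM) (inv_mem hgM), (hg.mul hti).mul hg.inv, h1, b, a,
      (hent t θ ht).trans (hzero θ (fun _ => Or.inl rfl) (Or.inl fun _ => rfl))⟩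
  by_cases h2 : Mono B e (g * (t * s) * g⁻¹)
  swap
  · exact ⟨_, mul_mem (mul_mem hgM (mul_mem htM hsM)) (inv_mem hgM), (hg.mul (hti.mul hsi)).mul hg.inv, h2, b, a,
      (hent _ _ hts).trans (hzero (fun i => θ i * ψ i) (fun _ => Or.inr rfl) (Or.inr fun _ => rfl))⟩
  exfalso
  have h3 : Mono B e (g * s * g⁻¹) := by
    have := Mono.mul' hon (Mono.inv' hon h1) h2
    rwa [show (g * t * g⁻¹)⁻¹ * (g * (t * s) * g⁻¹) = g * s * g⁻¹ by group] at this
  have hm := mult_eq hon hs h3 hz
  obtain ⟨i1, hi1⟩ := Finset.card_pos.1 (show 0 < S1.card by omega)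
  obtain ⟨i2, hi2⟩ := Finset.card_pos.1 (show 0 < S2.card by omega)
  obtain ⟨i3, hi3⟩ := Finset.card_pos.1 (show 0 < S3.card by omega)
  set A := ζ ^ n1
  set A' := ζ⁻¹ ^ 4
  have hi3' : i3 ∉ S1 ∧ i3 ∉ S2 := by simpa [S3] using hi3
  have v1 : ψ i1 = A := by simp [ψ, gr, hi1, A]
  have v2 : ψ i2 = A' := by simp [ψ, gr, hi2, Finset.disjoint_right.1 hd hi2, A']
  have v3 : ψ i3 = 1 := by simp [ψ, gr, hi3'.1, hi3'.2]
  have hcl : ∀ v : F, ∀ l, ψ l = v ↔ (l ∈ S1 ∧ A = v) ∨ (l ∈ S2 ∧ A' = v) ∨ (l ∈ S3 ∧ 1 = v) := fun v l => by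
    by_cases a1 : l ∈ S1
    · simp [ψ, gr, a1, A, S3, Finset.disjoint_left.1 hd a1]
    by_cases a2 : l ∈ S2
    · simp [ψ, gr, a1, a2, A', S3]
    · simp [ψ, gr, a1, a2, S3]
  have hA : A = 1 → A' ≠ 1 := fun e1 e2 => by
    refine hζ1 ?_
    have e3 : ζ ^ (4 * u + 1) = 1 := by rw [huw, pow_mul]; show A ^ w = 1; rw [e1, one_pow]
    have e4 : ζ ^ 4 = 1 := by rw [← inv_eq_one, ← inv_pow]; exact e2
    rwa [pow_succ, pow_mul, e4, one_pow, one_mul] at e3
  have cnt : ∀ (i : ι) (X : Finset ι), (∀ l, ψ l = ψ i ↔ l ∈ X) → (Finset.univ.filter fun l => ψ l = ψ i).card = X.card :=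
    fun i X h => congrArg Finset.card (Finset.ext fun l => by simp [h l])
  by_cases c1 : A = 1
  · have c2 := hA c1
    have := hm i1 i2
    rw [cnt i1 (S1 ∪ S3) (fun l => by rw [v1, hcl A l, Finset.mem_union]; simp [c1, c2]),
      cnt i2 S2 (fun l => by rw [v2, hcl A' l]; simp [c1, Ne.symm c2]),
      Finset.card_union_of_disjoint (Finset.disjoint_left.2 fun i h h' => (Finset.mem_sdiff.1 h').2 (Finset.mem_union_left _ h)),
      hS1, hS2, hS3] at this
    omega
  by_cases c2 : A' = 1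
  · have := hm i1 i2
    rw [cnt i1 S1 (fun l => by rw [v1, hcl A l]; simp [c2, Ne.symm c1]),
      cnt i2 (S2 ∪ S3) (fun l => by rw [v2, hcl A' l, Finset.mem_union]; simp [c1, c2]),
      Finset.card_union_of_disjoint (Finset.disjoint_left.2 fun i h h' => (Finset.mem_sdiff.1 h').2 (Finset.mem_union_right _ h)),
      hS1, hS2, hS3] at this
    omega
  by_cases c3 : A = A'
  · have := hm i1 i3
    rw [cnt i1 (S1 ∪ S2) (fun l => by rw [v1, hcl A l, Finset.mem_union]; simp [← c3, Ne.symm c1]),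
      cnt i3 S3 (fun l => by rw [v3, hcl 1 l]; simp [c1, c2]), h12, hS3] at this
    omega
  · have := hm i1 i2
    rw [cnt i1 S1 (fun l => by rw [v1, hcl A l]; simp [Ne.symm c1, Ne.symm c3]),
      cnt i2 S2 (fun l => by rw [v2, hcl A' l]; simp [c3, Ne.symm c2]), hS1, hS2] at this
    omega

/-- a single zero leads to a contradiction -/
theorem zero_false {g : V ≃ₗ[F] V} (hgM : g ∈ M) (hg : Iso B g) (hgm : ¬ Mono B e g) {b j : ι}
    (hbj : B (e b) (g (e j)) = 0) : False := by
  classical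
  have hon := H.onb
  have hB := H.herm
  have hσ := hB.toIsInvol
  have hL : ∀ i, i ≠ b → B (e i) (g (e j)) ≠ 0 := fun i hi h => col_one H NF hgM hg hgm j i b hi h hbj
  set n := Fintype.card ι
  have hn := H.big
  by_cases hlam : ∃ l : F, l * σ l = 1 ∧ l ^ n ≠ 1
  · obtain ⟨l, hl, hln⟩ := hlam
    have hl0 := nrm_ne_zero hl
    let θ : ι → F := fun i => if i = b then l * (l ^ n)⁻¹ else l
    have hθn : ∀ i, θ i * σ (θ i) = 1 := fun i => by
      simp only [θ]; split_ifs
      · exact nrm_mul hl (nrm_inv (nrm_pow hl n))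
      · exact hl
    have hθp : ∏ i, θ i = 1 := by
      have : ∀ i, θ i = l * if i = b then (l ^ n)⁻¹ else 1 := fun i => by simp only [θ]; split_ifs <;> simp
      rw [Finset.prod_congr rfl fun i _ => this i, Finset.prod_mul_distrib, Finset.prod_ite_eq', Finset.prod_const,
        if_pos (Finset.mem_univ b), Finset.card_univ, mul_inv_cancel₀ (pow_ne_zero _ hl0)]
    obtain ⟨t, htM, hti, ht⟩ := H.diag_mem θ hθn hθp
    set x := g⁻¹ * t * g⁻¹⁻¹
    have hxi : Iso B x := (hg.inv.mul hti).mul hg.inv.inv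
    have htL : t (g (e j)) = l • g (e j) := ext_co hon fun i => by
      rw [co_diag hon ht, map_smul, smul_eq_mul]
      by_cases hi : i = b
      · rw [hi, hbj, mul_zero, mul_zero]
      · simp [θ, hi]
    have hxj : x (e j) = l • e j := by
      simp only [x, inv_inv, LinearEquiv.mul_apply, htL, map_smul, inv_apply]
    obtain ⟨π, φ, hφ⟩ := Mono.apply' hon
      (NF x (mul_mem (mul_mem (inv_mem hgM) htM) (inv_mem (inv_mem hgM))) hxi j j fun i hi => by
        rw [hxj, co_single hon, if_neg hi])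
    let θ' : ι → F := fun i => θ i * l⁻¹
    obtain ⟨t', -, ht', -⟩ := exists_diag hon θ' fun i => nrm_mul (hθn i) (nrm_inv hl)
    set y := g⁻¹ * t' * g⁻¹⁻¹
    have hy : ∀ v, y v = l⁻¹ • x v := fun v => by
      rw [conj_diag hon hg.inv ht', conj_diag hon hg.inv ht, Finset.smul_sum]
      exact Finset.sum_congr rfl fun i _ => by rw [smul_smul]; simp only [θ']; congr 1; ring
    have hφ' : ∀ i, y (e i) = (l⁻¹ * φ i) • e (π i) := fun i => by rw [hy, hφ, smul_smul]
    have hN : (moved e y).card ≤ 2 * 1 := (card_moved_le hon hφ' (({b} : Finset ι).image fun i => g⁻¹ (e i))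
      fun v => H.conj_small hg.inv ht' {b} (fun i hi => by
        rw [Finset.mem_singleton] at hi; simp [θ', θ, hi, hl0]) v).trans
      (Nat.mul_le_mul_left 2 (Finset.card_image_le.trans (by simp)))
    refine row_long H NF hgM hg hgm b (moved e y) (by omega) fun i hi => ?_
    have h := co_moved hon hφ' (g⁻¹ (e b)) hi
    rw [show y (g⁻¹ (e b)) = θ' b • g⁻¹ (e b) by
      simp only [y, LinearEquiv.mul_apply, inv_apply, ht', map_smul], map_sub, map_smul, smul_eq_mul] at h
    have h1 : θ' b ≠ 1 := by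
      simp only [θ', θ, if_true]
      rw [mul_right_comm, mul_inv_cancel₀ hl0, one_mul]
      exact fun h => hln (inv_eq_one.1 h)
    have h0 : B (e i) (g⁻¹ (e b)) = 0 := by
      by_contra h0; exact h1 (mul_right_cancel₀ h0 (by linear_combination h))
    rw [hg.inv.adj, inv_inv] at h0
    exact h0
  push Not at hlam
  have hq : qq σ + 1 ≤ n := by
    rw [← card_U hσ]
    have hsub : U σ ⊆ (Polynomial.nthRoots n (1 : F)).toFinset := fun l hl => by
      rw [Multiset.mem_toFinset, Polynomial.mem_nthRoots (by omega)]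
      exact hlam l (mem_U.1 hl)
    exact (Finset.card_le_card hsub).trans ((Multiset.toFinset_card_le _).trans (Polynomial.card_nthRoots n 1))
  obtain ⟨a, ha, c, hc, hac, hnorm⟩ := Finset.exists_ne_map_eq_of_card_lt_of_maps_to
    (s := Finset.univ.erase b) (t := (Finset.univ.filter fun r : F => σ r = r).erase 0)
    (f := fun i => B (e i) (g (e j)) * σ (B (e i) (g (e j)))) (by
      rw [Finset.card_erase_of_mem (by simp), Finset.card_erase_of_mem (Finset.mem_univ b), Finset.card_univ,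
        show (Finset.univ.filter fun r : F => σ r = r).card = qq σ from
          (Nat.card_eq_finsetCard _).symm.trans (Nat.card_congr (Equiv.subtypeEquivRight fun r => by simp [Herm.mem_fixField]))]
      have := two_le_qq (σ := σ)
      omega) (fun i hi => by
      simp only [Finset.coe_erase, Set.mem_diff, Finset.mem_coe, Finset.mem_univ, Set.mem_singleton_iff, true_and] at hi
      simp only [Finset.coe_erase, Set.mem_diff, Finset.mem_coe, Finset.mem_filter, Finset.mem_univ, Set.mem_singleton_iff, true_and]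
      exact ⟨nrm_fix hσ _, mul_ne_zero (hL i hi) ((map_ne_zero σ).2 (hL i hi))⟩)
  rw [Finset.mem_erase] at ha hc
  set La := B (e a) (g (e j))
  set Lc := B (e c) (g (e j))
  have hLa : La ≠ 0 := hL a ha.1
  have hLc : Lc ≠ 0 := hL c hc.1
  set ψ := Lc / La
  have hψ : ψ * σ ψ = 1 := by
    rw [map_div₀, div_mul_div_comm, div_eq_one_iff_eq (mul_ne_zero hLa ((map_ne_zero σ).2 hLa))]
    exact hnorm.symm
  obtain ⟨h, δ, hδ, hhi, hhd, hh⟩ := exists_mon hon hB (Equiv.swap a c)
    (fun i => if i = a then ψ else if i = c then ψ⁻¹ else 1)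
    (fun i => by split_ifs; exacts [hψ, nrm_inv hψ, by simp]) b
  have hha : h (e a) = ψ • e c := by simp [hh, ha.1]
  have hhc : h (e c) = ψ⁻¹ • e a := by simp [hh, hc.1, hac.symm]
  have hhb : h (e b) = δ • e b := by simp [hh, ha.1.symm, hc.1.symm, Equiv.swap_apply_of_ne_of_ne]
  have hho : ∀ i, i ≠ a → i ≠ c → i ≠ b → h (e i) = e i := fun i h1 h2 h3 => by
    simp [hh, h1, h2, h3, Equiv.swap_apply_of_ne_of_ne]
  have hhM : h ∈ M := H.mono_mem h hhi hhd (mono_of_apply hon hh)
  have hhL : h (g (e j)) = g (e j) := by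
    conv_rhs => rw [← expand hon (g (e j))]
    conv_lhs => rw [← expand hon (g (e j)), map_sum]
    rw [← Equiv.sum_comp (Equiv.swap a c) (fun i => B (e i) (g (e j)) • e i)]
    refine Finset.sum_congr rfl fun i _ => ?_
    rw [map_smul]
    by_cases h1 : i = a
    · subst h1; rw [hha, Equiv.swap_apply_left, smul_smul, mul_div_cancel₀ _ hLa]
    by_cases h2 : i = c
    · subst h2; rw [hhc, Equiv.swap_apply_right, smul_smul]
      congr 1
      show Lc * (Lc / La)⁻¹ = La
      field_simp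
    rw [Equiv.swap_apply_of_ne_of_ne h1 h2]
    by_cases h3 : i = b
    · subst h3; rw [hbj]; simp
    · rw [hho i h1 h2 h3]
  set v := ψ • e c - e a with hvdef
  set x := g⁻¹ * h * g with hxdef
  have hxi : Iso B x := (hg.inv.mul hhi).mul hg
  have hxj : x (e j) = e j := by simp only [x, LinearEquiv.mul_apply, hhL, inv_apply]
  obtain ⟨π, φ, hφ⟩ := Mono.apply' hon (NF x (mul_mem (mul_mem (inv_mem hgM) hhM) hgM) hxi j j fun i hi => by
    rw [hxj, hon, if_neg hi])
  have hN : (moved e x).card ≤ 2 * 2 := by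
    refine (card_moved_le hon hφ ({g⁻¹ v, g⁻¹ (e b)} : Finset V) fun y => ?_).trans
      (Nat.mul_le_mul_left 2 Finset.card_le_two)
    have hle : (⊤ : Submodule F V) ≤ Submodule.comap (h.toLinearMap - LinearMap.id)
        (Submodule.span F ({v, e b} : Set V)) := by
      rw [← e.span_eq, Submodule.span_le]
      rintro _ ⟨i, rfl⟩
      show h (e i) - e i ∈ Submodule.span F ({v, e b} : Set V)
      rw [Submodule.mem_span_pair]
      by_cases h1 : i = a
      · exact ⟨1, 0, by rw [h1, hha, hvdef]; simp⟩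
      by_cases h2 : i = c
      · refine ⟨-ψ⁻¹, 0, ?_⟩
        rw [h2, hhc, hvdef, smul_sub, smul_smul, neg_mul, inv_mul_cancel₀ (nrm_ne_zero hψ)]
        simp only [zero_smul, add_zero, neg_smul, one_smul]; abel
      by_cases h3 : i = b
      · exact ⟨0, δ - 1, by rw [h3, hhb]; simp [sub_smul]⟩
      · exact ⟨0, 0, by rw [hho i h1 h2 h3]; simp⟩
    have hmem := hle (Submodule.mem_top (x := g y))
    rw [Submodule.mem_comap] at hmem
    obtain ⟨p, r, hpr⟩ := Submodule.mem_span_pair.1 hmem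
    have e1 : x y - y = g⁻¹ (h (g y) - g y) := by
      rw [map_sub, inv_apply]; rfl
    rw [Finset.coe_insert, Finset.coe_singleton, Submodule.mem_span_pair]
    exact ⟨p, r, by rw [e1, show h (g y) - g y = p • v + r • e b from hpr.symm, map_add, map_smul, map_smul]⟩
  set S := moved e x
  have hjS : j ∉ S := fun hj => mem_moved.1 hj hxj
  have hperp : ∀ i, i ∉ S → B (g (e i)) v = 0 := fun i hi => by
    have := co_moved hon hφ (g⁻¹ (e a)) hi
    rw [hxdef, LinearEquiv.mul_apply, LinearEquiv.mul_apply, apply_inv, ← map_sub, hha, hg.inv.adj, inv_inv] at this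
    exact this
  -- weights avoiding the support of `v`
  let cc : ι → F := fun i => B (g (e i)) (e b) * B (e a) (g (e i))
  have hccj : cc j = 0 := by simp only [cc]; rw [(Herm.eq_zero_comm hB).1 hbj, zero_mul]
  set Bad := S ∪ {j} ∪ Finset.univ.filter fun i => B (e a) (g (e i)) = 0
  have hbad : Bad.card ≤ 4 + 1 + 1 := by
    refine (Finset.card_union_le _ _).trans (Nat.add_le_add ((Finset.card_union_le _ _).trans (by simp; omega)) ?_)
    rw [Finset.card_le_one]
    intro i hi i' hi'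
    simp only [Finset.mem_filter] at hi hi'
    by_contra hne
    exact row_one H NF hgM hg hgm a i i' hne hi.2 hi'.2
  obtain ⟨R, hR, hR4⟩ := Finset.exists_subset_card_eq (show 4 ≤ (Finset.univ \ Bad).card by
    rw [Finset.card_sdiff_of_subset (Finset.subset_univ _), Finset.card_univ]; omega)
  have hRm : ∀ i ∈ R, i ∉ S ∧ i ≠ j ∧ B (e a) (g (e i)) ≠ 0 := fun i hi => by
    have h := (Finset.mem_sdiff.1 (hR hi)).2
    simp only [Bad, Finset.mem_union, Finset.mem_singleton, Finset.mem_filter, Finset.mem_univ, true_and, not_or] at h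
    exact ⟨h.1.1, h.1.2, h.2⟩
  obtain ⟨θ, hθn, hθo, hθs, i0, hi0, hθi0⟩ := exists_weights (σ := σ) hσ hR4 cc (fun i hi => mul_ne_zero
    (fun h => row_one H NF hgM hg hgm b i j (hRm i hi).2.1 ((Herm.eq_zero_comm hB).1 h) hbj) (hRm i hi).2.2)
    (∑ i ∈ R, cc i)
  have hjR : j ∉ R := fun h => (hRm j h).2.1 rfl
  set P := ∏ i, θ i
  have hP : P * σ P = 1 := nrm_prod _ fun i _ => hθn i
  let τ : ι → F := fun i => if i = j then P⁻¹ else θ i
  have hτn : ∀ i, τ i * σ (τ i) = 1 := fun i => by simp only [τ]; split_ifs; exacts [nrm_inv hP, hθn i]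
  have hτp : ∏ i, τ i = 1 := by
    have : ∀ i, τ i = θ i * if i = j then P⁻¹ else 1 := fun i => by
      simp only [τ]; split_ifs with h1
      · rw [h1, hθo j hjR, one_mul]
      · rw [mul_one]
    rw [Finset.prod_congr rfl fun i _ => this i, Finset.prod_mul_distrib, Finset.prod_ite_eq',
      if_pos (Finset.mem_univ j), mul_inv_cancel₀ (nrm_ne_zero hP)]
  have hτo : ∀ i, i ∉ insert j R → τ i = 1 := fun i hi => by
    rw [Finset.mem_insert, not_or] at hi
    simp [τ, hi.1, hθo i hi.2]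
  obtain ⟨t, htM, hti, ht⟩ := H.diag_mem τ hτn hτp
  set z := g * t * g⁻¹
  have hzM : z ∈ M := mul_mem (mul_mem hgM htM) (inv_mem hgM)
  have hzi : Iso B z := (hg.mul hti).mul hg.inv
  have hza : B (e a) (z (e b)) = 0 := by
    have h0 : B (e a) (e b) = ∑ i, cc i := by
      conv_lhs => rw [← apply_inv g (e b), ← expand hon (g⁻¹ (e b)), map_sum, map_sum]
      exact Finset.sum_congr rfl fun i _ => by rw [map_smul, map_smul, smul_eq_mul, hg.inv.adj (e i), inv_inv]
    rw [hon, if_neg ha.1] at h0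
    rw [conj_diag hon hg ht, map_sum]
    refine (Finset.sum_congr rfl fun i _ => ?_ : _ = ∑ i, τ i * cc i).trans ?_
    · rw [map_smul, smul_eq_mul]; simp only [cc]; ring
    rw [← Finset.sum_sdiff (Finset.subset_univ R), Finset.sum_congr rfl (s₁ := R) fun i hi => by
      rw [show τ i = θ i by simp [τ, (hRm i hi).2.1]], hθs, Finset.sum_congr rfl (s₁ := Finset.univ \ R)
      (g := cc) fun i hi => ?_, Finset.sum_sdiff (Finset.subset_univ R), h0]
    by_cases h1 : i = j
    · rw [h1, hccj, mul_zero]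
    · rw [hτo i (by simp [h1, (Finset.mem_sdiff.1 hi).2]), one_mul]
  have hzv : z v = v := H.conj_fix hg ht fun i hi => hperp i fun hiS => hi (hτo i fun h => by
    rcases Finset.mem_insert.1 h with h | h
    · exact hjS (h ▸ hiS)
    · exact (hRm i h).1 hiS)
  have hzc : B (e c) (z (e b)) = 0 := by
    have h1 : B v (z (e b)) = 0 := by
      have h2 := hzi v (e b)
      rw [hzv] at h2
      rw [h2, hvdef]
      simp [hon c b, hon a b, hc.1, ha.1]
    rw [hvdef, map_sub, LinearMap.sub_apply, hza, sub_zero, map_smulₛₗ, LinearMap.smul_apply, smul_eq_mul] at h1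
    exact (mul_eq_zero.1 h1).resolve_left ((map_ne_zero σ).2 (nrm_ne_zero hψ))
  by_cases hzm : Mono B e z
  swap
  · exact col_one H NF hzM hzi hzm b a c hac hza hzc
  obtain ⟨π', φ', hφ'⟩ := Mono.apply' hon hzm
  have hzg : ∀ i, z (g (e i)) = τ i • g (e i) := fun i => by
    simp only [z, LinearEquiv.mul_apply, inv_apply, ht, map_smul]
  set mz := moved e z
  rcases le_or_gt (mz.card + 2) n with hmz | hmz
  · obtain ⟨p, hp, p', hp', hpp⟩ := Finset.one_lt_card.1 (show 1 < (Finset.univ \ mz).card by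
      rw [Finset.card_sdiff_of_subset (Finset.subset_univ _), Finset.card_univ]; omega)
    have hsupp : ∀ q ∈ Finset.univ \ mz, B (e q) (g (e i0)) = 0 := fun q hq => by
      have h1 := co_moved hon hφ' (g (e i0)) (Finset.mem_sdiff.1 hq).2
      rw [hzg, map_sub, map_smul, smul_eq_mul] at h1
      have h2 : τ i0 ≠ 1 := by simp [τ, (hRm i0 hi0).2.1, hθi0]
      by_contra h0
      exact h2 (mul_right_cancel₀ h0 (by linear_combination h1))
    exact col_one H NF hgM hg hgm i0 p p' hpp (hsupp p hp) (hsupp p' hp')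
  -- otherwise the weights are signs, an even number of them negative
  have hva : B (e a) v = -1 := by simp [v, hon a c, hon a a, hac]
  have hvc : B (e c) v = ψ := by simp [v, hon c c, hon c a, Ne.symm hac]
  have hpa : π' a = a ∨ π' a = c := by
    by_contra! hne
    have h1 := co_mono hon hφ' a v
    rw [hzv, hva, hvdef, map_sub, map_smul, hon, hon, if_neg hne.1, if_neg hne.2, smul_zero, sub_zero] at h1
    exact nrm_ne_zero (mono_coef hon hzi hφ' a) (by linear_combination h1)
  have hsign : ∀ i, τ i * τ i = 1 := fun i => by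
    by_contra hsq
    have h1 : τ i ≠ 1 := fun h => hsq (by rw [h, one_mul])
    have ea := co_mono hon hφ' a (g (e i))
    have ec := co_mono hon hφ' c (g (e i))
    rw [hzg, map_smul, smul_eq_mul] at ea ec
    have va := co_mono hon hφ' a v
    have vc := co_mono hon hφ' c v
    rw [hzv] at va vc
    rcases hpa with hp | hp
    · have hpc : π' c = c := by
        by_contra hne
        rcases eq_or_ne (π' c) a with hca | hca
        · exact hac (π'.injective (by rw [hp, hca]))
        · rw [hvc, hvdef, map_sub, map_smul, hon, hon, if_neg hne, if_neg hca, smul_zero, sub_zero] at vc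
          exact mul_ne_zero (nrm_ne_zero (mono_coef hon hzi hφ' c)) (nrm_ne_zero hψ) vc.symm
      rw [hp, hva] at va
      rw [hpc, hvc] at vc
      have pa : φ' a = 1 := by linear_combination va
      have pc : φ' c = 1 := mul_right_cancel₀ (nrm_ne_zero hψ) (by linear_combination -vc)
      rw [hp, pa] at ea
      rw [hpc, pc] at ec
      refine col_one H NF hgM hg hgm i a c hac ?_ ?_
      · by_contra h0; exact h1 (mul_right_cancel₀ h0 ea)
      · by_contra h0; exact h1 (mul_right_cancel₀ h0 ec)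
    · have hpc : π' c = a := by
        by_contra hne
        rcases eq_or_ne (π' c) c with hcc | hcc
        · exact hac (π'.injective (by rw [hp, hcc]))
        · rw [hvc, hvdef, map_sub, map_smul, hon, hon, if_neg hne, if_neg hcc, smul_zero, sub_zero] at vc
          exact mul_ne_zero (nrm_ne_zero (mono_coef hon hzi hφ' c)) (nrm_ne_zero hψ) vc.symm
      rw [hp, hva, hvc] at va
      rw [hpc, hvc, hva] at vc
      rw [hp] at ea
      rw [hpc] at ec
      have h2 : φ' a * φ' c = 1 := by linear_combination (φ' c) * va + vc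
      refine col_one H NF hgM hg hgm i a c hac ?_ ?_
      · by_contra h0
        exact hsq (mul_right_cancel₀ h0 (by linear_combination (τ i) * ec + φ' c * ea + B (e a) (g (e i)) * h2))
      · by_contra h0
        exact hsq (mul_right_cancel₀ h0 (by linear_combination (τ i) * ea + φ' a * ec + B (e c) (g (e i)) * h2))
  set T' := Finset.univ.filter fun i => τ i ≠ 1
  have hT'v : ∀ i ∈ T', τ i = -1 := fun i hi =>
    (mul_self_eq_one_iff.1 (hsign i)).resolve_left (Finset.mem_filter.1 hi).2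
  have hT'p : ((-1 : F)) ^ T'.card = 1 := by
    rw [← Finset.prod_const, ← Finset.prod_congr rfl hT'v, Finset.prod_filter]
    refine Eq.trans (Finset.prod_congr rfl fun i _ => ?_) hτp
    by_cases h : τ i ≠ 1
    · rw [if_pos h]
    · rw [if_neg h, not_not.1 h]
  have hT'5 : T'.card ≤ 5 := by
    refine (Finset.card_le_card fun i hi => ?_).trans ((Finset.card_insert_le j R).trans (by omega))
    by_contra h
    exact (Finset.mem_filter.1 hi).2 (hτo i h)
  have hN' : mz.card ≤ 2 * T'.card := (card_moved_le hon hφ' (T'.image fun i => g (e i))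
    fun y => H.conj_small hg ht T' (fun i hi => by simpa [T'] using hi) y).trans
    (Nat.mul_le_mul_left 2 Finset.card_image_le)
  have hneg : (-1 : F) ≠ 1 := fun h => by
    have h2 : τ i0 ≠ 1 := by simp [τ, (hRm i0 hi0).2.1, hθi0]
    exact h2 (by rw [hT'v i0 (Finset.mem_filter.2 ⟨Finset.mem_univ _, h2⟩), h])
  have hodd : T'.card ≠ 5 := fun h5 => hneg (by rw [h5] at hT'p; linear_combination hT'p)
  omega

theorem contradiction' {g : V ≃ₗ[F] V} (hgM : g ∈ M) (hg : Iso B g) (hgm : ¬ Mono B e g) : False := by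
  obtain ⟨g', h1, h2, h3, b, j, hbj⟩ := exists_zero H NF hgM hg hgm
  exact zero_false H NF h1 h2 h3 hbj

omit NF in
/-- there is a non-monomial element fixing a coordinate line -/
theorem exists_fix {g : V ≃ₗ[F] V} (hgM : g ∈ M) (hg : Iso B g) (hgm : ¬ Mono B e g) :
    ∃ x ∈ M, Iso B x ∧ ¬ Mono B e x ∧ ∃ (a : ι) (c : F), x (e a) = c • e a := by
  by_contra hno
  push Not at hno
  refine contradiction' H (fun x hxM hx a d hd => ?_) hgM hg hgm
  by_contra hxm
  have hxa := eq_single H.onb hd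
  obtain ⟨m, δ, -, hmi, hmd, hm⟩ := exists_mon H.onb H.herm (Equiv.swap a d) (fun _ => 1) (fun _ => by simp) a
  have hmm : Mono B e m := mono_of_apply H.onb hm
  refine hno (m * x) (mul_mem (H.mono_mem m hmi hmd hmm) hxM) (hmi.mul hx)
    (fun h => hxm (by simpa using Mono.mul' H.onb (Mono.inv' H.onb hmm) h)) a
    (B (e d) (x (e a)) * if d = a then δ * 1 else 1) ?_
  rw [LinearEquiv.mul_apply]
  conv_lhs => rw [hxa, map_smul, hm, Equiv.swap_apply_right, smul_smul]

end Cfsg.Agent.UnitDec
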