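import Cfsg.Agent.UnitDec.Basic

/-!
Monomial isometries: closure under products, moved basis vectors against the rank of `g - 1`, and multiplicities of
eigenvalues with eigenvectors of full support.
-/

set_option autoImplicit false

namespace Cfsg.Agent.UnitDec

open Cfsg.Agent.Classical Cfsg.Agent.ClassicalMax.Unitary Module

variable {F V ι : Type*} [Field F] [AddCommGroup V] [Module F V] {σ : F →+* F} {B : V →ₛₗ[σ] V →ₗ[F] F}
  [Fintype ι] [DecidableEq ι] {e : Basis ι F V} (hon : IsONB B e)
include hon

theorem Mono.apply' {g : V ≃ₗ[F] V} (hg : Mono B e g) :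
    ∃ (π : Equiv.Perm ι) (φ : ι → F), ∀ i, g (e i) = φ i • e (π i) := by
  obtain ⟨π, hπ⟩ := hg
  exact ⟨π, _, fun i => blk_apply_mono hon hπ i⟩

theorem Mono.mul' {g h : V ≃ₗ[F] V} (hg : Mono B e g) (hh : Mono B e h) : Mono B e (g * h) := by
  obtain ⟨π, φ, hφ⟩ := Mono.apply' hon hg
  obtain ⟨ρ, ψ, hψ⟩ := Mono.apply' hon hh
  exact mono_of_apply hon (π := ρ.trans π) (φ := fun i => ψ i * φ (ρ i)) fun i => by
    rw [LinearEquiv.mul_apply, hψ, map_smul, hφ, smul_smul]; rfl

theorem Mono.inv' {g : V ≃ₗ[F] V} (hg : Mono B e g) : Mono B e g⁻¹ := by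
  obtain ⟨π, φ, hφ⟩ := Mono.apply' hon hg
  refine mono_of_apply hon (π := π.symm) (φ := fun i => (φ (π.symm i))⁻¹) fun i => g.injective ?_
  rw [apply_inv, map_smul, hφ, Equiv.apply_symm_apply, smul_smul, inv_mul_cancel₀, one_smul]
  intro h0
  have := hφ (π.symm i)
  rw [h0, zero_smul, g.map_eq_zero_iff] at this
  exact e.ne_zero _ this

/-- the moved basis vectors -/
noncomputable def moved (e : Basis ι F V) (g : V ≃ₗ[F] V) : Finset ι :=
  haveI := _root_.Classical.decEq V; Finset.univ.filter fun i => g (e i) ≠ e i

omit [DecidableEq ι] hon in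
theorem mem_moved {g : V ≃ₗ[F] V} {i : ι} : i ∈ moved e g ↔ g (e i) ≠ e i := by simp [moved]

section

variable {g : V ≃ₗ[F] V} {π : Equiv.Perm ι} {φ : ι → F} (hg : ∀ i, g (e i) = φ i • e (π i))
include hg

omit hon in
theorem moved_perm {i : ι} (hi : i ∈ moved e g) : π i ∈ moved e g := by
  rw [mem_moved] at hi ⊢
  intro h
  have hne : π i = i := π.injective (by
    by_contra hne
    have := congrArg (fun x => e.repr x (π (π i))) ((hg (π i)).symm.trans h)
    simp [Finsupp.single_eq_of_ne hne] at this
    have h2 := (hg (π i)).symm.trans h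
    rw [this, zero_smul] at h2
    exact e.ne_zero _ h2.symm)
  rw [hne] at h
  exact hi h

theorem co_moved (x : V) {i : ι} (hi : i ∉ moved e g) : B (e i) (g x - x) = 0 := by
  have h : g (e i) = e i := not_not.1 fun h => hi (mem_moved.2 h)
  have hp : π i = i ∧ φ i = 1 := by
    have h2 : φ i • e (π i) = e i := (hg i).symm.trans h
    have h3 := congrArg (B (e i)) h2
    rw [co_single hon, hon, if_pos rfl] at h3
    by_cases hne : i = π i
    · rw [if_pos hne] at h3; exact ⟨hne.symm, h3⟩
    · rw [if_neg hne] at h3; exact absurd h3 zero_ne_one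
  have := co_mono hon hg i x
  rw [hp.1, hp.2, one_mul] at this
  rw [map_sub, this, sub_self]

theorem card_moved_le (s : Finset V) (hs : ∀ x, g x - x ∈ Submodule.span F (s : Set V)) :
    (moved e g).card ≤ 2 * s.card := by
  classical
  let v : ι → V := fun i => g (e i) - e i
  have key : ∀ S : Finset ι, S ⊆ moved e g →
      S.card ≤ 2 * finrank F (Submodule.span F ((S.image v : Finset V) : Set V)) := by
    intro S
    induction S using Finset.strongInduction with
    | _ S ih => ?_
    intro hS
    rcases S.eq_empty_or_nonempty with rfl | ⟨i, hi⟩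
    · simp
    set S' := (S.erase i).erase (π.symm i)
    have hlt : S' ⊂ S := lt_of_le_of_lt (Finset.erase_subset _ _) (Finset.erase_ssubset hi)
    have h1 := ih S' hlt (hlt.subset.trans hS)
    have hvi : B (e i) (v i) ≠ 0 := by
      simp only [v, map_sub, hg i, co_single hon, hon i i, if_true]
      split_ifs with hne
      · intro h0
        refine mem_moved.1 (hS hi) ?_
        rw [hg i, sub_eq_zero.1 h0, one_smul, ← hne]
      · rw [zero_sub, neg_ne_zero]; exact one_ne_zero
    have hlt' : Submodule.span F ((S'.image v : Finset V) : Set V) < Submodule.span F ((S.image v : Finset V) : Set V) := by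
      refine lt_of_le_of_ne (Submodule.span_mono (Finset.coe_subset.2 (Finset.image_subset_image hlt.subset))) fun heq => ?_
      have hle : Submodule.span F ((S'.image v : Finset V) : Set V) ≤ LinearMap.ker (B (e i)) := by
        refine Submodule.span_le.2 fun x hx => ?_
        obtain ⟨j, hj, rfl⟩ := Finset.mem_image.1 hx
        simp only [S', Finset.mem_erase] at hj
        show B (e i) (v j) = 0
        simp only [v, map_sub, hg j, co_single hon, hon i j]
        rw [if_neg, if_neg (Ne.symm hj.2.1), sub_zero]
        exact fun h => hj.1 (by rw [h, Equiv.symm_apply_apply])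
      exact hvi (hle (heq ▸ Submodule.subset_span (Finset.mem_image_of_mem v hi)))
    have h2 := Submodule.finrank_lt_finrank_of_lt hlt'
    have h3 : S.card ≤ S'.card + 2 := by
      have a := Finset.pred_card_le_card_erase (a := i) (s := S)
      have b := Finset.pred_card_le_card_erase (a := π.symm i) (s := S.erase i)
      have : S'.card = ((S.erase i).erase (π.symm i)).card := rfl
      omega
    omega
  have hle : Submodule.span F (((moved e g).image v : Finset V) : Set V) ≤ Submodule.span F (s : Set V) := by
    refine Submodule.span_le.2 fun x hx => ?_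
    obtain ⟨j, -, rfl⟩ := Finset.mem_image.1 hx
    exact hs _
  have h4 := (key _ subset_rfl).trans (Nat.mul_le_mul_left 2 ((Submodule.finrank_mono hle).trans
    (finrank_span_finset_le_card s)))
  exact h4

end

omit [Fintype ι] hon in
theorem card_span_image {g : V ≃ₗ[F] V} (s : Finset ι) :
    finrank F (Submodule.span F ((fun i => g (e i)) '' (s : Set ι))) = s.card := by
  have li : LinearIndependent F (fun x : {x // x ∈ s} => g (e (x : ι))) :=
    (e.linearIndependent.comp _ Subtype.val_injective).map' g.toLinearMap g.ker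
  have e1 : (fun i => g (e i)) '' (s : Set ι) = Set.range (fun x : {x // x ∈ s} => g (e (x : ι))) := by
    ext y; simp
  rw [e1, finrank_span_eq_card li, Fintype.card_coe]

/-- full support eigenvectors force equal multiplicities -/
theorem mult_eq [DecidableEq F] {g t : V ≃ₗ[F] V} {θ : ι → F}
    (ht : ∀ i, t (e i) = θ i • e i) (hm : Mono B e (g * t * g⁻¹)) (hfull : ∀ i j, B (e i) (g (e j)) ≠ 0) (i j : ι) :
    (Finset.univ.filter fun l => θ l = θ i).card = (Finset.univ.filter fun l => θ l = θ j).card := by
  suffices h : ∀ i j, (Finset.univ.filter fun l => θ l = θ i).card ≤ (Finset.univ.filter fun l => θ l = θ j).card from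
    le_antisymm (h i j) (h j i)
  clear i j
  intro i j
  have : FiniteDimensional F V := Module.Basis.finiteDimensional_of_finite e
  set x := g * t * g⁻¹
  obtain ⟨π, φ, hφ⟩ := Mono.apply' hon hm
  have hx : ∀ l, x (g (e l)) = θ l • g (e l) := fun l => by
    simp only [x, LinearEquiv.mul_apply, inv_apply, ht, map_smul]
  have hrel : ∀ {y : V} {α : F}, x y = α • y → ∀ m, φ m * B (e m) y = α * B (e (π m)) y := fun {y α} h m => by
    rw [← co_mono hon hφ m y, h, map_smul, smul_eq_mul]
  let W : ι → F := fun m => B (e m) (g (e j)) / B (e m) (g (e i))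
  have hW : ∀ m, W m ≠ 0 := fun m => div_ne_zero (hfull m j) (hfull m i)
  obtain ⟨T, hT, -⟩ := exists_diag_equiv (e := e) W hW
  set S : ι → Submodule F V := fun i => Submodule.span F
    ((fun l => g (e l)) '' ((Finset.univ.filter fun l => θ l = θ i : Finset ι) : Set ι))
  have hS : ∀ i, ∀ y, y ∈ S i ↔ x y = θ i • y := by
    intro i y
    constructor
    · intro hy
      refine (show S i ≤ LinearMap.eqLocus x.toLinearMap (θ i • LinearMap.id) from Submodule.span_le.2 ?_) hy
      rintro _ ⟨l, hl, rfl⟩
      rw [Finset.coe_filter] at hl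
      show x (g (e l)) = θ i • g (e l)
      rw [hx, hl.2]
    · intro hy
      have hy' : t (g⁻¹ y) = θ i • g⁻¹ y := g.injective (by rw [map_smul, apply_inv]; exact hy)
      rw [← apply_inv g y, ← expand hon (g⁻¹ y), map_sum]
      refine Submodule.sum_mem _ fun l _ => ?_
      rw [map_smul]
      by_cases hl : θ l = θ i
      · exact Submodule.smul_mem _ _ (Submodule.subset_span ⟨l, by simp [hl], rfl⟩)
      · have := congrArg (B (e l)) hy'
        rw [co_diag hon ht, map_smul, smul_eq_mul] at this
        have h0 : B (e l) (g⁻¹ y) = 0 := by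
          by_contra h0; exact hl (mul_right_cancel₀ h0 this)
        rw [h0, zero_smul]; exact Submodule.zero_mem _
  have hmap : (S i).map T.toLinearMap ≤ S j := by
    rintro _ ⟨y, hy, rfl⟩
    refine (hS j _).2 (ext_co hon fun m => ?_)
    obtain ⟨m, rfl⟩ := π.surjective m
    show B (e (π m)) (x (T y)) = B (e (π m)) (θ j • T y)
    rw [co_mono hon hφ, co_diag hon hT, map_smul, smul_eq_mul, co_diag hon hT]
    have h1 := hrel ((hS i y).1 hy) m
    have h2 := hrel (hx i) m
    have h3 := hrel (hx j) m
    have hv' := hfull (π m) i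
    have hv := hfull m i
    simp only [W]
    field_simp
    linear_combination B (e m) (g (e j)) * B (e (π m)) (g (e i)) * h1
      - B (e (π m)) y * B (e m) (g (e j)) * h2 + B (e (π m)) y * B (e m) (g (e i)) * h3
  have h := Submodule.finrank_mono hmap
  rw [LinearEquiv.finrank_map_eq, card_span_image, card_span_image] at h
  exact h

end Cfsg.Agent.UnitDec
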