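import Cfsg.Agent.UnitDec.MonoCase
import Mathlib.NumberTheory.LegendreSymbol.QuadraticChar.Basic

/-!
Monomial case in dimension six over a field with at least nine elements.
-/

set_option autoImplicit false

namespace Cfsg.Agent.UnitDec

open Cfsg.Agent.Classical Cfsg.Agent.ClassicalMax.Unitary Module

namespace Six

variable {F V ι : Type*} [Field F] [Fintype F] [DecidableEq F] [AddCommGroup V] [Module F V] [FiniteDimensional F V]
  {σ : F →+* F} [Fintype ι] [DecidableEq ι] {B : V →ₛₗ[σ] V →ₗ[F] F} {e : Basis ι F V} {M : Subgroup (V ≃ₗ[F] V)}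

omit [DecidableEq F] in
theorem card_fixed (σ : F →+* F) [DecidableEq F] : (Finset.univ.filter fun x : F => σ x = x).card = qq σ :=
  (Nat.card_eq_finsetCard _).symm.trans (Nat.card_congr (Equiv.subtypeEquivRight fun r => by simp [Herm.mem_fixField]))

/-- a norm one element of order at least four -/
theorem exists_order_four (hσ : Herm.IsInvol σ) (hq : 3 ≤ qq σ) :
    ∃ ζ : F, ζ * σ ζ = 1 ∧ ζ * ζ ≠ 1 ∧ ζ ^ 3 ≠ 1 := by
  by_cases h2 : (2 : F) = 0
  · by_contra! h
    have hsub : U σ ⊆ (Polynomial.nthRoots 3 (1 : F)).toFinset := fun l hl => by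
      rw [Multiset.mem_toFinset, Polynomial.mem_nthRoots (by norm_num)]
      by_cases h1 : l * l = 1
      · have hz : (l - 1) * (l - 1) = 0 := by linear_combination h1 + (1 - l) * h2
        rw [sub_eq_zero.1 (mul_self_eq_zero.1 hz), one_pow]
      · exact h l (mem_U.1 hl) h1
    have := (Finset.card_le_card hsub).trans ((Multiset.toFinset_card_le _).trans (Polynomial.card_nthRoots 3 1))
    rw [card_U hσ] at this
    omega
  · obtain ⟨ζ, hζ, -, hζ2⟩ := exists_zeta (σ := σ) hσ
    by_cases h3 : ζ ^ 3 = 1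
    · refine ⟨-ζ, by rw [map_neg, neg_mul_neg, hζ], by rwa [neg_mul_neg], fun h => h2 ?_⟩
      linear_combination -h - h3
    · exact ⟨ζ, hζ, hζ2, h3⟩

variable (H : MonBase B e M)
include H

theorem mono_of_column (NF : NoFix B e M) {g : V ≃ₗ[F] V} (hgM : g ∈ M) (hg : Iso B g) (j d : ι)
    (h : ∀ i, i ≠ d → B (e i) (g (e j)) = 0) : Mono B e g :=
  NF g hgM hg j d h

theorem conj_small' [DecidableEq V] {g t : V ≃ₗ[F] V} (hg : Iso B g) {θ : ι → F} (ht : ∀ i, t (e i) = θ i • e i)
    (P : Finset ι) (hP : ∀ i, i ∉ P → θ i = 1) (x : V) :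
    (g * t * g⁻¹) x - x ∈ Submodule.span F (((P.image fun i => g (e i)) : Finset V) : Set V) := by
  rw [conj_diag' H.onb hg ht]
  refine Submodule.sum_mem _ fun i _ => ?_
  by_cases hi : i ∈ P
  · exact Submodule.smul_mem _ _ (Submodule.subset_span (Finset.mem_image_of_mem (fun i => g (e i)) hi))
  · rw [hP i hi, sub_self, zero_mul, zero_smul]; exact Submodule.zero_mem _

/-- two zeros in a row put the two columns on two common places -/
theorem two_cols (hq : 3 ≤ qq σ) (NF : NoFix B e M) {g : V ≃ₗ[F] V} (hgM : g ∈ M) (hg : Iso B g) (hgm : ¬ Mono B e g)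
    (b k l : ι) (hkl : k ≠ l) (hk : B (g (e k)) (e b) = 0) (hl : B (g (e l)) (e b) = 0) :
    ∃ p r, ∀ i, i ≠ p → i ≠ r → B (e i) (g (e k)) = 0 ∧ B (e i) (g (e l)) = 0 := by
  classical
  have hon := H.onb
  obtain ⟨ζ, hζ, hζ2, hζ3⟩ := exists_order_four H.herm.toIsInvol hq
  have hζ0 := nrm_ne_zero hζ
  have hζi : ζ * ζ⁻¹ = 1 := mul_inv_cancel₀ hζ0
  have hζ1 : ζ ≠ 1 := fun h => hζ2 (by rw [h, one_mul])
  have hζi1 : ζ⁻¹ ≠ 1 := fun h => hζ1 (inv_eq_one.1 h)
  have hζii : ζ⁻¹ ≠ ζ := fun h => hζ2 (by rw [h] at hζi; exact hζi)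
  obtain ⟨t, htM, hti, ht⟩ := H.diag_mem (pairW k l ζ) (fun i => pairW_nrm hζ i) (pairW_prod hkl hζ0)
  have hθk : pairW k l ζ k = ζ := by simp [pairW]
  have hθl : pairW k l ζ l = ζ⁻¹ := by simp [pairW, pairW.σ', hkl.symm]
  have hθo : ∀ i, i ≠ k → i ≠ l → pairW k l ζ i = 1 := fun i h1 h2 => by simp [pairW, h1, h2]
  set x := g * t * g⁻¹ with hx
  have hxi : Iso B x := (hg.mul hti).mul hg.inv
  have hxb : x (e b) = e b := by
    refine sub_eq_zero.1 ?_
    rw [hx, conj_diag' hon hg ht]
    refine Finset.sum_eq_zero fun i _ => ?_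
    by_cases h1 : i = k
    · rw [h1, hk, mul_zero, zero_smul]
    by_cases h2 : i = l
    · rw [h2, hl, mul_zero, zero_smul]
    rw [hθo i h1 h2, sub_self, zero_mul, zero_smul]
  obtain ⟨π, φ, hφ⟩ := Mono.apply' hon
    (NF x (mul_mem (mul_mem hgM htM) (inv_mem hgM)) hxi b b fun i hi => by rw [hxb, hon, if_neg hi])
  have hxg : ∀ i, x (g (e i)) = pairW k l ζ i • g (e i) := fun i => by
    simp only [x, LinearEquiv.mul_apply, inv_apply, ht, map_smul]
  obtain ⟨a, ha⟩ : ∃ a, x (e a) ≠ e a := by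
    by_contra h
    push Not at h
    have h1 : x.toLinearMap = LinearMap.id := e.ext fun i => by simpa using h i
    have h2 : x (g (e k)) = g (e k) := LinearMap.congr_fun h1 _
    rw [hxg, hθk] at h2
    have h3 : (ζ - 1) • g (e k) = 0 := by rw [sub_smul, one_smul, h2, sub_self]
    rcases smul_eq_zero.1 h3 with h4 | h4
    · exact hζ1 (sub_eq_zero.1 h4)
    · exact e.ne_zero k (g.map_eq_zero_iff.1 h4)
  set s := 1 + ζ + ζ⁻¹ with hs
  have hpoly : ∀ v, x (x (x v)) - s • x (x v) + s • x v - v = 0 := by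
    intro v
    let f : V →ₗ[F] V := x.toLinearMap ∘ₗ x.toLinearMap ∘ₗ x.toLinearMap - s • (x.toLinearMap ∘ₗ x.toLinearMap)
      + s • x.toLinearMap - LinearMap.id
    have hf : f = 0 := (e.map g).ext fun i => by
      have hroot : ∀ θ : F, (θ = ζ ∨ θ = ζ⁻¹ ∨ θ = 1) → θ * θ * θ - s * (θ * θ) + s * θ - 1 = 0 := by
        rintro θ (rfl | rfl | rfl)
        · simp only [s]; linear_combination (1 - θ) * hζi
        · simp only [s]; linear_combination (1 - ζ⁻¹) * hζi
        · ring
      simp only [f, Basis.map_apply, LinearMap.add_apply, LinearMap.sub_apply, LinearMap.smul_apply,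
        LinearMap.comp_apply, LinearEquiv.coe_coe, LinearMap.id_apply, LinearMap.zero_apply, hxg, map_smul, smul_smul]
      rw [← sub_smul, ← add_smul]
      conv_lhs => arg 2; rw [← one_smul F (g (e i))]
      rw [← sub_smul]
      have : pairW k l ζ i = ζ ∨ pairW k l ζ i = ζ⁻¹ ∨ pairW k l ζ i = 1 := by
        by_cases h1 : i = k
        · exact Or.inl (h1 ▸ hθk)
        by_cases h2 : i = l
        · exact Or.inr (Or.inl (h2 ▸ hθl))
        exact Or.inr (Or.inr (hθo i h1 h2))
      have hr := hroot _ this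
      refine smul_eq_zero_of_left ?_ _
      linear_combination hr
    exact LinearMap.congr_fun hf v
  have hφn : ∀ i, φ i ≠ 0 := fun i => nrm_ne_zero (mono_coef hon hxi hφ i)
  by_cases hfix : π a = a
  · exfalso
    have hφa : φ a ≠ 1 := fun h => ha (by rw [hφ, hfix, h, one_smul])
    have hco : ∀ i, pairW k l ζ i ≠ φ a → B (g (e i)) (e a) = 0 := fun i hi => by
      have h1 := hxi (g (e i)) (e a)
      rw [hxg, hφ, hfix] at h1
      simp only [map_smulₛₗ, LinearMap.smul_apply, smul_eq_mul, RingHom.id_apply] at h1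
      by_contra h0
      have h2 : σ (pairW k l ζ i) * φ a = 1 := mul_right_cancel₀ h0 (by linear_combination h1)
      exact hi (by linear_combination -(pairW k l ζ i) * h2 + (φ a) * pairW_nrm (k := k) (l := l) hζ i)
    suffices ∃ i, ∀ m, m ≠ i → B (g (e m)) (e a) = 0 by
      obtain ⟨i, hi⟩ := this
      have h1 : g⁻¹ (e a) = B (e i) (g⁻¹ (e a)) • e i := eq_single hon fun m hm => by
        rw [hg.inv.adj, inv_inv]; exact hi m hm
      have hm : Mono B e g⁻¹ := mono_of_column H NF (inv_mem hgM) hg.inv a i fun m hm => by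
        rw [h1, co_single hon, if_neg hm]
      exact hgm (by simpa using Mono.inv' hon hm)
    by_cases h1 : φ a = ζ
    · refine ⟨k, fun m hm => hco m fun h => ?_⟩
      rw [h1] at h
      by_cases h2 : m = l
      · rw [h2, hθl] at h; exact hζii h
      · rw [hθo m hm h2] at h; exact hζ1 h.symm
    · refine ⟨l, fun m hm => hco m fun h => ?_⟩
      by_cases h2 : m = k
      · rw [h2, hθk] at h; exact h1 h.symm
      · rw [hθo m h2 hm] at h; exact hφa h.symm
  set a1 := π a
  set a2 := π a1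
  have h21 : a2 ≠ a1 := fun h => hfix (π.injective h)
  have hx1 : x (e a) = φ a • e a1 := hφ a
  have hx2 : x (x (e a)) = (φ a * φ a1) • e a2 := by rw [hx1, map_smul, hφ, smul_smul]
  have hx3 : x (x (x (e a))) = (φ a * φ a1 * φ a2) • e (π a2) := by rw [hx2, map_smul, hφ, smul_smul]
  have hp := hpoly (e a)
  rw [hx3, hx2, hx1, smul_smul, smul_smul] at hp
  have he1 := congrArg (B (e a1)) hp
  simp only [map_sub, map_add, co_single hon, map_zero, hon a1 a, hfix, Ne.symm h21, if_true, if_false] at he1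
  have h2a : a2 = a := by
    by_contra hne
    have : a1 ≠ π a2 := fun h => hne (π.injective h).symm
    rw [if_neg this] at he1
    have hs0 : s = 0 := (mul_eq_zero.1 (show s * φ a = 0 by linear_combination he1)).resolve_right (hφn a)
    exact hζ3 (by linear_combination (ζ * (ζ - 1)) * hs0 - (ζ - 1) * hζi)
  have hπ2 : π a2 = a1 := by rw [h2a]
  rw [if_pos hπ2.symm] at he1
  have hea := congrArg (B (e a)) hp
  simp only [map_sub, map_add, co_single hon, map_zero, hon a a, h2a, Ne.symm hfix, hπ2, if_true, if_false] at hea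
  have hea' : -(s * (φ a * φ a1)) - 1 = 0 := by
    simpa [show a ≠ π a from Ne.symm hfix] using hea
  have hc : φ a * φ a1 = -s := by
    have h1 : φ a * (φ a1 * φ a2 + s) = 0 := by linear_combination he1
    have h2 := (mul_eq_zero.1 h1).resolve_left (hφn a)
    rw [h2a] at h2
    linear_combination h2
  have hs2 : s * s = 1 := by linear_combination hea' + s * hc
  have hneg : s ≠ -1 := fun h => by
    have h1 : ζ + 1 = 0 := mul_self_eq_zero.1 (show (ζ + 1) * (ζ + 1) = 0 by
      simp only [s] at h; linear_combination ζ * h - hζi)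
    exact hζ2 (by linear_combination (ζ - 1) * h1)
  have hs1 : s = 1 := (mul_self_eq_one_iff.1 hs2).resolve_right hneg
  have h20 : (2 : F) ≠ 0 := fun h => hneg (by linear_combination hs1 + h)
  have hx22 : x (x (e a)) = -e a := by rw [hx2, h2a, hc, hs1, neg_smul, one_smul]
  let P := Submodule.span F (((({k, l} : Finset ι).image fun i => g (e i)) : Finset V) : Set V)
  have hrange : ∀ v, x v - v ∈ P := fun v =>
    conj_small' H hg ht {k, l} (fun i hi => by
      simp only [Finset.mem_insert, Finset.mem_singleton, not_or] at hi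
      exact hθo i hi.1 hi.2) v
  have hxP : ∀ v ∈ P, x v ∈ P := fun v hv => by
    simpa using P.add_mem (hrange v) hv
  have haP : e a ∈ P := by
    have h1 := hrange (x (e a) + e a)
    rw [map_add, hx22] at h1
    have h2 : (-2 : F) • e a ∈ P := by
      convert h1 using 1
      rw [neg_smul, two_smul]
      abel
    have h3 := P.smul_mem (-2 : F)⁻¹ h2
    rwa [smul_smul, inv_mul_cancel₀ (neg_ne_zero.2 h20), one_smul] at h3
  have ha1P : e a1 ∈ P := by
    have h1 := P.smul_mem (φ a)⁻¹ (hxP _ haP)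
    rwa [hx1, smul_smul, inv_mul_cancel₀ (hφn a), one_smul] at h1
  have hle : Submodule.span F ((fun i => (1 : V ≃ₗ[F] V) (e i)) '' (({a, a1} : Finset ι) : Set ι)) ≤ P := by
    refine Submodule.span_le.2 ?_
    rintro _ ⟨i, hi, rfl⟩
    simp only [Finset.coe_insert, Finset.coe_singleton, Set.mem_insert_iff, Set.mem_singleton_iff] at hi
    rcases hi with rfl | rfl
    · exact haP
    · exact ha1P
  have hPeq := Submodule.eq_of_le_of_finrank_le hle (by
    rw [card_span_image (e := e), Finset.card_pair (Ne.symm hfix)]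
    exact (finrank_span_finset_le_card _).trans (Finset.card_image_le.trans Finset.card_le_two))
  refine ⟨a, a1, fun i hi hi1 => ?_⟩
  have hker : P ≤ LinearMap.ker (B (e i)) := by
    rw [← hPeq, Submodule.span_le]
    rintro _ ⟨m, hm, rfl⟩
    simp only [Finset.coe_insert, Finset.coe_singleton, Set.mem_insert_iff, Set.mem_singleton_iff] at hm
    show B (e i) (e m) = 0
    rcases hm with rfl | rfl
    · rw [hon, if_neg hi]
    · rw [hon, if_neg hi1]
  exact ⟨hker (Submodule.subset_span (Finset.mem_image_of_mem (fun i => g (e i)) (by simp))),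
    hker (Submodule.subset_span (Finset.mem_image_of_mem (fun i => g (e i)) (by simp)))⟩

/-- no row has two zeros -/
theorem row_two (hq : 3 ≤ qq σ) (hn : 5 ≤ Fintype.card ι) (NF : NoFix B e M) {g : V ≃ₗ[F] V} (hgM : g ∈ M)
    (hg : Iso B g) (hgm : ¬ Mono B e g) (b k l : ι) (hkl : k ≠ l) (hk : B (g (e k)) (e b) = 0)
    (hl : B (g (e l)) (e b) = 0) : False := by
  classical
  have hon := H.onb
  have hgm' : ¬ Mono B e g⁻¹ := fun h => hgm (by simpa using Mono.inv' hon h)
  obtain ⟨p, r, hpr⟩ := two_cols H hq NF hgM hg hgm b k l hkl hk hl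
  set Z := Finset.univ \ ({p, r} : Finset ι)
  have hZ : 3 ≤ Z.card := by
    have := Finset.le_card_sdiff ({p, r} : Finset ι) Finset.univ
    have h2 : ({p, r} : Finset ι).card ≤ 2 := Finset.card_le_two
    rw [Finset.card_univ] at this
    show 3 ≤ (Finset.univ \ ({p, r} : Finset ι)).card
    omega
  have hzero : ∀ d ∈ Z, B (g⁻¹ (e d)) (e k) = 0 := fun d hd => by
    simp only [Z, Finset.mem_sdiff, Finset.mem_insert, Finset.mem_singleton, not_or] at hd
    rw [← hg.adj]
    exact (hpr d hd.2.1 hd.2.2).1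
  obtain ⟨d0, hd0⟩ := Finset.card_pos.1 (show 0 < Z.card by omega)
  obtain ⟨d1, hd1, hd10⟩ := Finset.exists_mem_ne (show 1 < Z.card by omega) d0
  obtain ⟨p0, r0, hpr0⟩ := two_cols H hq NF (inv_mem hgM) hg.inv hgm' k d0 d1 hd10.symm (hzero d0 hd0) (hzero d1 hd1)
  have hnz : ∀ c d, (∀ i, i ≠ c → i ≠ d → B (e i) (g⁻¹ (e d0)) = 0) → B (e c) (g⁻¹ (e d0)) ≠ 0 := fun c d h h0 => by
    refine hgm' (mono_of_column H NF (inv_mem hgM) hg.inv d0 d fun i hi => ?_)
    by_cases h1 : i = c
    · rw [h1, h0]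
    · exact h i h1 hi
  have hne1 := hnz p0 r0 fun i h1 h2 => (hpr0 i h1 h2).1
  have hne2 := hnz r0 p0 fun i h1 h2 => (hpr0 i h2 h1).1
  have hsupp : ∀ d ∈ Z, ∀ i, i ≠ p0 → i ≠ r0 → B (e i) (g⁻¹ (e d)) = 0 := fun d hd i hi1 hi2 => by
    rcases eq_or_ne d d0 with rfl | hne
    · exact (hpr0 i hi1 hi2).1
    obtain ⟨p', r', hpr'⟩ := two_cols H hq NF (inv_mem hgM) hg.inv hgm' k d0 d hne.symm (hzero d0 hd0) (hzero d hd)
    have h1 : p0 = p' ∨ p0 = r' := by by_contra! h; exact hne1 (hpr' p0 h.1 h.2).1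
    have h2 : r0 = p' ∨ r0 = r' := by by_contra! h; exact hne2 (hpr' r0 h.1 h.2).1
    have hdist : p0 ≠ r0 := fun h => by
      refine hgm' (mono_of_column H NF (inv_mem hgM) hg.inv d0 p0 fun m hm => ?_)
      exact (hpr0 m hm (h ▸ hm)).1
    refine (hpr' i ?_ ?_).2
    · rintro rfl
      rcases h1 with h1 | h1
      · exact hi1 h1.symm
      rcases h2 with h2 | h2
      · exact hi2 h2.symm
      exact hdist (h1.trans h2.symm)
    · rintro rfl
      rcases h1 with h1 | h1
      swap
      · exact hi1 h1.symm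
      rcases h2 with h2 | h2
      swap
      · exact hi2 h2.symm
      exact hdist (h1.trans h2.symm)
  have hle : Submodule.span F ((fun i => g⁻¹ (e i)) '' ((Z : Finset ι) : Set ι)) ≤
      Submodule.span F ((fun i => (1 : V ≃ₗ[F] V) (e i)) '' (({p0, r0} : Finset ι) : Set ι)) := by
    refine Submodule.span_le.2 ?_
    rintro _ ⟨d, hd, rfl⟩
    show g⁻¹ (e d) ∈ Submodule.span F _
    rw [← expand hon (g⁻¹ (e d))]
    refine Submodule.sum_mem _ fun i _ => ?_
    by_cases hi : i = p0 ∨ i = r0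
    · exact Submodule.smul_mem _ _ (Submodule.subset_span ⟨i, by simp [hi], rfl⟩)
    · rw [not_or] at hi
      rw [hsupp d hd i hi.1 hi.2, zero_smul]; exact Submodule.zero_mem _
  have h := Submodule.finrank_mono hle
  rw [card_span_image (e := e), card_span_image (e := e)] at h
  have h2 : ({p0, r0} : Finset ι).card ≤ 2 := Finset.card_le_two
  omega

/-- no column has two zeros -/
theorem col_two (hq : 3 ≤ qq σ) (hn : 5 ≤ Fintype.card ι) (NF : NoFix B e M) {g : V ≃ₗ[F] V} (hgM : g ∈ M)
    (hg : Iso B g) (hgm : ¬ Mono B e g) (j b c : ι) (hbc : b ≠ c) (hb : B (e b) (g (e j)) = 0)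
    (hc : B (e c) (g (e j)) = 0) : False := by
  refine row_two H hq hn NF (inv_mem hgM) hg.inv (fun h => hgm (by simpa using Mono.inv' H.onb h)) j b c hbc ?_ ?_
  · rwa [← hg.adj]
  · rwa [← hg.adj]

/-- no entry vanishes -/
theorem zero_false (hq : 3 ≤ qq σ) (hn : Fintype.card ι = 6) (NF : NoFix B e M) {g : V ≃ₗ[F] V} (hgM : g ∈ M)
    (hg : Iso B g) (hgm : ¬ Mono B e g) {b j : ι} (hbj : B (e b) (g (e j)) = 0) : False := by
  classical
  have hon := H.onb
  have hB := H.herm
  have hσ := hB.toIsInvol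
  have hgm' : ¬ Mono B e g⁻¹ := fun h => hgm (by simpa using Mono.inv' hon h)
  have hL : ∀ i, i ≠ b → B (e i) (g (e j)) ≠ 0 := fun i hi h0 =>
    col_two H hq (by omega) NF hgM hg hgm j b i (Ne.symm hi) hbj h0
  have finish : ∀ S : Finset ι, S.card ≤ 4 → (∀ i, i ∉ S → B (e i) (g⁻¹ (e b)) = 0) → False := by
    intro S hS h
    obtain ⟨i, hi, i', hi', hii⟩ := Finset.one_lt_card.1 (show 1 < (Finset.univ \ S).card by
      rw [Finset.card_sdiff_of_subset (Finset.subset_univ _), Finset.card_univ, hn]; omega)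
    exact col_two H hq (by omega) NF (inv_mem hgM) hg.inv hgm' b i i' hii (h i (Finset.mem_sdiff.1 hi).2)
      (h i' (Finset.mem_sdiff.1 hi').2)
  by_cases hlam : ∃ l : F, l * σ l = 1 ∧ l ^ 6 ≠ 1
  · obtain ⟨l, hl, hl6⟩ := hlam
    have hl0 := nrm_ne_zero hl
    set μ := (l ^ 6)⁻¹
    have hμ : μ * σ μ = 1 := nrm_inv (nrm_pow hl 6)
    let θ : ι → F := fun i => l * if i = b then μ else 1
    have hθn : ∀ i, θ i * σ (θ i) = 1 := fun i => nrm_mul hl (by split_ifs <;> simp [hμ])
    obtain ⟨t, htM, hti, ht⟩ := H.diag_mem θ hθn (by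
      show ∏ i, l * (if i = b then μ else 1) = 1
      rw [Finset.prod_mul_distrib, Finset.prod_const, Finset.card_univ, hn, Finset.prod_ite_eq',
        if_pos (Finset.mem_univ b), mul_inv_cancel₀ (pow_ne_zero 6 hl0)])
    have htL : t (g (e j)) = l • g (e j) := ext_co hon fun i => by
      rw [co_diag hon ht, map_smul, smul_eq_mul]
      by_cases hi : i = b
      · rw [hi, hbj, mul_zero, mul_zero]
      · simp [θ, hi]
    set x := g⁻¹ * t * g⁻¹⁻¹
    have hxi : Iso B x := (hg.inv.mul hti).mul hg.inv.inv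
    have hxj : x (e j) = l • e j := by
      simp only [x, inv_inv, LinearEquiv.mul_apply, htL, map_smul, inv_apply]
    obtain ⟨π, φ, hφ⟩ := Mono.apply' hon
      (NF x (mul_mem (mul_mem (inv_mem hgM) htM) (inv_mem (inv_mem hgM))) hxi j j fun i hi => by
        rw [hxj, co_single hon, if_neg hi])
    let θ' : ι → F := fun i => if i = b then μ else 1
    obtain ⟨t', -, ht', -⟩ := exists_diag hon θ' fun i => by simp only [θ']; split_ifs <;> simp [hμ]
    set y := g⁻¹ * t' * g⁻¹⁻¹
    have hy : ∀ v, y v = l⁻¹ • x v := fun v => by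
      rw [conj_diag hon hg.inv ht', conj_diag hon hg.inv ht, Finset.smul_sum]
      exact Finset.sum_congr rfl fun i _ => by
        rw [smul_smul]; simp only [θ, θ']; congr 1; field_simp
    have hφ' : ∀ i, y (e i) = (l⁻¹ * φ i) • e (π i) := fun i => by rw [hy, hφ, smul_smul]
    have hN : (moved e y).card ≤ 2 * 1 := (card_moved_le hon hφ' (({b} : Finset ι).image fun i => g⁻¹ (e i))
      fun v => conj_small' H hg.inv ht' {b} (fun i hi => by
        rw [Finset.mem_singleton] at hi; simp [θ', hi]) v).trans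
      (Nat.mul_le_mul_left 2 (Finset.card_image_le.trans (by simp)))
    refine finish (moved e y) (by omega) fun i hi => ?_
    have h := co_moved hon hφ' (g⁻¹ (e b)) hi
    rw [show y (g⁻¹ (e b)) = μ • g⁻¹ (e b) by
      simp only [y, LinearEquiv.mul_apply, inv_apply, ht', map_smul, θ', if_true], map_sub, map_smul, smul_eq_mul] at h
    by_contra h0
    exact hl6 (inv_eq_one.1 (mul_right_cancel₀ h0 (by linear_combination h) : μ = 1))
  push Not at hlam
  have h20 : (2 : F) ≠ 0 := by
    intro h2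
    have hsub : U σ ⊆ (Polynomial.nthRoots 3 (1 : F)).toFinset := fun l hl => by
      rw [Multiset.mem_toFinset, Polynomial.mem_nthRoots (by norm_num)]
      have hz : (l ^ 3 - 1) * (l ^ 3 - 1) = 0 := by linear_combination hlam l (mem_U.1 hl) + (1 - l ^ 3) * h2
      exact sub_eq_zero.1 (mul_self_eq_zero.1 hz)
    have := (Finset.card_le_card hsub).trans ((Multiset.toFinset_card_le _).trans (Polynomial.card_nthRoots 3 1))
    rw [card_U hσ] at this
    omega
  have hq5 : qq σ + 1 ≤ 6 := by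
    rw [← card_U hσ]
    have hsub : U σ ⊆ (Polynomial.nthRoots 6 (1 : F)).toFinset := fun l hl => by
      rw [Multiset.mem_toFinset, Polynomial.mem_nthRoots (by omega)]
      exact hlam l (mem_U.1 hl)
    exact (Finset.card_le_card hsub).trans ((Multiset.toFinset_card_le _).trans (Polynomial.card_nthRoots 6 1))
  obtain ⟨a, ha, c, hc, hac, hnorm⟩ := Finset.exists_ne_map_eq_of_card_lt_of_maps_to
    (s := Finset.univ.erase b) (t := (Finset.univ.filter fun r : F => σ r = r).erase 0)
    (f := fun i => B (e i) (g (e j)) * σ (B (e i) (g (e j)))) (by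
      rw [Finset.card_erase_of_mem (by simp), Finset.card_erase_of_mem (Finset.mem_univ b), Finset.card_univ,
        card_fixed]
      omega) (fun i hi => by
      simp only [Finset.coe_erase, Set.mem_diff, Finset.mem_coe, Finset.mem_univ, Set.mem_singleton_iff, true_and] at hi
      simp only [Finset.coe_erase, Set.mem_diff, Finset.mem_coe, Finset.mem_filter, Finset.mem_univ, Set.mem_singleton_iff, true_and]
      exact ⟨nrm_fix hσ _, mul_ne_zero (hL i hi) ((map_ne_zero σ).2 (hL i hi))⟩)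
  rw [Finset.mem_erase] at ha hc
  set La := B (e a) (g (e j))
  set Lc := B (e c) (g (e j))
  have hLa : La ≠ 0 := hL a ha.1
  have hLc : Lc ≠ 0 := hL c hc.1
  set ψ := Lc / La
  have hψ : ψ * σ ψ = 1 := by
    rw [map_div₀, div_mul_div_comm, div_eq_one_iff_eq (mul_ne_zero hLa ((map_ne_zero σ).2 hLa))]
    exact hnorm.symm
  have hψ0 := nrm_ne_zero hψ
  obtain ⟨h, δ, -, hhi, hhd, hh⟩ := exists_mon hon hB (Equiv.swap a c)
    (fun i => if i = a then ψ else if i = c then ψ⁻¹ else 1)
    (fun i => by split_ifs; exacts [hψ, nrm_inv hψ, by simp]) b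
  have hδ : δ = -1 := by
    have h1 := det_of_perm (Equiv.swap a c) hh
    rw [hhd, Equiv.Perm.sign_swap hac] at h1
    have h2 : ∀ i, (if i = b then δ * (if i = a then ψ else if i = c then ψ⁻¹ else 1)
        else if i = a then ψ else if i = c then ψ⁻¹ else 1) =
        (if i = b then δ else 1) * ((if i = a then ψ else 1) * if i = c then ψ⁻¹ else 1) := fun i => by
      by_cases g1 : i = b
      · subst g1; simp [Ne.symm ha.1, Ne.symm hc.1]
      by_cases g2 : i = a
      · subst g2; simp [g1, hac]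
      simp [g1, g2]
    rw [Finset.prod_congr rfl fun i _ => h2 i, Finset.prod_mul_distrib, Finset.prod_mul_distrib] at h1
    simp only [Finset.prod_ite_eq', Finset.mem_univ, if_true, mul_inv_cancel₀ hψ0, mul_one] at h1
    push_cast at h1
    linear_combination h1
  have hha : h (e a) = ψ • e c := by simp [hh, ha.1]
  have hhc : h (e c) = ψ⁻¹ • e a := by simp [hh, hc.1, hac.symm]
  have hhb : h (e b) = δ • e b := by simp [hh, ha.1.symm, hc.1.symm, Equiv.swap_apply_of_ne_of_ne]
  have hho : ∀ i, i ≠ a → i ≠ c → i ≠ b → h (e i) = e i := fun i h1 h2 h3 => by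
    simp [hh, h1, h2, h3, Equiv.swap_apply_of_ne_of_ne]
  have hhM : h ∈ M := H.mono_mem h hhi hhd (mono_of_apply hon hh)
  have hhL : h (g (e j)) = g (e j) := by
    conv_rhs => rw [← expand hon (g (e j))]
    conv_lhs => rw [← expand hon (g (e j)), map_sum]
    rw [← Equiv.sum_comp (Equiv.swap a c) (fun i => B (e i) (g (e j)) • e i)]
    refine Finset.sum_congr rfl fun i _ => ?_
    rw [map_smul]
    by_cases h1 : i = a
    · subst h1; rw [hha, Equiv.swap_apply_left, smul_smul, mul_div_cancel₀ _ hLa]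
    by_cases h2 : i = c
    · subst h2; rw [hhc, Equiv.swap_apply_right, smul_smul]
      congr 1
      show Lc * (Lc / La)⁻¹ = La
      field_simp
    rw [Equiv.swap_apply_of_ne_of_ne h1 h2]
    by_cases h3 : i = b
    · subst h3; rw [hbj]; simp
    · rw [hho i h1 h2 h3]
  set v := ψ • e c - e a with hvdef
  set x := g⁻¹ * h * g with hxdef
  have hxi : Iso B x := (hg.inv.mul hhi).mul hg
  have hxj : x (e j) = e j := by simp only [x, LinearEquiv.mul_apply, hhL, inv_apply]
  obtain ⟨π, φ, hφ⟩ := Mono.apply' hon (NF x (mul_mem (mul_mem (inv_mem hgM) hhM) hgM) hxi j j fun i hi => by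
    rw [hxj, hon, if_neg hi])
  have hN : (moved e x).card ≤ 2 * 2 := by
    refine (card_moved_le hon hφ ({g⁻¹ v, g⁻¹ (e b)} : Finset V) fun y => ?_).trans
      (Nat.mul_le_mul_left 2 Finset.card_le_two)
    have hle : (⊤ : Submodule F V) ≤ Submodule.comap (h.toLinearMap - LinearMap.id)
        (Submodule.span F ({v, e b} : Set V)) := by
      rw [← e.span_eq, Submodule.span_le]
      rintro _ ⟨i, rfl⟩
      show h (e i) - e i ∈ Submodule.span F ({v, e b} : Set V)
      rw [Submodule.mem_span_pair]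
      by_cases h1 : i = a
      · exact ⟨1, 0, by rw [h1, hha, hvdef]; simp⟩
      by_cases h2 : i = c
      · refine ⟨-ψ⁻¹, 0, ?_⟩
        rw [h2, hhc, hvdef, smul_sub, smul_smul, neg_mul, inv_mul_cancel₀ (nrm_ne_zero hψ)]
        simp only [zero_smul, add_zero, neg_smul, one_smul]; abel
      by_cases h3 : i = b
      · exact ⟨0, δ - 1, by rw [h3, hhb]; simp [sub_smul]⟩
      · exact ⟨0, 0, by rw [hho i h1 h2 h3]; simp⟩
    have hmem := hle (Submodule.mem_top (x := g y))
    rw [Submodule.mem_comap] at hmem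
    obtain ⟨p, r, hpr⟩ := Submodule.mem_span_pair.1 hmem
    have e1 : x y - y = g⁻¹ (h (g y) - g y) := by
      rw [map_sub, inv_apply]; rfl
    rw [Finset.coe_insert, Finset.coe_singleton, Submodule.mem_span_pair]
    exact ⟨p, r, by rw [e1, show h (g y) - g y = p • v + r • e b from hpr.symm, map_add, map_smul, map_smul]⟩
  refine finish (moved e x) (by omega) fun i hi => ?_
  have h1 := co_moved hon hφ (g⁻¹ (e b)) hi
  rw [show x (g⁻¹ (e b)) = δ • g⁻¹ (e b) by
    simp only [hxdef, LinearEquiv.mul_apply, apply_inv, hhb, map_smul], map_sub, map_smul, smul_eq_mul, hδ] at h1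
  exact (mul_eq_zero.1 (show (2 : F) * B (e i) (g⁻¹ (e b)) = 0 by linear_combination -h1)).resolve_left h20

/-- some conjugate of a signed pairing is not monomial and has a vanishing entry -/
theorem exists_zero (hq : 3 ≤ qq σ) (hn : Fintype.card ι = 6) {g : V ≃ₗ[F] V} (hgM : g ∈ M) (hg : Iso B g)
    (hz : ∀ b j, B (e b) (g (e j)) ≠ 0) :
    ∃ g' ∈ M, Iso B g' ∧ ¬ Mono B e g' ∧ ∃ b j, B (e b) (g' (e j)) = 0 := by
  classical
  have hon := H.onb
  have hB := H.herm
  have hσ := hB.toIsInvol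
  obtain ⟨μ, hμ, -, hμ3⟩ := exists_order_four hσ hq
  have hμ0 := nrm_ne_zero hμ
  have hσμ : σ μ = μ⁻¹ := eq_sigma_inv hμ
  let E0 : Fin 3 × Bool ≃ ι := (Fintype.equivFinOfCardEq (α := Fin 3 × Bool) (by simp)).trans
    (Fintype.equivFinOfCardEq (α := ι) hn).symm
  set a := E0 (0, false)
  let u : ι → F := fun i => B (e a) (g (e i))
  have hu : ∀ i, u i ≠ 0 := fun i => hz a i
  -- two indices whose norms differ by a square
  obtain ⟨f0, f1, hff, s, hs, hs2⟩ : ∃ f0 f1, f0 ≠ f1 ∧ ∃ s : F, σ s = s ∧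
      s * s = u f0 * σ (u f0) * (u f1 * σ (u f1)) := by
    letI : Fintype (Herm.fixField σ) := Fintype.ofFinite _
    let N : ι → Herm.fixField σ := fun i => ⟨u i * σ (u i), Herm.mem_fixField.2 (nrm_fix hσ _)⟩
    have hN : ∀ i, N i ≠ 0 := fun i h => mul_ne_zero (hu i) ((map_ne_zero σ).2 (hu i)) (congrArg Subtype.val h)
    obtain ⟨f0, f1, hne, heq⟩ := Fintype.exists_ne_map_eq_of_card_lt
      (fun i => decide (quadraticChar (Herm.fixField σ) (N i) = 1)) (by simp [hn])
    have h1 : quadraticChar (Herm.fixField σ) (N f0 * N f1) = 1 := by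
      rw [map_mul]
      simp only [decide_eq_decide] at heq
      rcases quadraticChar_dichotomy (hN f0) with h | h <;> rcases quadraticChar_dichotomy (hN f1) with h' | h' <;>
        simp_all
    obtain ⟨r, hr⟩ := (quadraticChar_one_iff_isSquare (mul_ne_zero (hN f0) (hN f1))).1 h1
    exact ⟨f0, f1, hne, r.1, Herm.mem_fixField.1 r.2, (congrArg Subtype.val hr).symm⟩
  let p := E0 (2, false)
  let r := E0 (2, true)
  have hpr : p ≠ r := by simp [p, r]
  let τ : Equiv.Perm ι := (Equiv.swap p f0).trans (Equiv.swap (Equiv.swap p f0 r) f1)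
  let E : Fin 3 × Bool ≃ ι := E0.trans τ
  have hE0 : E (2, false) = f0 := by
    show Equiv.swap (Equiv.swap p f0 r) f1 (Equiv.swap p f0 p) = f0
    rw [Equiv.swap_apply_left]
    refine Equiv.swap_apply_of_ne_of_ne (fun h => hpr ((Equiv.swap p f0).injective ?_)) hff
    rw [Equiv.swap_apply_left]; exact h
  have hE1 : E (2, true) = f1 := Equiv.swap_apply_left _ _
  let c : Fin 3 → F := fun k => σ (u (E (k, false))) * u (E (k, true))
  have hc : ∀ k, c k ≠ 0 := fun k => mul_ne_zero ((map_ne_zero σ).2 (hu _)) (hu _)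
  have hc2 : c 2 * σ (c 2) = s * s := by
    rw [hs2]; simp only [c, hE0, hE1, map_mul, hσ.invol]; ring
  have hs0 : s ≠ 0 := fun h => mul_ne_zero (hc 2) ((map_ne_zero σ).2 (hc 2)) (by rw [hc2, h, zero_mul])
  -- two circles on one line
  let Rs : F → Finset F := fun d => (U σ).image fun x => x * d - μ * σ (x * d)
  set Ln := Finset.univ.filter fun y : F => μ * σ y = -y
  have hRL : ∀ d, Rs d ⊆ Ln := fun d y hy => by
    obtain ⟨x, -, rfl⟩ := Finset.mem_image.1 hy
    refine Finset.mem_filter.2 ⟨Finset.mem_univ _, ?_⟩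
    rw [map_sub, map_mul σ μ, hσ.invol, hσμ, mul_sub, ← mul_assoc, mul_inv_cancel₀ hμ0]
    ring
  have hLn : Ln.card ≤ qq σ := by
    rw [← card_fixed (σ := σ)]
    by_cases h : ∀ y ∈ Ln, y = 0
    · exact (Finset.card_le_one.2 fun x hx y hy => (h x hx).trans (h y hy).symm).trans (Finset.card_pos.2 ⟨0, by simp⟩)
    push Not at h
    obtain ⟨y0, hy0, hy00⟩ := h
    refine Finset.card_le_card_of_injOn (fun y => y / y0) (fun y hy => ?_) fun y _ y' _ e => ?_
    · simp only [Ln, Finset.mem_filter, Finset.mem_coe] at hy hy0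
      refine Finset.mem_filter.2 ⟨Finset.mem_univ _, ?_⟩
      rw [map_div₀, ← mul_div_mul_left (σ y) (σ y0) hμ0, hy.2, hy0.2, neg_div_neg_eq]
    · exact (div_left_inj' hy00).1 e
  have hR : ∀ d, d ≠ 0 → qq σ + 1 ≤ 2 * (Rs d).card := by
    intro d hd
    rw [← card_U hσ]
    refine Finset.card_le_mul_card_image_of_maps_to (fun x hx => Finset.mem_image_of_mem _ hx) 2 fun T _ => ?_
    refine quad_le_two (a := d) (b := -T) (c := -(μ * σ d)) hd fun x hx => ?_
    rw [Finset.mem_filter, mem_U, map_mul] at hx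
    linear_combination x * hx.2 + μ * σ d * hx.1
  obtain ⟨ψ0, hψ0, ψ1, hψ1, hsum⟩ : ∃ x, x * σ x = 1 ∧ ∃ y, y * σ y = 1 ∧
      x * c 0 - μ * σ (x * c 0) + (y * c 1 - μ * σ (y * c 1)) = 0 := by
    have h1 := hR (c 0) (hc 0)
    have h2 := hR (c 1) (hc 1)
    have h3 : ((Rs (c 1)).image fun y => -y).card = (Rs (c 1)).card := Finset.card_image_of_injective _ neg_injective
    have h4 : Rs (c 0) ∪ ((Rs (c 1)).image fun y => -y) ⊆ Ln := by
      refine Finset.union_subset (hRL _) fun y hy => ?_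
      obtain ⟨z, hz, rfl⟩ := Finset.mem_image.1 hy
      have := hRL _ hz
      simp only [Ln, Finset.mem_filter, Finset.mem_univ, true_and] at this ⊢
      rw [map_neg, mul_neg, this]
    have h5 := Finset.card_inter_add_card_union (Rs (c 0)) ((Rs (c 1)).image fun y => -y)
    have h6 := (Finset.card_le_card h4).trans hLn
    obtain ⟨T, hT⟩ := Finset.card_pos.1 (show 0 < (Rs (c 0) ∩ (Rs (c 1)).image fun y => -y).card by omega)
    simp only [Rs, Finset.mem_inter, Finset.mem_image, mem_U] at hT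
    obtain ⟨⟨x, hx, hxT⟩, z, ⟨y, hy, hyz⟩, hzT⟩ := hT
    exact ⟨x, hx, y, hy, by linear_combination hxT + hyz - hzT⟩
  let ψ : Fin 3 → F := ![ψ0, ψ1, μ⁻¹ * (s / c 2)]
  let m : Fin 3 → F := ![μ, μ, (μ * μ)⁻¹]
  have hψn : ∀ k, ψ k * σ (ψ k) = 1 := fun k => by
    fin_cases k
    · exact hψ0
    · exact hψ1
    · refine nrm_mul (nrm_inv hμ) ?_
      rw [map_div₀, hs, div_mul_div_comm, hc2, div_self (mul_ne_zero hs0 hs0)]
  have hmn : ∀ k, m k * σ (m k) = 1 := fun k => by
    fin_cases k
    exacts [hμ, hμ, nrm_inv (nrm_mul hμ hμ)]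
  let wt : ι → F := fun i => if (E.symm i).2 then -(m (E.symm i).1 * σ (ψ (E.symm i).1)) else ψ (E.symm i).1
  let π : Equiv.Perm ι := E.permCongr (Equiv.prodCongrRight fun _ => Equiv.swap false true)
  have hπ : ∀ k x, π (E (k, x)) = E (k, !x) := fun k x => by cases x <;> simp [π, Equiv.permCongr_apply]
  have hsgn : Equiv.Perm.sign π = (-1) ^ 3 := by simp [π, Equiv.Perm.sign_prodCongrRight]
  have hcases : ∀ i, ∃ k x, i = E (k, x) := fun i => ⟨(E.symm i).1, (E.symm i).2, by simp⟩
  have hwf : ∀ k, wt (E (k, false)) = ψ k := fun k => by simp [wt]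
  have hwt : ∀ k, wt (E (k, true)) = -(m k * σ (ψ k)) := fun k => by simp [wt]
  have hwn : ∀ i, wt i * σ (wt i) = 1 := fun i => by
    obtain ⟨k, x, rfl⟩ := hcases i
    cases x
    · rw [hwf]; exact hψn k
    · rw [hwt, map_neg, neg_mul_neg]; exact nrm_mul (hmn k) (nrm_conj hσ (hψn k))
  let bb := e.reindex π.symm
  let h := e.equiv (bb.unitsSMul fun i => Units.mk0 (wt i) (nrm_ne_zero (hwn i))) (Equiv.refl ι)
  have h0 : ∀ i, h (e i) = wt i • e (π i) := fun i => by
    simp [h, bb, Basis.unitsSMul_apply, Units.smul_def]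
  have hhi : Iso B h := iso_of_basis hon fun i j => by
    simp only [h0, map_smulₛₗ, LinearMap.smul_apply, smul_eq_mul, RingHom.id_apply, hon _ _, π.injective.eq_iff]
    split_ifs with hij
    · subst hij; linear_combination hwn i
    · simp
  have hhd : LinearMap.det h.toLinearMap = 1 := by
    rw [det_of_perm π h0, hsgn, ← Equiv.prod_comp E, Fintype.prod_prod_type]
    have : ∀ k, ∏ x : Bool, wt (E (k, x)) = -m k := fun k => by
      simp [hwf, hwt]; linear_combination (m k) * hψn k
    rw [Finset.prod_congr rfl fun k _ => this k, Fin.prod_univ_three]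
    simp [m]
    field_simp
  set x := g * h * g⁻¹
  have hxi : Iso B x := (hg.mul hhi).mul hg.inv
  have hxg : ∀ i, x (g (e i)) = wt i • g (e (π i)) := fun i => by
    simp only [x, LinearEquiv.mul_apply, inv_apply, h0, map_smul]
  refine ⟨x, mul_mem (mul_mem hgM (H.mono_mem h hhi hhd (mono_of_apply hon h0))) (inv_mem hgM), hxi, fun hm => ?_,
    a, a, ?_⟩
  · -- the square is diagonal with unequal multiplicities
    let θ : ι → F := fun i => -m (E.symm i).1
    obtain ⟨t, ht, -⟩ := exists_diag_equiv (e := e) θ fun i => neg_ne_zero.2 (nrm_ne_zero (hmn _))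
    have hxx : x * x = g * t * g⁻¹ := LinearEquiv.toLinearMap_injective ((e.map g).ext fun i => by
      obtain ⟨k, v, rfl⟩ := hcases i
      simp only [Basis.map_apply, LinearEquiv.coe_coe, LinearEquiv.mul_apply, hxg, map_smul, inv_apply, ht, hπ,
        smul_smul, Bool.not_not]
      congr 1
      cases v <;> simp [hwf, hwt, θ] <;> linear_combination (m k) * hψn k)
    have hme := mult_eq hon ht (hxx ▸ Mono.mul' hon hm hm) hz
    have hθ : ∀ k v, θ (E (k, v)) = -m k := fun k v => by simp [θ]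
    have h4 : ({E (0, false), E (0, true), E (1, false), E (1, true)} : Finset ι) ⊆
        Finset.univ.filter fun l => θ l = θ (E (0, false)) := by
      intro l hl
      simp only [Finset.mem_insert, Finset.mem_singleton] at hl
      rcases hl with rfl | rfl | rfl | rfl <;> simp [hθ, m]
    have h2 : (Finset.univ.filter fun l => θ l = θ (E (2, false))) ⊆ {E (2, false), E (2, true)} := by
      intro l hl
      obtain ⟨k, v, rfl⟩ := hcases l
      have hne : μ ≠ (μ * μ)⁻¹ := fun h => hμ3 (by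
        have := mul_inv_cancel₀ (mul_ne_zero hμ0 hμ0)
        rw [← h] at this; linear_combination this)
      simp only [Finset.mem_filter, hθ, neg_inj] at hl
      fin_cases k
      · exact absurd hl.2 (by simpa [m] using hne)
      · exact absurd hl.2 (by simpa [m] using hne)
      · cases v <;> simp
    have c4 := Finset.card_le_card h4
    have c2 := (Finset.card_le_card h2).trans Finset.card_le_two
    rw [Finset.card_insert_of_notMem (by simp), Finset.card_insert_of_notMem (by simp), Finset.card_pair (by simp),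
      hme (E (0, false)) (E (2, false))] at c4
    omega
  · rw [LinearEquiv.mul_apply, LinearEquiv.mul_apply]
    conv_lhs => rw [← expand hon (g⁻¹ (e a))]
    simp only [map_sum, map_smul, h0, smul_eq_mul]
    have h1 : ∀ i, B (e i) (g⁻¹ (e a)) = σ (u i) := fun i => by
      rw [hg.inv.adj, inv_inv, ← hB.symm]
    rw [← Equiv.sum_comp E, Fintype.sum_prod_type]
    simp only [Fintype.sum_bool, h1, hπ, Bool.not_true, Bool.not_false, hwf, hwt]
    have : ∀ k, σ (u (E (k, true))) * (-(m k * σ (ψ k)) * u (E (k, false))) +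
        σ (u (E (k, false))) * (ψ k * u (E (k, true))) = ψ k * c k - m k * σ (ψ k * c k) := fun k => by
      simp [c, map_mul, hσ.invol]; ring
    rw [Finset.sum_congr rfl fun k _ => this k, Fin.sum_univ_three]
    have e2 : ψ 2 * c 2 - m 2 * σ (ψ 2 * c 2) = 0 := by
      have : ψ 2 * c 2 = μ⁻¹ * s := by
        show μ⁻¹ * (s / c 2) * c 2 = μ⁻¹ * s
        rw [mul_assoc, div_mul_cancel₀ _ (hc 2)]
      rw [this, map_mul, map_inv₀, hσμ, hs]
      show μ⁻¹ * s - (μ * μ)⁻¹ * (μ⁻¹⁻¹ * s) = 0
      field_simp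
      ring
    rw [e2, add_zero]
    exact hsum

/-- there is a non-monomial element fixing a coordinate line -/
theorem exists_fix (hq : 3 ≤ qq σ) (hn : Fintype.card ι = 6) {g : V ≃ₗ[F] V} (hgM : g ∈ M) (hg : Iso B g)
    (hgm : ¬ Mono B e g) : ∃ x ∈ M, Iso B x ∧ ¬ Mono B e x ∧ ∃ (a : ι) (c : F), x (e a) = c • e a := by
  classical
  by_contra hno
  push Not at hno
  have NF : NoFix B e M := fun x hxM hx a d hd => by
    by_contra hxm
    have hxa := eq_single H.onb hd
    obtain ⟨m, δ, -, hmi, hmd, hm⟩ := exists_mon H.onb H.herm (Equiv.swap a d) (fun _ => 1) (fun _ => by simp) a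
    have hmm : Mono B e m := mono_of_apply H.onb hm
    refine hno (m * x) (mul_mem (H.mono_mem m hmi hmd hmm) hxM) (hmi.mul hx)
      (fun h => hxm (by simpa using Mono.mul' H.onb (Mono.inv' H.onb hmm) h)) a
      (B (e d) (x (e a)) * if d = a then δ * 1 else 1) ?_
    rw [LinearEquiv.mul_apply]
    conv_lhs => rw [hxa, map_smul, hm, Equiv.swap_apply_right, smul_smul]
  by_cases hz : ∃ b j, B (e b) (g (e j)) = 0
  · obtain ⟨b, j, hbj⟩ := hz
    exact zero_false H hq hn NF hgM hg hgm hbj
  push Not at hz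
  obtain ⟨g', h1, h2, h3, b, j, hbj⟩ := exists_zero H hq hn hgM hg hz
  exact zero_false H hq hn NF h1 h2 h3 hbj

/-- the monomial case in dimension six -/
theorem mono_centres (hq : 3 ≤ qq σ) (hn : Fintype.card ι = 6) {g : V ≃ₗ[F] V} (hgM : g ∈ M) (hg : Iso B g)
    (hgm : ¬ Mono B e g) : ∀ v, B v v = 0 → v ∈ centres B M := by
  classical
  have : Nonempty ι := Fintype.card_pos_iff.1 (by omega)
  obtain ⟨x, hxM, hxi, hxm, a, cc, hxa⟩ := exists_fix H hq hn hgM hg hgm
  obtain ⟨v, hv, hv0, hva⟩ := centre_of_fix H hxM hxi hxm hxa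
  exact all_big H.onb H.herm (two_places H hv hv0 hva) hq

end Six

end Cfsg.Agent.UnitDec
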